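import Cfsg.Agent.Lib.QuatDefect.Contrib
import Cfsg.Agent.Lib.TwoGroups.Semidihedral
import Cfsg.Agent.S4434
import Cfsg.Agent.S4528

/-!
# When the central involution of the defect group is central in the group

The members split by the sign of the central involution; the number of members is
`2 ^ m + 2` plus the rank.
-/

set_option autoImplicit false
set_option linter.unusedSectionVars false
set_option linter.unusedSimpArgs false
set_option linter.style.haveILetI false

namespace CfsgLib.QuatDefect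

open Cfsg CfsgLib.Blocks CfsgLib.Characters CfsgLib.Contribution CfsgLib.NilBlk CfsgLib.BrauerPairs
open scoped Classical ComplexConjugate

universe u

variable {G : Type u} [Group G] [Fintype G] [Fact (Nat.Prime 2)] {M : Ideal AlgInt} [M.IsMaximal]
  {hM : IsPModular 2 M} {B : Set (IrrCharacter G)} {D : Subgroup G} {m : ℕ} {S : QD D m}
  (hc : S.z ∈ Subgroup.center G)

namespace Loc

variable (L : Loc hM B S)

/-- The central involution inside the local group. -/
def zH : S.H := ⟨S.z, S.D_le S.z_mem⟩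

/-- The central involution inside the defect group of the local block. -/
def zP : Pd D S := ⟨zH, S.z_mem⟩

include hc in
theorem zH_center : (zH (S := S)) ∈ Subgroup.center S.H :=
  Subgroup.mem_center_iff.2 fun c => Subtype.ext (Subgroup.mem_center_iff.1 hc (c : G))

/-- The scalar on the chosen character. -/
noncomputable def lam0 : ℂ := (L.xi : S.H → ℂ) (zH (S := S)) / (L.xi : S.H → ℂ) 1

/-- The scalar on a character of `G`. -/
noncomputable def eps (S : QD D m) (χ : IrrCharacter G) : ℂ := (χ : G → ℂ) S.z / (χ : G → ℂ) 1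

theorem pm_of_central {A : Type u} [Group A] [Fintype A] (ξ : IrrCharacter A) {z : A}
    (hz : z ∈ Subgroup.center A) (h2 : z ^ 2 = 1) :
    (ξ : A → ℂ) z / (ξ : A → ℂ) 1 = 1 ∨ (ξ : A → ℂ) z / (ξ : A → ℂ) 1 = -1 := by
  refine mul_self_eq_one_iff.1 ?_
  have h := CentralDefect.apply_central_mul ξ hz z
  rw [← sq, h2] at h
  have hne := irr_one_ne_zero ξ
  field_simp
  field_simp at h
  linear_combination -h

theorem z_sq : S.z ^ 2 = 1 := by rw [← S.orderOf_z, pow_orderOf_eq_one]

include hc in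
theorem lam0_pm : L.lam0 = 1 ∨ L.lam0 = -1 :=
  pm_of_central L.xi (zH_center hc) (Subtype.ext z_sq)

include hc in
theorem eps_pm (χ : IrrCharacter G) : eps S χ = 1 ∨ eps S χ = -1 := pm_of_central χ hc z_sq

include hc in
/-- The products at a translate by the central involution. -/
theorem st_mul_z {f : Pd D S → ℂ} (hf : IsClassFunction _ f) (x : S.H) :
    L.st f (x * zH) = L.lam0 * L.st (fun p => f (p * zP)) x := by
  choose η hη1 hη using fun lam : IrrCharacter (Pd D S) => L.exists_st_irr lam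
  have hzP : (zP (S := S)) ∈ Subgroup.center (Pd D S) := Subgroup.mem_center_iff.2 fun c =>
    Subtype.ext (Subgroup.mem_center_iff.1 (zH_center hc) (c : S.H))
  have hzh : (zH (S := S)) ∈ Subgroup.center S.H := zH_center hc
  have hexp : ∀ p, f p = ∑ lam : IrrCharacter (Pd D S),
      classInner f (lam : Pd D S → ℂ) * (lam : Pd D S → ℂ) p := fun p => by
    conv_lhs => rw [classFunction_eq_sum hf]
    simp
  have hη' : ∀ lam : IrrCharacter (Pd D S), (η lam : S.H → ℂ) (x * zH) =
      L.lam0 * ((lam : Pd D S → ℂ) zP / (lam : Pd D S → ℂ) 1) * (η lam : S.H → ℂ) x := by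
    intro lam
    have hu : ∃ i : ℕ, orderOf (zH (S := S)) = 2 ^ i := ⟨1, by
      rw [pow_one, ← Subgroup.orderOf_coe]; exact S.orderOf_z⟩
    have hmem : (1 : S.H) ∈ cz (Subgroup.zpowers (zH (S := S))) := one_mem _
    have h1 : (η lam : S.H → ℂ) zH = (lam : Pd D S → ℂ) zP * (L.xi : S.H → ℂ) zH := by
      have h := starC_of_weight (s := (⟨1, hmem⟩ : cz (Subgroup.zpowers (zH (S := S)))))
        L.nil.star.isPBlockB L.mem hu (by rw [Subgroup.orderOf_mk, orderOf_one]; decide)
        ((lam : Pd D S → ℂ) zP) (fun c hc' hcov => by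
          obtain ⟨t, ht⟩ := L.nil.star.exists_conj (BPStar.isPGroup_zpowers hu) hc' hcov
          rw [wC_eq L.nil (irr_isClassFunction lam) ht]
          refine congrArg _ (Subtype.ext ?_)
          show t * zH * t⁻¹ = zH
          rw [Subgroup.mem_center_iff.1 hzh t, mul_inv_cancel_right])
      simp only [mul_one] at h
      rw [hη]
      exact h
    have h2 : (η lam : S.H → ℂ) 1 = (lam : Pd D S → ℂ) 1 * (L.xi : S.H → ℂ) 1 := by
      rw [hη, L.st_regular (irr_isClassFunction lam) (by rw [orderOf_one]; decide)]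
    rw [Subgroup.mem_center_iff.1 hzh x, CentralDefect.apply_central_mul _ hzh, h1, h2, lam0]
    have := irr_one_ne_zero L.xi
    have := irr_one_ne_zero lam
    field_simp
  have hfz : (fun p => f (p * zP)) = fun p => ∑ lam : IrrCharacter (Pd D S),
      (classInner f (lam : Pd D S → ℂ) * ((lam : Pd D S → ℂ) zP / (lam : Pd D S → ℂ) 1)) *
        (lam : Pd D S → ℂ) p := by
    funext p
    rw [hexp]
    refine Finset.sum_congr rfl fun lam _ => ?_
    rw [Subgroup.mem_center_iff.1 hzP p, CentralDefect.apply_central_mul _ hzP, mul_assoc]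
  conv_lhs => rw [show f = fun p => ∑ lam : IrrCharacter (Pd D S),
      classInner f (lam : Pd D S → ℂ) * (lam : Pd D S → ℂ) p from funext hexp]
  rw [hfz, L.st_linear Finset.univ _ (fun (lam : IrrCharacter (Pd D S)) p => (lam : Pd D S → ℂ) p)
    (fun lam => irr_isClassFunction lam), L.st_linear Finset.univ _
    (fun (lam : IrrCharacter (Pd D S)) p => (lam : Pd D S → ℂ) p)
    (fun lam => irr_isClassFunction lam), Finset.mul_sum]
  refine Finset.sum_congr rfl fun lam _ => ?_
  rw [← hη, hη']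
  ring

include hc in
/-- The multiplicities at a translate. -/
theorem T_mul_z {f : Pd D S → ℂ} (hf : IsClassFunction _ f) (χ : IrrCharacter G) :
    L.lam0 * L.T (fun p => f (p * zP)) χ = eps S χ * L.T f χ := by
  have hz2 : (zH (S := S)) * zH = 1 := Subtype.ext (by rw [Subgroup.coe_mul, ← sq]; exact z_sq)
  have he : conj (eps S χ) = eps S χ := by
    rcases eps_pm hc χ with e | e <;> rw [e] <;> simp
  rw [T, T, classInner, classInner, ← Equiv.sum_comp (Equiv.mulRight (zH (S := S)))
    (fun x => L.st f x * conj ((χ : G → ℂ) (x : G)))]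
  simp only [Finset.mul_sum]
  refine Finset.sum_congr rfl fun x _ => ?_
  simp only [Equiv.coe_mulRight]
  rw [L.st_mul_z hc hf, Subgroup.coe_mul, show ((zH (S := S) : S.H) : G) = S.z from rfl,
    Subgroup.mem_center_iff.1 hc (x : G), CentralDefect.apply_central_mul χ hc, map_mul,
    show (χ : G → ℂ) S.z / (χ : G → ℂ) 1 = eps S χ from rfl, he]
  rcases eps_pm hc χ with e | e <;> rw [e] <;> ring

/-- The sign of a character. -/
noncomputable def sgn (χ : IrrCharacter G) : ℤ := if eps S χ = L.lam0 then 1 else -1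

theorem sgn_pm (χ : IrrCharacter G) : L.sgn χ = 1 ∨ L.sgn χ = -1 := by
  unfold sgn; split_ifs <;> simp

include hc in
theorem sgn_cast (χ : IrrCharacter G) : (L.sgn χ : ℂ) = L.lam0 * eps S χ := by
  rcases L.lam0_pm hc with h | h <;> rcases eps_pm hc χ with e | e <;> rw [sgn, h, e] <;> norm_num

theorem stdAddChar_half_mul (k : ZMod (2 * 2 ^ m)) :
    (ZMod.stdAddChar (k * QD.half m) : ℂ) = if QD.par m k = 0 then 1 else -1 := by
  haveI : NeZero (2 * 2 ^ m) := ⟨by positivity⟩
  have h2 : QD.half m + QD.half m = 0 := by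
    rw [← two_mul, QD.half]; exact QD.cast_two_pow_eq_zero
  have hm1 : (ZMod.stdAddChar (QD.half m) : ℂ) = -1 := by
    have h1 : (ZMod.stdAddChar (QD.half m) : ℂ) * ZMod.stdAddChar (QD.half m) = 1 := by
      rw [← AddChar.map_add_eq_mul, h2, AddChar.map_zero_eq_one]
    refine (mul_self_eq_one_iff.1 h1).resolve_left fun h => ?_
    have h3 : QD.half m = 0 := ZMod.injective_stdAddChar (h.trans (AddChar.map_zero_eq_one _).symm)
    rw [QD.half, ZMod.natCast_eq_zero_iff] at h3
    have := Nat.le_of_dvd (Nat.two_pow_pos m) h3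
    have := Nat.two_pow_pos m
    omega
  conv_lhs => rw [← ZMod.natCast_zmod_val k, ← nsmul_eq_mul, AddChar.map_nsmul_eq_pow, hm1]
  rw [show QD.par m k = ((k.val : ℕ) : ZMod 2) by
    conv_lhs => rw [← ZMod.natCast_zmod_val k]
    rw [map_natCast]]
  rcases Nat.even_or_odd k.val with he | ho
  · rw [he.neg_one_pow, if_pos ((ZMod.natCast_eq_zero_iff_even).2 he)]
  · rw [ho.neg_one_pow, if_neg fun h => Nat.not_even_iff_odd.2 ho (ZMod.natCast_eq_zero_iff_even.1 h)]

theorem pairP_mul_z (j : ZMod (2 * 2 ^ m)) (p : Pd D S) :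
    pairP j (p * zP) = (if QD.par m j = 0 then 1 else -1) * pairP j p := by
  have hz : ((zP (S := S) : S.H) : G) = S.rot (QD.half m) := rfl
  obtain ⟨s, h | h⟩ := S.exists_elem (g := ((p : S.H) : G)) p.2
  · rw [pairP, pairP, Subgroup.coe_mul, Subgroup.coe_mul, hz, h, ← S.rot_add, S.pair_rot, S.pair_rot,
      mul_add (j : ZMod (2 * 2 ^ m)), mul_add ((S.a : ZMod (2 * 2 ^ m)) * j), AddChar.map_add_eq_mul,
      AddChar.map_add_eq_mul, stdAddChar_half_mul, stdAddChar_half_mul, map_mul (QD.par m),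
      show QD.par m (S.a : ZMod (2 * 2 ^ m)) = 1 from S.par_α, one_mul]
    ring
  · rw [pairP, pairP, Subgroup.coe_mul, Subgroup.coe_mul, hz, h]
    have : S.rot s * S.τ * S.rot (QD.half m) = S.rot (s + QD.half m) * S.τ := by
      rw [S.rot_add, mul_assoc, mul_assoc]
      exact congrArg _ (S.z_comm S.τ_mem)
    rw [this, S.pair_outside, S.pair_outside, mul_zero]

include hc in
theorem dl_sign {i j : ZMod (2 * 2 ^ m)} (h : QD.par m i = QD.par m j) {χ : IrrCharacter G}
    (hne : L.dl i j χ ≠ 0) : L.sgn χ = if QD.par m i = 0 then 1 else -1 := by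
  have hcf := (isRot_sub (S := S) h).cf
  have h1 := L.T_mul_z hc hcf χ
  have h2 : L.T (fun p => pairP i (p * zP) - pairP j (p * zP)) χ =
      (if QD.par m i = 0 then 1 else -1) * L.T (fun p => pairP i p - pairP j p) χ := by
    have := L.T_linear (Finset.univ : Finset Unit) (fun _ => if QD.par m i = 0 then 1 else -1)
      (fun _ p => pairP i p - pairP j p) (fun _ => hcf) χ
    simp only [Fintype.sum_unique] at this
    rw [← this]
    congr 1
    funext p
    rw [pairP_mul_z, pairP_mul_z, ← h]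
    ring
  rw [h2, ← dl_spec] at h1
  have h3 : (L.sgn χ : ℂ) = if QD.par m i = 0 then 1 else -1 := by
    rw [L.sgn_cast hc]
    have hd : (L.dl i j χ : ℂ) ≠ 0 := Int.cast_ne_zero.2 hne
    refine mul_right_cancel₀ hd ?_
    rcases L.lam0_pm hc with e | e <;> rw [e] at h1 ⊢ <;>
      first | linear_combination -h1 | linear_combination h1
  rw [← Int.cast_inj (α := ℂ), h3]
  split_ifs <;> simp

include hc in
theorem sum_sgn_zero {a : members B → ℤ}
    (ha : ∀ g : G, ¬ 2 ∣ orderOf g →
      ∑ k, (a k : ℂ) * ((k : IrrCharacter G) : G → ℂ) (S.z * g) = 0)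
    {g : G} (hg : ¬ 2 ∣ orderOf g) :
    ∑ k : members B, ((L.sgn (k : IrrCharacter G) * a k : ℤ) : ℂ) *
      ((k : IrrCharacter G) : G → ℂ) g = 0 := by
  calc _ = L.lam0 * ∑ k, (a k : ℂ) * ((k : IrrCharacter G) : G → ℂ) (S.z * g) := by
        rw [Finset.mul_sum]
        refine Finset.sum_congr rfl fun k _ => ?_
        rw [CentralDefect.apply_central_mul _ hc, Int.cast_mul, L.sgn_cast hc, eps]
        ring
    _ = 0 := by rw [ha g hg, mul_zero]

variable [Fintype (ConjClasses G)]

/-- The signed contributions. -/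
noncomputable def cs (i j : members B) : ℤ :=
  L.sgn (i : IrrCharacter G) * L.sgn (j : IrrCharacter G) * c₁ i j

theorem sgn_sq (χ : IrrCharacter G) : L.sgn χ * L.sgn χ = 1 := by
  rcases L.sgn_pm χ with e | e <;> rw [e] <;> norm_num

include L in
theorem ctype_c₁' : CType (rd (B := B)) (4 * 2 ^ m) c₁ :=
  L.two_pow_defect ▸ ctype_c₁ hM L.isPBlockB

theorem ctype_cs : CType (rd (B := B)) (4 * 2 ^ m) L.cs := by
  have h := L.ctype_c₁'
  refine ⟨fun i j => ?_, fun i j => ?_, fun i j hj => ?_, fun i j k hj hk => ?_, fun i k hk hdk => ?_⟩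
  · rw [cs, cs, h.symm i j]; ring
  · rw [show ∑ k, L.cs i k * L.cs k j = ∑ k, L.sgn (i : IrrCharacter G) * L.sgn (j : IrrCharacter G) *
      (c₁ i k * c₁ k j) from Finset.sum_congr rfl fun k _ => by
        simp only [cs]
        linear_combination (L.sgn (i : IrrCharacter G) * L.sgn (j : IrrCharacter G) * c₁ i k * c₁ k j) *
          L.sgn_sq (k : IrrCharacter G), ← Finset.mul_sum, h.mul i j, cs]
    ring
  · refine mul_ne_zero (mul_ne_zero ?_ ?_) (h.ne i j hj) <;>
    · intro e
      rcases L.sgn_pm (i : IrrCharacter G) with e' | e' <;>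
        rcases L.sgn_pm (j : IrrCharacter G) with e'' | e'' <;> omega
  · exact Dvd.dvd.mul_left (h.dvd i j k hj hk) _
  · exact Dvd.dvd.mul_left (h.dvd_diag i k hk hdk) _

include hc in
theorem horth_cs (i j : members B) : ∑ k, c₁ i k * L.cs k j = 0 := by
  have h0 : ∑ k, c₁ j k * (L.sgn (k : IrrCharacter G) * c₁ i k) = 0 :=
    sum_c₁_mul hM L.isPBlockB (fun g hg => L.sum_sgn_zero hc (fun g' hg' => by
      rw [sum_c₁_apply hM L.isPBlockB, if_neg]
      intro hreg
      refine hreg ?_
      have hcm : Commute S.z g' := (Subgroup.mem_center_iff.1 hc g').symm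
      rw [hcm.orderOf_mul_eq_mul_orderOf_of_coprime
        (by rw [Nat.Coprime, S.orderOf_z]; exact (Nat.prime_two.coprime_iff_not_dvd).2 hg'),
        S.orderOf_z]
      exact dvd_mul_right 2 _) hg) j
  calc ∑ k, c₁ i k * L.cs k j = L.sgn (j : IrrCharacter G) *
      ∑ k, c₁ j k * (L.sgn (k : IrrCharacter G) * c₁ i k) := by
        rw [Finset.mul_sum]
        refine Finset.sum_congr rfl fun k _ => ?_
        rw [cs, L.ctype_c₁'.symm k j]; ring
    _ = 0 := by rw [h0, mul_zero]

include hc in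
theorem orth_dl {i j : ZMod (2 * 2 ^ m)} (h : QD.par m i = QD.par m j) (x : members B) :
    ∑ k, c₁ x k * L.dl i j (k : IrrCharacter G) = 0 ∧
      ∑ k, L.cs x k * L.dl i j (k : IrrCharacter G) = 0 := by
  refine ⟨sum_c₁_mul hM L.isPBlockB (fun g hg => L.sum_dl_small h (small_of_regular hg)) x, ?_⟩
  have h0 := sum_c₁_mul hM L.isPBlockB (a := fun k : members B =>
    L.sgn (k : IrrCharacter G) * L.dl i j (k : IrrCharacter G)) (fun g hg =>
      L.sum_sgn_zero hc (fun g' hg' => L.sum_dl_small h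
        (small_of_section S.orderOf_z (Subgroup.mem_center_iff.1 hc g').symm hg')) hg) x
  calc _ = L.sgn (x : IrrCharacter G) *
      ∑ k, c₁ x k * (L.sgn (k : IrrCharacter G) * L.dl i j (k : IrrCharacter G)) := by
        rw [Finset.mul_sum]
        refine Finset.sum_congr rfl fun k _ => ?_
        rw [cs]; ring
    _ = 0 := by rw [h0, mul_zero]

/-- The vectors with the two projections. -/
noncomputable def pairC (hm : 2 ≤ m) : Pair (members B) m where
  toGraded := L.graded hm
  c := c₁
  c' := L.cs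
  hc := L.ctype_c₁'
  hc' := L.ctype_cs
  horth := L.horth_cs hc
  orthU := L.orth_dl hc (par_zero_half (S := S))
  orthP i e := L.orth_dl hc (par_ev_zero (S := S) e) i
  orthW i a b := L.orth_dl hc (par_od (S := S) a b) i

include hc in
theorem sgn_U (i : members B) (h : L.U i ≠ 0) : L.sgn (i : IrrCharacter G) = 1 := by
  rw [L.dl_sign hc (par_zero_half (S := S)) h, if_pos (map_zero _)]

include hc in
theorem sgn_P (i : members B) (e : Fin (2 ^ (m - 1) - 1)) (h : L.P e i ≠ 0) :
    L.sgn (i : IrrCharacter G) = 1 := by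
  rw [L.dl_sign hc (par_ev_zero (S := S) e) h, if_pos (S.ev_facts e e).2.2.2.2]

include hc in
theorem sgn_w (i : members B) (a b : Fin (2 ^ (m - 1))) (h : L.w a i ≠ L.w b i) :
    L.sgn (i : IrrCharacter G) = -1 := by
  rw [L.dl_sign hc (par_od (S := S) a b) (sub_ne_zero.2 h), if_neg]
  rw [(S.od_facts a a).2.2.1]
  exact one_ne_zero

include L in
theorem trace_c₁' : ∑ i : members B, c₁ i i = 4 * 2 ^ m * (blockRank 2 B : ℤ) := by
  rw [trace_c₁ hM L.isPBlockB, L.two_pow_defect]

include hc L in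
/-- When only one vector is present. -/
theorem card_one (hm : m = 1) : Nat.card B = 2 ^ m + 2 + blockRank 2 B := by
  set T : Finset (members B) := Finset.univ.filter fun i => L.U i ≠ 0 with hTdef
  have hT4 : T.card = 4 := L.U_pm.2
  have hT : ∀ i ∈ T, ¬ 2 ∣ rd i := fun i hi => (L.odd_iff i).1 (Finset.mem_filter.1 hi).2
  have hx : ∀ i, i ∉ T → 2 ^ m ∣ rd i := fun i hi => by
    subst hm
    rw [pow_one]
    by_contra h
    exact hi (Finset.mem_filter.2 ⟨Finset.mem_univ _, (L.odd_iff i).2 h⟩)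
  have hext : ∀ i, i ∉ T → _ := fun i hi =>
    CType.extra L.ctype_c₁' L.ctype_cs (by omega : 0 < m) rfl (L.horth_cs hc) hT4 hT (hx i hi)
  obtain ⟨j, hj⟩ : T.Nonempty := Finset.card_pos.1 (by omega)
  have hneg : (Finset.univ.filter fun i : members B => L.sgn (i : IrrCharacter G) = -1) = Tᶜ := by
    ext i
    simp only [Finset.mem_filter, Finset.mem_univ, true_and, Finset.mem_compl]
    constructor
    · intro h hi
      rw [L.sgn_U hc i (Finset.mem_filter.1 hi).2] at h
      omega
    · intro hi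
      obtain ⟨-, -, h3, -⟩ := hext i hi
      have hji : j ≠ i := fun e => hi (e ▸ hj)
      have h := h3 j hji
      rw [cs, L.sgn_U hc j (Finset.mem_filter.1 hj).2, mul_one] at h
      have hne := L.ctype_c₁'.ne i j (hT j hj)
      rcases L.sgn_pm (i : IrrCharacter G) with e | e
      · rw [e, one_mul] at h; omega
      · exact e
  have ht := L.ctype_c₁'.sign_trace (by positivity) (fun i : members B => L.sgn_pm (i : IrrCharacter G))
    (fun i j => L.horth_cs hc i j)
  rw [trace_c₁' L, hneg, Finset.sum_congr rfl (fun i hi => (hext i (Finset.mem_compl.1 hi)).1),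
    Finset.sum_const, nsmul_eq_mul] at ht
  rw [card_members, ← Fintype.card_coe, ← Finset.card_add_card_compl T, hT4]
  subst hm
  norm_num at ht ⊢
  omega

include hc in
/-- The small exceptions do not occur. -/
theorem no_small (hm : 2 ≤ m) (hD : IsDefectGroup 2 M B D)
    (h2 : 2 ^ (m - 1) = 2 → ∃ i a b, L.U i ≠ 0 ∧ L.w a i ≠ L.w b i)
    (h4 : 2 ^ (m - 1) = 4 → ∃ Lx, L.U Lx = 0 ∧ ∀ i, L.U i = 0 → i ≠ Lx → ∀ e, L.P e i = 0)
    (hh : 2 ^ (m - 1) = 2 ∨ 2 ^ (m - 1) = 4) (hX : ∀ x, ¬ (L.vecs hm).IsX x) : False := by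
  rcases hh with h | h
  · obtain ⟨i, a, b, hi, hab⟩ := h2 h
    have h1 := L.sgn_U hc i hi
    have h3 := L.sgn_w hc i a b hab
    omega
  obtain ⟨Lx, -, hLx⟩ := h4 h
  have hm3 : m = 3 := by
    have h3 : 2 ^ (m - 1) = 2 ^ 2 := h
    have := Nat.pow_right_injective le_rfl h3
    omega
  subst hm3
  -- the block of the quotient by the central involution
  set N : Subgroup G := Subgroup.zpowers S.z with hN
  haveI : N.Normal := ⟨fun n hn g => by
    obtain ⟨k, rfl⟩ := Subgroup.mem_zpowers_iff.1 hn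
    rw [Subgroup.mem_center_iff.1 (Subgroup.zpow_mem _ hc k) g, mul_inv_cancel_right]
    exact Subgroup.zpow_mem_zpowers _ k⟩
  have hNc : Nat.card N = 2 := by rw [hN, Nat.card_zpowers, S.orderOf_z]
  have hNp : IsPGroup 2 N := IsPGroup.of_card (n := 1) (by rw [hNc, pow_one])
  obtain ⟨Bb, hBb, hsub, hdef⟩ := Cfsg.Agent.S4434.result 2 M hM N hNp B L.isPBlockB
  have hDb : IsDefectGroup 2 M Bb (D.map (QuotientGroup.mk' N)) := (hdef _).2 ⟨D, hD, rfl⟩
  set f := QuotientGroup.mk' N
  have hfz : f S.z = 1 := (QuotientGroup.eq_one_iff _).2 (Subgroup.mem_zpowers _)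
  have hu : f S.σ ^ (2 ^ 3) = 1 := by rw [← map_pow, ← S.rot_natCast]; exact hfz
  have hv : f S.τ * f S.τ = 1 := by
    rw [← map_mul]
    rcases S.τ_sq with e | e <;> rw [e]
    · exact map_one f
    · rw [← S.rot_natCast]; exact hfz
  have hvu : f S.τ * f S.σ * (f S.τ)⁻¹ = (f S.σ)⁻¹ := by
    rw [← map_inv, ← map_mul, ← map_mul, S.rel, map_zpow]
    rcases S.a_eq with e | ⟨-, e⟩ <;> rw [e]
    · rw [zpow_neg_one, ← map_inv]
    · rw [zpow_sub, zpow_one, show ((2 : ℤ) ^ 3) = ((2 ^ 3 : ℕ) : ℤ) by norm_num, zpow_natCast, hu,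
        one_mul]
  have hker : ∀ g, f g = 1 → g = 1 ∨ g = S.z := fun g hg => by
    obtain ⟨k, hk⟩ := Subgroup.mem_zpowers_iff.1 ((QuotientGroup.eq_one_iff g).1 hg)
    rcases Int.even_or_odd k with ⟨t, rfl⟩ | ⟨t, rfl⟩
    · left
      rw [← hk, ← two_mul, zpow_mul, show S.z ^ (2 : ℤ) = 1 by
        rw [show (2 : ℤ) = ((2 : ℕ) : ℤ) from rfl, zpow_natCast]; exact z_sq, one_zpow]
    · right
      rw [← hk, zpow_add, zpow_mul, show S.z ^ (2 : ℤ) = 1 by
        rw [show (2 : ℤ) = ((2 : ℕ) : ℤ) from rfl, zpow_natCast]; exact z_sq, one_zpow, one_mul,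
        zpow_one]
  have hord : orderOf (f S.σ) = 2 ^ 3 := by
    refine orderOf_eq_prime_pow (p := 2) (n := 2) ?_ hu
    rw [← map_pow]
    intro h
    rcases hker _ h with e | e <;> rw [← S.rot_natCast] at e
    · rw [S.rot_eq_one_iff, ZMod.natCast_eq_zero_iff] at e
      norm_num at e
    · have e' := S.rot_inj e
      rw [ZMod.natCast_eq_natCast_iff'] at e'
      norm_num at e'
  have hnot : f S.τ ∉ Subgroup.zpowers (f S.σ) := by
    intro h
    obtain ⟨k, hk⟩ := Subgroup.mem_zpowers_iff.1 h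
    rw [← map_zpow] at hk
    have h1 : f ((S.σ ^ k)⁻¹ * S.τ) = 1 := by rw [map_mul, map_inv, hk, inv_mul_cancel]
    refine S.notMem ?_
    have hzσ : S.z ∈ Subgroup.zpowers S.σ := S.rot_mem_zpowers _
    rcases hker _ h1 with e | e <;>
    · rw [show S.τ = S.σ ^ k * ((S.σ ^ k)⁻¹ * S.τ) by group, e]
      first
      | exact Subgroup.mul_mem _ (Subgroup.zpow_mem _ (Subgroup.mem_zpowers _) k) hzσ
      | exact Subgroup.mul_mem _ (Subgroup.zpow_mem _ (Subgroup.mem_zpowers _) k) (Subgroup.one_mem _)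
  set ψ := TwoGroups.SD.dihedralHom (f S.σ) (f S.τ) hu hv hvu
  have hψ := TwoGroups.SD.dihedralHom_injective (f S.σ) (f S.τ) hu hv hvu hord hnot
  have hrange : ψ.range = D.map f := by
    rw [TwoGroups.SD.range_dihedralHom]
    refine le_antisymm ((Subgroup.closure_le _).2 ?_) ?_
    · rintro x (rfl | rfl)
      · exact Subgroup.mem_map_of_mem f S.σ_mem
      · exact Subgroup.mem_map_of_mem f S.τ_mem
    · rintro _ ⟨g, hg, rfl⟩
      obtain ⟨s, e | e⟩ := S.exists_elem hg <;> rw [e, QD.rot]
      · rw [map_pow]; exact Subgroup.pow_mem _ (Subgroup.subset_closure (by simp)) _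
      · rw [map_mul, map_pow]
        exact Subgroup.mul_mem _ (Subgroup.pow_mem _ (Subgroup.subset_closure (by simp)) _)
          (Subgroup.subset_closure (by simp))
  have hiso : Nonempty ((D.map f : Subgroup (G ⧸ N)) ≃* DihedralGroup (2 ^ (4 - 1))) :=
    ⟨((MonoidHom.ofInjective hψ).trans (MulEquiv.subgroupCongr hrange)).symm⟩
  obtain ⟨hcard, -, -, hk0, -⟩ :=
    Cfsg.Agent.S4528.result M hM Bb hBb (D.map f) hDb 4 (by norm_num) hiso
  letI : Fintype (G ⧸ N) := Fintype.ofFinite _
  -- the members of the quotient inside the block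
  have hmem : ∀ η ∈ Bb, Chars17.infl N η ∈ B := fun η hη => hsub η hη _ rfl
  have heps : ∀ η, eps S (Chars17.infl N η) = 1 := fun η => by
    have hq : (QuotientGroup.mk S.z : G ⧸ N) = 1 := hfz
    rw [eps, Chars17.infl_apply, Chars17.infl_apply, hq, QuotientGroup.mk_one,
      div_self (irr_one_ne_zero η)]
  obtain ⟨⟨η₀, hη₀, hh0⟩⟩ : Nonempty {χ : IrrCharacter (G ⧸ N) //
      χ ∈ Bb ∧ blockHeight 2 Bb (χ : G ⧸ N → ℂ) = 0} := by
    refine (Nat.card_pos_iff.1 ?_).1
    rw [hk0]; norm_num
  have hdq : blockDefect 2 Bb + 1 = blockDefect 2 B := by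
    have h1 : 2 ^ blockDefect 2 Bb = 2 ^ 4 := by
      rw [← BlockCover.natCard_defect hM hBb hDb, Nat.card_congr hiso.some.toEquiv,
        DihedralGroup.nat_card]
      norm_num
    rw [Nat.pow_right_injective le_rfl h1, L.defB]
  have hred0 : ¬ 2 ∣ red 2 B (Chars17.infl N η₀) := by
    intro h
    have h1 := (pow_dvd_red hM.1 (hmem η₀ hη₀) (k := 1)).1 (by rwa [pow_one])
    have hdeg : charDegree (Chars17.infl N η₀ : G → ℂ) = charDegree (η₀ : G ⧸ N → ℂ) := by
      rw [charDegree, charDegree, Chars17.infl_apply, QuotientGroup.mk_one]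
    have h2' : (charDegree (η₀ : G ⧸ N → ℂ)).factorization 2 ≤ minExp 2 Bb := by
      rw [blockHeight] at hh0
      exact Nat.sub_eq_zero_iff_le.1 hh0
    have h3 := minExp_add_defect hM hBb
    have h4' := minExp_add_defect hM L.isPBlockB
    have hfac : (Nat.card G).factorization 2 = (Nat.card (G ⧸ N)).factorization 2 + 1 := by
      rw [Subgroup.card_eq_card_quotient_mul_card_subgroup N,
        Nat.factorization_mul Nat.card_pos.ne' Nat.card_pos.ne', Finsupp.add_apply, hNc,
        Nat.prime_two.factorization_self]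
    rw [hdeg] at h1
    omega
  have hlam : L.lam0 = 1 := by
    set i₀ : members B := ⟨_, mem_members.2 (hmem η₀ hη₀)⟩
    have h1 := L.sgn_U hc i₀ ((L.odd_iff i₀).2 hred0)
    rw [sgn] at h1
    split_ifs at h1 with he
    rw [← he]; exact heps η₀
  -- there are too many of them
  have hsub5 : (Finset.univ.filter fun i : members B => L.sgn (i : IrrCharacter G) = 1).card ≤ 5 :=
    (L.pairC hc hm).small_sign (s := fun i : members B => L.sgn (i : IrrCharacter G))
      (fun i e h => L.sgn_P hc i e h) (fun i a b h => L.sgn_w hc i a b h)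
      (fun i h => L.sgn_U hc i h) hX hLx
  have hle : Nat.card Bb ≤
      (Finset.univ.filter fun i : members B => L.sgn (i : IrrCharacter G) = 1).card := by
    rw [← Fintype.card_coe, ← Nat.card_eq_fintype_card]
    refine Nat.card_le_card_of_injective (fun η : Bb => ⟨⟨Chars17.infl N (η : IrrCharacter (G ⧸ N)),
      mem_members.2 (hmem _ η.2)⟩, Finset.mem_filter.2 ⟨Finset.mem_univ _, ?_⟩⟩) fun η η' he => ?_
    · show L.sgn _ = 1
      rw [sgn, if_pos]
      rw [heps, hlam]
    · have h1 := congrArg (fun x => ((x : members B) : IrrCharacter G)) (congrArg Subtype.val he)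
      refine Subtype.ext (Subtype.ext (funext fun q => ?_))
      obtain ⟨g, rfl⟩ := QuotientGroup.mk_surjective q
      have := congrArg (fun χ : IrrCharacter G => (χ : G → ℂ) g) h1
      simpa [Chars17.infl_apply] using this
  rw [hcard] at hle
  have h7 := hle.trans hsub5
  norm_num at h7

include hc L in
/-- The number of members. -/
theorem card_central (hD : IsDefectGroup 2 M B D) : Nat.card B = 2 ^ m + 2 + blockRank 2 B := by
  rcases (show m = 1 ∨ 2 ≤ m by have := S.one_le; omega) with h | hm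
  · exact L.card_one hc h
  rcases (L.pairC hc hm).shape_or_small with ⟨⟨Sh⟩⟩ | ⟨-, h2, h4, hh, hX⟩
  · have hl := Pair.Shape.rank_eq (L.pairC hc hm) Sh
      (s := fun i : members B => L.sgn (i : IrrCharacter G)) (fun i => L.sgn_pm _) (fun i j => rfl)
      (L.sgn_U hc) (L.sgn_P hc) (L.sgn_w hc) (l := blockRank 2 B) L.trace_c₁'
    have hcd := (Pair.Shape.card (L.pairC hc hm) Sh).1
    rw [Fintype.card_coe, ← card_members] at hcd
    have := Nat.two_pow_pos m
    omega
  · exact (L.no_small hc hm hD h2 h4 hh hX).elim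

end Loc

end CfsgLib.QuatDefect
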