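import Cfsg.Agent.Lib.QuatDefect.Rot
import Cfsg.Agent.Lib.Blk4.RankTwoBound
import Cfsg.Agent.Lib.Blk4.SubsectionShape

/-!
# The contributions and the contributions of the section of the central involution
-/

set_option autoImplicit false
set_option linter.unusedSectionVars false
set_option linter.unusedSimpArgs false
set_option linter.style.haveILetI false

namespace CfsgLib.QuatDefect

open Cfsg CfsgLib.Blocks CfsgLib.Characters CfsgLib.Contribution CfsgLib.Blk4
open scoped Classical ComplexConjugate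

universe u

variable {G : Type u} [Group G] [Fintype G] {M : Ideal AlgInt} {B : Set (IrrCharacter G)}

/-- The reduced degrees of the members. -/
noncomputable def rd (χ : members B) : ℕ := red 2 B (χ : IrrCharacter G)

/-- A symmetric integer matrix given by the reduced degree times a local factor. -/
theorem ctype_of_local (hM : IsPModular 2 M) (hB : IsPBlock M B) {Q : ℤ}
    {c : members B → members B → ℤ} (t : members B → members B → ℂ)
    (ht : ∀ i j, MemLocalRing M (t i j))
    (htc : ∀ i j k, MemLocalIdeal M (t i j - t i k))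
    (he : ∀ i j, (c i j : ℂ) = (rd j : ℂ) * t i j)
    (hsym : ∀ i j, c i j = c j i) (hmul : ∀ i j, ∑ k, c i k * c k j = Q * c i j)
    (hunit : ∀ i j, ¬ 2 ∣ rd i → ¬ 2 ∣ rd j → ¬ MemLocalIdeal M (c i j : ℂ)) :
    CType rd Q c := by
  refine ⟨hsym, hmul, fun i j hj h0 => ?_, fun i j k _ hk => ?_, fun i k hk0 hk => ?_⟩
  · -- the factor of an odd member is a unit
    have h1 : ¬ MemLocalIdeal M (t j j) := fun h => hunit j j hj hj (by
      rw [he]; exact MemLocalIdeal.mul_left hM (natCast_mem (lRing hM) _) h)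
    have h2 : t j i ≠ 0 := fun h => h1 (by
      have h3 := htc j j i
      rwa [h, sub_zero] at h3)
    have h3 : (c j i : ℂ) ≠ 0 := by
      rw [he]
      exact mul_ne_zero (Nat.cast_ne_zero.2 (red_pos (mem_members.1 i.2)).ne') h2
    exact h3 (by rw [hsym, h0, Int.cast_zero])
  · obtain ⟨s, hs⟩ := hk
    have h : (c i j : ℂ) = ((2 : ℕ) : ℂ) ^ k * ((s : ℂ) * t j i) := by
      rw [hsym, he, hs]; push_cast; ring
    exact_mod_cast int_pow_dvd hM ((lRing hM).mul_mem (natCast_mem (lRing hM) _) (ht j i)) h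
  · obtain ⟨s, hs⟩ := hk
    obtain ⟨χ₀, hχ₀, h0, -⟩ := exists_height_zero hM hB
    set j : members B := ⟨χ₀, mem_members.2 hχ₀⟩
    have heven : MemLocalIdeal M (rd i : ℂ) := (memLocalIdeal_natCast_iff hM _).2
      ((dvd_pow_self 2 hk0.ne').trans ⟨s, hs⟩)
    have h1 : MemLocalIdeal M (t i j) := by
      have hinv : MemLocalRing M ((rd j : ℂ))⁻¹ := inv_natCast_mem_lRing hM h0
      have h2 : t i j = (rd j : ℂ)⁻¹ * ((rd i : ℂ) * t j i) := by
        rw [← he, hsym, he, ← mul_assoc, inv_mul_cancel₀ (Nat.cast_ne_zero.2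
          (red_pos (mem_members.1 j.2)).ne'), one_mul]
      rw [h2]
      exact MemLocalIdeal.mul_left hM hinv (MemLocalIdeal.mul_right hM heven (ht j i))
    have h3 : MemLocalIdeal M (t i i) := by
      have := MemLocalIdeal.add hM (htc i i j) h1
      simpa using this
    have h4 : (c i i : ℂ) = ((2 : ℕ) : ℂ) ^ k * ((s : ℂ) * t i i) := by
      rw [he, hs]; push_cast; ring
    obtain ⟨w, hw⟩ : (2 : ℤ) ^ k ∣ c i i := by
      exact_mod_cast int_pow_dvd hM ((lRing hM).mul_mem (natCast_mem (lRing hM) _) (ht i i)) h4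
    have h5 : (w : ℂ) = (s : ℂ) * t i i := by
      rw [hw] at h4
      push_cast at h4
      exact mul_left_cancel₀ (pow_ne_zero k two_ne_zero) h4
    have h6 : ((2 : ℕ) : ℤ) ∣ w := (memLocalIdeal_intCast_iff hM w).1
      (h5 ▸ MemLocalIdeal.mul_left hM (natCast_mem (lRing hM) _) h3)
    rw [hw, pow_succ]
    exact mul_dvd_mul_left _ h6

section Ordinary

variable [Fintype (ConjClasses G)] (hM : IsPModular 2 M) (hB : IsPBlock M B)

/-- The contributions. -/
noncomputable def c₁ (i j : members B) : ℤ :=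
  contribInt 2 B (i : IrrCharacter G) (j : IrrCharacter G)

include hM hB

theorem c₁_cast (i j : members B) : (c₁ i j : ℂ) =
    contrib 2 (blockDefect 2 B) (i : IrrCharacter G) (j : IrrCharacter G) :=
  contribInt_cast hM hB _ (mem_members.1 j.2)

theorem ctype_c₁ : CType (rd (B := B)) (2 ^ blockDefect 2 B) c₁ := by
  refine ctype_of_local hM hB (fun i j => tfac 2 (i : IrrCharacter G) (j : IrrCharacter G))
    (fun i j => tfac_mem hM _ _)
    (fun i j k => tfac_congr hM _ ((IsPBlock.mem_iff hM hB (mem_members.1 j.2) _).1 (mem_members.1 k.2)))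
    (fun i j => ?_) (fun i j => ?_) (fun i j => ?_) (fun i j hi hj => ?_)
  · rw [c₁_cast hM hB, contrib_eq hM hB _ (mem_members.1 j.2)]; rfl
  · rw [← Int.cast_inj (α := ℂ), c₁_cast hM hB, c₁_cast hM hB,
      contrib_symm hM hB _ (mem_members.1 j.2)]
  · rw [← Int.cast_inj (α := ℂ)]
    push_cast
    simp only [c₁_cast hM hB]
    rw [Finset.sum_coe_sort (members B) (fun φ => contrib 2 (blockDefect 2 B) (i : IrrCharacter G) φ *
      contrib 2 (blockDefect 2 B) φ (j : IrrCharacter G))]
    exact RankTwo.contrib_mul hM hB (mem_members.1 i.2)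
  · rw [c₁_cast hM hB, contrib_eq hM hB _ (mem_members.1 j.2)]
    exact Major.mul_not_mem hM (natCast_mem (lRing hM) _) (tfac_mem hM _ _)
      (fun h => hj ((memLocalIdeal_natCast_iff hM _).1 h))
      (tfac_unit hM hB (mem_members.1 i.2) hi (mem_members.1 j.2))

theorem trace_c₁ [Fact (Nat.Prime 2)] :
    ∑ i : members B, c₁ i i = 2 ^ blockDefect 2 B * (blockRank 2 B : ℤ) := by
  rw [← Int.cast_inj (α := ℂ)]
  push_cast
  simp only [c₁_cast hM hB]
  rw [Finset.sum_coe_sort (members B) (fun φ => contrib 2 (blockDefect 2 B) φ φ)]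
  exact_mod_cast RankTwo.contrib_trace hM hB (blockDefect 2 B)

/-- The combination of the characters by a row is the expanded regular part. -/
theorem sum_c₁_apply (i : members B) (g : G) :
    ∑ k, (c₁ i k : ℂ) * ((k : IrrCharacter G) : G → ℂ) g =
      if ¬ 2 ∣ orderOf g then (2 : ℂ) ^ blockDefect 2 B * ((i : IrrCharacter G) : G → ℂ) g else 0 := by
  simp only [c₁_cast hM hB]
  rw [Finset.sum_coe_sort (members B) (fun φ => contrib 2 (blockDefect 2 B) (i : IrrCharacter G) φ *
    (φ : G → ℂ) g)]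
  exact_mod_cast (expand hM hB (mem_members.1 i.2) g).symm

theorem sum_c₁_mul {a : members B → ℤ}
    (ha : ∀ g : G, ¬ 2 ∣ orderOf g → ∑ k, (a k : ℂ) * ((k : IrrCharacter G) : G → ℂ) g = 0)
    (i : members B) : ∑ k, c₁ i k * a k = 0 := by
  rw [← Int.cast_inj (α := ℂ)]
  push_cast
  simp only [c₁_cast hM hB, contrib, Contribution.regSum, Finset.mul_sum, Finset.sum_mul]
  rw [Finset.sum_comm]
  refine Finset.sum_eq_zero fun g hg => ?_
  have h := congrArg conj (ha g (Finset.mem_filter.1 hg).2)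
  simp only [map_sum, map_mul, map_intCast, map_zero] at h
  calc _ = ((2 : ℕ) : ℂ) ^ blockDefect 2 B * (Nat.card G : ℂ)⁻¹ * ((i : IrrCharacter G) : G → ℂ) g *
        ∑ k, (a k : ℂ) * conj (((k : IrrCharacter G) : G → ℂ) g) := by
        rw [Finset.mul_sum]; exact Finset.sum_congr rfl fun k _ => by ring
    _ = 0 := by rw [h, mul_zero]

end Ordinary

section Section

variable {z : G} [Fintype (Subgroup.centralizer ({z} : Set G))]
  [Fintype (ConjClasses (Subgroup.centralizer ({z} : Set G)))]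
  {b : Set (IrrCharacter (Subgroup.centralizer ({z} : Set G)))}

theorem lam_int (hz : orderOf z = 2) (ξ : IrrCharacter (Subgroup.centralizer ({z} : Set G))) :
    ∃ s : ℤ, Major.lam z ξ = s := by
  have h := Major.lam_pow z (hz ▸ pow_orderOf_eq_one z) ξ
  rcases mul_self_eq_one_iff.1 (by rwa [sq] at h) with e | e
  · exact ⟨1, by rw [e]; simp⟩
  · exact ⟨-1, by rw [e]; simp⟩

theorem exists_cz_int (hM : IsPModular 2 M) (hz : orderOf z = 2) (hb : IsPBlock M b)
    (χ ψ : IrrCharacter G) : ∃ n : ℤ, Major.cz z b 2 (blockDefect 2 b) χ ψ = n := by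
  choose s hs using fun ξ => lam_int hz ξ
  refine ⟨∑ ξ ∈ Finset.univ.filter (· ∈ b), ∑ η ∈ Finset.univ.filter (· ∈ b),
    ((Major.nm z χ ξ : ℤ) * s ξ) * ((Major.nm z ψ η : ℤ) * s η) * contribInt 2 b ξ η, ?_⟩
  rw [Major.cz_expand]
  push_cast
  refine Finset.sum_congr rfl fun ξ _ => Finset.sum_congr rfl fun η hη => ?_
  rw [contribInt_cast hM hb ξ (Finset.mem_filter.1 hη).2, Major.w, Major.w, hs, hs, map_mul,
    Complex.conj_natCast, map_intCast]

/-- The contributions of the section of `z`. -/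
noncomputable def c₂ (z : G) [Fintype (Subgroup.centralizer ({z} : Set G))]
    (b : Set (IrrCharacter (Subgroup.centralizer ({z} : Set G)))) (i j : members B) : ℤ :=
  ⌊(Major.cz z b 2 (blockDefect 2 b) (i : IrrCharacter G) (j : IrrCharacter G)).re⌋

variable (hM : IsPModular 2 M) (hz : orderOf z = 2)
  (hind : IsInducedBlock M (Subgroup.centralizer ({z} : Set G)) b B)
  (hd : blockDefect 2 b = blockDefect 2 B)

include hM hz hind

theorem c₂_cast (i j : members B) : (c₂ z b i j : ℂ) =
    Major.cz z b 2 (blockDefect 2 b) (i : IrrCharacter G) (j : IrrCharacter G) := by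
  obtain ⟨n, hn⟩ := exists_cz_int hM hz hind.1 (i : IrrCharacter G) (j : IrrCharacter G)
  rw [c₂, hn]; simp

include hd

theorem ctype_c₂ : CType (rd (B := B)) (2 ^ blockDefect 2 B) (c₂ z b) := by
  have hz' : orderOf z = 2 ^ 1 := by rw [pow_one, hz]
  refine ctype_of_local hM hind.2.1
    (fun i j => Major.tz z b 2 (i : IrrCharacter G) (j : IrrCharacter G))
    (fun i j => Major.tz_mem z b hM hz' _ _)
    (fun i j k => Major.tz_congr z b hM hz' _
      ((IsPBlock.mem_iff hM hind.2.1 (mem_members.1 j.2) _).1 (mem_members.1 k.2)))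
    (fun i j => ?_) (fun i j => ?_) (fun i j => ?_) (fun i j hi hj => ?_)
  · rw [c₂_cast hM hz hind, hd, Major.cz_eq z b hM hz' hind.1 hind.2.1 _ (mem_members.1 j.2)]; rfl
  · rw [← Int.cast_inj (α := ℂ), c₂_cast hM hz hind, c₂_cast hM hz hind,
      ← Major.cz_conj z b (p := 2) _ (j : IrrCharacter G) (i : IrrCharacter G),
      ← c₂_cast hM hz hind j i, map_intCast]
  · rw [← Int.cast_inj (α := ℂ)]
    push_cast
    simp only [c₂_cast hM hz hind, hd]
    rw [Finset.sum_coe_sort (members B) (fun φ => Major.cz z b 2 (blockDefect 2 B) (i : IrrCharacter G) φ *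
      Major.cz z b 2 (blockDefect 2 B) φ (j : IrrCharacter G))]
    exact Major.cz_mul z b hM hz' hind hd _ _
  · rw [c₂_cast hM hz hind, Major.cz_unit_iff z b hM hz' hind (mem_members.1 i.2) (mem_members.1 j.2)]
    exact ⟨hi, hj⟩

theorem trace_c₂ [Fact (Nat.Prime 2)] :
    ∑ i, c₂ z b (B := B) i i = 2 ^ blockDefect 2 B * (blockRank 2 b : ℤ) := by
  rw [← Int.cast_inj (α := ℂ)]
  push_cast
  simp only [c₂_cast hM hz hind, hd]
  rw [Finset.sum_coe_sort (members B) (fun φ => Major.cz z b 2 (blockDefect 2 B) φ φ)]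
  exact_mod_cast Major.cz_trace z b hM (n := 1) (by rw [pow_one, hz]) hind (blockDefect 2 B)

omit hd in
theorem sum_c₂_mul {a : members B → ℤ}
    (ha : ∀ y : Subgroup.centralizer ({z} : Set G), ¬ 2 ∣ orderOf y →
      ∑ k, (a k : ℂ) * ((k : IrrCharacter G) : G → ℂ) (z * (y : G)) = 0)
    (i : members B) : ∑ k, c₂ z b i k * a k = 0 := by
  have hx : ∀ y : Subgroup.centralizer ({z} : Set G), ¬ 2 ∣ orderOf y →
      ∑ k, (a k : ℂ) * Major.xb z b (k : IrrCharacter G) y = 0 := fun y hy => by
    simp only [← Major.blockPart_sectionFun]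
    rw [← blockPart_linear b (fun k : members B => (a k : ℂ))
      (fun (k : members B) => sectionFun z ((k : IrrCharacter G) : G → ℂ)) y,
      blockPart_congr_regular hM hind.1
        (f := fun c => ∑ k : members B, (a k : ℂ) * sectionFun z ((k : IrrCharacter G) : G → ℂ) c)
        (g := fun _ => (0 : ℂ)) (fun c hc => ha c hc) hy]
    simp [blockPart_eq_sum, classInner]
  rw [← Int.cast_inj (α := ℂ)]
  push_cast
  simp only [c₂_cast hM hz hind, Major.cz, Finset.mul_sum, Finset.sum_mul]
  rw [Finset.sum_comm]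
  refine Finset.sum_eq_zero fun y hy => ?_
  have h := congrArg conj (hx y (Finset.mem_filter.1 hy).2)
  simp only [map_sum, map_mul, map_intCast, map_zero] at h
  calc _ = ((2 : ℕ) : ℂ) ^ blockDefect 2 b * (Nat.card (Subgroup.centralizer ({z} : Set G)) : ℂ)⁻¹ *
        Major.xb z b (i : IrrCharacter G) y *
        ∑ k : members B, (a k : ℂ) * conj (Major.xb z b (k : IrrCharacter G) y) := by
        rw [Finset.mul_sum]; exact Finset.sum_congr rfl fun k _ => by ring
    _ = 0 := by rw [h, mul_zero]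

omit hd in
theorem horth₁₂ [Fintype (ConjClasses G)] (i j : members B) :
    ∑ k, c₁ i k * c₂ z b k j = 0 := by
  have hsym : ∀ k, c₂ z b k j = c₂ z b j k := fun k => by
    rw [← Int.cast_inj (α := ℂ), c₂_cast hM hz hind, c₂_cast hM hz hind,
      ← Major.cz_conj z b (p := 2) _ (j : IrrCharacter G) (k : IrrCharacter G),
      ← c₂_cast hM hz hind j k, map_intCast]
  simp only [hsym, mul_comm (c₁ i _)]
  refine sum_c₂_mul hM hz hind (fun y hy => ?_) j
  rw [sum_c₁_apply hM hind.2.1, if_neg]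
  intro h
  refine h ?_
  have hcm : Commute z (y : G) := (Subgroup.mem_centralizer_singleton_iff.1 y.2).symm
  rw [hcm.orderOf_mul_eq_mul_orderOf_of_coprime]
  · exact Dvd.dvd.mul_right (by rw [hz]) _
  · rw [Nat.Coprime, hz]
    exact (Nat.prime_two.coprime_iff_not_dvd).2 (by rwa [Subgroup.orderOf_coe])

end Section

section Assemble

variable [Fact (Nat.Prime 2)] [M.IsMaximal] {hM : IsPModular 2 M} {D : Subgroup G} {m : ℕ}
  {S : QD D m} (L : Loc hM B S)

theorem small_of_regular {g : G} (hg : ¬ 2 ∣ orderOf g) : ∀ u, IsPPart 2 g u → orderOf u ∣ 2 := by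
  intro u hu
  have h1 : IsPPart 2 g 1 := ⟨g, one_mul g, Commute.one_left g, ⟨0, orderOf_one⟩, hg⟩
  rw [IsPPart.unique Nat.prime_two hu h1, orderOf_one]
  exact one_dvd 2

theorem small_of_section {z y : G} (hz : orderOf z = 2) (hc : Commute z y)
    (hy : ¬ 2 ∣ orderOf y) : ∀ u, IsPPart 2 (z * y) u → orderOf u ∣ 2 := by
  intro u hu
  have h1 : IsPPart 2 (z * y) z := ⟨y, rfl, hc, ⟨1, by rw [pow_one, hz]⟩, hy⟩
  rw [IsPPart.unique Nat.prime_two hu h1, hz]

include L in
theorem Loc.two_pow_defect : ((2 : ℤ) ^ blockDefect 2 B) = 4 * 2 ^ m := by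
  rw [L.defB, pow_add]; ring

variable [Fintype (ConjClasses G)]
  [Fintype (Subgroup.centralizer ({S.z} : Set G))]
  [Fintype (ConjClasses (Subgroup.centralizer ({S.z} : Set G)))]
  {b : Set (IrrCharacter (Subgroup.centralizer ({S.z} : Set G)))}

/-- The two projections with the vectors. -/
noncomputable def Loc.pair (hm : 2 ≤ m)
    (hind : IsInducedBlock M (Subgroup.centralizer ({S.z} : Set G)) b B)
    (hd : blockDefect 2 b = blockDefect 2 B) : Pair (members B) m where
  toGraded := L.graded hm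
  c := c₁
  c' := c₂ S.z b
  hc := L.two_pow_defect ▸ ctype_c₁ hM L.isPBlockB
  hc' := L.two_pow_defect ▸ ctype_c₂ hM S.orderOf_z hind hd
  horth := horth₁₂ hM S.orderOf_z hind
  orthU i := ⟨sum_c₁_mul hM L.isPBlockB (fun g hg =>
      L.sum_dl_small (Loc.par_zero_half (S := S)) (small_of_regular hg)) i,
    sum_c₂_mul hM S.orderOf_z hind (fun y hy => L.sum_dl_small (Loc.par_zero_half (S := S))
      (small_of_section S.orderOf_z (Subgroup.mem_centralizer_singleton_iff.1 y.2).symm
        (by rwa [Subgroup.orderOf_coe]))) i⟩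
  orthP i e := ⟨sum_c₁_mul hM L.isPBlockB (fun g hg =>
      L.sum_dl_small (Loc.par_ev_zero (S := S) e) (small_of_regular hg)) i,
    sum_c₂_mul hM S.orderOf_z hind (fun y hy => L.sum_dl_small (Loc.par_ev_zero (S := S) e)
      (small_of_section S.orderOf_z (Subgroup.mem_centralizer_singleton_iff.1 y.2).symm
        (by rwa [Subgroup.orderOf_coe]))) i⟩
  orthW i x y := ⟨sum_c₁_mul hM L.isPBlockB (fun g hg =>
      L.sum_dl_small (Loc.par_od (S := S) x y) (small_of_regular hg)) i,
    sum_c₂_mul hM S.orderOf_z hind (fun g hg => L.sum_dl_small (Loc.par_od (S := S) x y)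
      (small_of_section S.orderOf_z (Subgroup.mem_centralizer_singleton_iff.1 g.2).symm
        (by rwa [Subgroup.orderOf_coe]))) i⟩

end Assemble

end CfsgLib.QuatDefect
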