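import Cfsg.Agent.Lib.Blocks.CyclicNilpotent
import Cfsg.Agent.Lib.BrauerPairs.PairKernel
import Cfsg.Agent.Lib.BrauerPairs.Transport
import Cfsg.Agent.Lib.KleinDefect.Pairs
import Cfsg.Agent.Lib.NilBlk.Main

/-!
# The subsections of a block counted below a maximal pair

For any defect group: `k(B) - l(B)` is the sum of the ranks over representatives of the fusion
classes of the nontrivial elements of the defect group, the fusion being that of the pairs below a
maximal pair.
-/

set_option autoImplicit false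
set_option linter.style.haveILetI false
set_option linter.unusedSectionVars false

namespace CfsgLib.QuatDefect

open Cfsg MonoidAlgebra CfsgLib.BrauerPairs CfsgLib.CyclicDefectBound
open scoped Classical

universe u

variable {G : Type u} [Group G] [Fintype G] {p : ℕ} [hp : Fact p.Prime] {M : Ideal AlgInt}
  [M.IsMaximal]

/-- A maximal pair, as an idempotent. -/
structure Ctx (hM : IsPModular p M) (B : Set (IrrCharacter G)) (D : Subgroup G) where
  /-- the idempotent at the defect group -/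
  e0 : MonoidAlgebra (ResK M) G
  block : IsBlockIdem (cz D) e0
  cover : brMap (ResK M) D (eG hM B) * e0 = e0
  hB : IsPBlock M B
  hD : IsDefectGroup p M B D

variable {hM : IsPModular p M} {B : Set (IrrCharacter G)} {D : Subgroup G}

theorem exists_ctx (hM : IsPModular p M) (hB : IsPBlock M B) (hD : IsDefectGroup p M B D) :
    Nonempty (Ctx hM B D) := by
  obtain ⟨e, hmax⟩ := NilBlk.exists_maximalPair hM hB hD
  obtain ⟨hP, -⟩ := (isMaximalBrauerPair_iff hM B D e).1 hmax
  obtain ⟨he, -, hO⟩ := (isBrauerPairOf_iff hM B D e).1 hP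
  exact ⟨⟨_, hO.block, hO.cover, hB, hD⟩⟩

namespace Ctx

variable (C : Ctx hM B D)

include C in
theorem isDefect : IsDefect p (⊥ : Subgroup G) (eG hM B) ⊤ D :=
  (isDefectGroup_iff hM C.hB D).1 C.hD

include C in
theorem pgroup : IsPGroup p D := C.isDefect.pgroup

theorem exists_sub {u : G} (hu : u ∈ D) : ∃ f, IsBlockIdem (cz (Subgroup.zpowers u)) f ∧
    PairLE p (Subgroup.zpowers u, f) (D, C.e0) := by
  have := charP_res hM
  exact exists_pairLE (hasBlocks hM) (Subgroup.zpowers_le.2 hu) C.pgroup C.block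

/-- The idempotent below the maximal pair at an element. -/
noncomputable def a (u : G) : MonoidAlgebra (ResK M) G :=
  if h : u ∈ D then (C.exists_sub h).choose else 0

theorem a_block {u : G} (hu : u ∈ D) : IsBlockIdem (cz (Subgroup.zpowers u)) (C.a u) := by
  rw [a, dif_pos hu]; exact (C.exists_sub hu).choose_spec.1

theorem a_le {u : G} (hu : u ∈ D) : PairLE p (Subgroup.zpowers u, C.a u) (D, C.e0) := by
  rw [a, dif_pos hu]; exact (C.exists_sub hu).choose_spec.2

theorem a_unique {u : G} (hu : u ∈ D) {f : MonoidAlgebra (ResK M) G}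
    (h : PairLE p (Subgroup.zpowers u, f) (D, C.e0)) : f = C.a u := by
  have := charP_res hM
  exact pairLE_unique (hasBlocks hM) (b := (D, C.e0)) C.block C.pgroup h (C.a_le hu)

theorem exists_blk {u : G} (hu : u ∈ D) :
    ∃ f : Set (IrrCharacter (Subgroup.centralizer ({u} : Set G))),
      IsPBlock M f ∧ eA hM _ f = C.a u :=
  exists_eA_eq hM (centralizer_singleton_eq u ▸ C.a_block hu)

/-- The block of the centraliser below the maximal pair. -/
noncomputable def blk {u : G} (hu : u ∈ D) :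
    Set (IrrCharacter (Subgroup.centralizer ({u} : Set G))) := (C.exists_blk hu).choose

theorem isPBlock_blk {u : G} (hu : u ∈ D) : IsPBlock M (C.blk hu) :=
  (C.exists_blk hu).choose_spec.1

theorem eA_blk {u : G} (hu : u ∈ D) : eA hM _ (C.blk hu) = C.a u :=
  (C.exists_blk hu).choose_spec.2

theorem blk_unique {u : G} (hu : u ∈ D)
    {f : Set (IrrCharacter (Subgroup.centralizer ({u} : Set G)))} (hf : IsPBlock M f)
    (h : eA hM _ f = C.a u) : f = C.blk hu :=
  eA_inj hM hf (C.isPBlock_blk hu) (h.trans (C.eA_blk hu).symm)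

theorem cover_a {u : G} (hu : u ∈ D) :
    brMap (ResK M) (Subgroup.zpowers u) (eG hM B) * C.a u = C.a u := by
  have := charP_res hM
  have hE := isBlockIdem_eG hM C.hB
  exact (brMap_cover_iff (C.a_le hu) hE.fixed hE.idem).2 C.cover

theorem blk_induced {u : G} (hu : u ∈ D) :
    IsInducedBlock M (Subgroup.centralizer ({u} : Set G)) (C.blk hu) B :=
  induced_of_cover hM (C.pgroup.to_le (Subgroup.zpowers_le.2 hu))
    (centralizer_singleton_eq u ▸
      Subgroup.zpowers_le.2 (Subgroup.mem_centralizer_singleton_iff.2 rfl))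
    (centralizer_singleton_eq u) C.hB (C.isPBlock_blk hu) (by rw [C.eA_blk hu]; exact C.cover_a hu)

/-- The rank at an element. -/
noncomputable def rk (u : G) : ℕ := if h : u ∈ D then blockRank p (C.blk h) else 0

theorem rk_eq {u : G} (hu : u ∈ D) : C.rk u = blockRank p (C.blk hu) := by rw [rk, dif_pos hu]

theorem one_le_rk {u : G} (hu : u ∈ D) : 1 ≤ C.rk u := by
  rw [C.rk_eq hu]; exact one_le_blockRank hM (C.isPBlock_blk hu)

/-- Fusion of the pairs below the maximal pair. -/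
def Rel (u v : G) : Prop := u ∈ D ∧ v ∈ D ∧ ∃ g : G, g * u * g⁻¹ = v ∧ conjA g (C.a u) = C.a v

theorem Rel.refl {u : G} (hu : u ∈ D) : C.Rel u u :=
  ⟨hu, hu, 1, by group, conjA_one_left _⟩

variable {C}

theorem Rel.symm {u v : G} (h : C.Rel u v) : C.Rel v u := by
  obtain ⟨hu, hv, g, h1, h2⟩ := h
  refine ⟨hv, hu, g⁻¹, ?_, ?_⟩
  · rw [← h1]; group
  · rw [← h2, ← conjA_mul_left, inv_mul_cancel, conjA_one_left]

theorem Rel.trans {u v w : G} (h : C.Rel u v) (h' : C.Rel v w) : C.Rel u w := by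
  obtain ⟨hu, -, g, h1, h2⟩ := h
  obtain ⟨-, hw, g', h1', h2'⟩ := h'
  refine ⟨hu, hw, g' * g, ?_, ?_⟩
  · rw [← h1', ← h1]; group
  · rw [conjA_mul_left, h2, h2']

theorem Rel.orderOf {u v : G} (h : C.Rel u v) : orderOf u = orderOf v := by
  obtain ⟨-, -, g, h1, -⟩ := h
  rw [← h1, BPStar.orderOf_conj']

variable (C)

theorem rel_conj {u d : G} (hu : u ∈ D) (hd : d ∈ D) : C.Rel u (d * u * d⁻¹) := by
  refine ⟨hu, D.mul_mem (D.mul_mem hd hu) (D.inv_mem hd), d, rfl, C.a_unique ?_ ?_⟩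
  · exact D.mul_mem (D.mul_mem hd hu) (D.inv_mem hd)
  · have h := (C.a_le hu).conj d
    rwa [conjPair_of_mem C.block hd, BPStar.conjPair_eq_zpowers] at h

theorem rk_congr {u v : G} (h : C.Rel u v) : C.rk u = C.rk v := by
  obtain ⟨hu, hv, g, hgu, hga⟩ := h
  have hK : ∀ k : G, k ∈ Subgroup.centralizer ({v} : Set G) ↔
      g⁻¹ * k * g ∈ Subgroup.centralizer ({u} : Set G) := fun k => by
    rw [← hgu]; exact KleinDefect.mem_centralizer_conj_iff g u k
  have hf : CharCorr.twistIrr (conjEquiv g hK) '' C.blk hu = C.blk hv :=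
    C.blk_unique hv (isPBlock_twist _ (C.isPBlock_blk hu))
      (by rw [← conjA_eA hM g hK, C.eA_blk hu, hga])
  rw [C.rk_eq hu, C.rk_eq hv, ← hf, LocalCount.blockRank_twist]

/-- Every subsection is a conjugate of one below the maximal pair. -/
theorem exists_cover {y : G} (hy : y ∈ LocalCount.singularPElts p G)
    {b : Set (IrrCharacter (Subgroup.centralizer ({y} : Set G)))}
    (hb : IsInducedBlock M (Subgroup.centralizer ({y} : Set G)) b B) :
    ∃ u ∈ D, u ≠ 1 ∧ ∃ g : G, g * u * g⁻¹ = y ∧ conjA g (C.a u) = eA hM _ b := by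
  have := charP_res hM
  obtain ⟨⟨n, hn⟩, hy1⟩ := LocalCount.mem_singularPElts.1 hy
  set Q := Subgroup.zpowers y with hQ
  have hK : Subgroup.centralizer ({y} : Set G) = cz Q := centralizer_singleton_eq y
  have hQp : IsPGroup p Q := IsPGroup.of_card (by rw [hQ, Nat.card_zpowers, hn])
  have hQK : Q ≤ Subgroup.centralizer ({y} : Set G) :=
    Subgroup.zpowers_le.2 (Subgroup.mem_centralizer_singleton_iff.2 rfl)
  have hbI : IsBlockIdem (cz Q) (eA hM _ b) := hK ▸ isBlockIdem_eA hM hb.1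
  have hO : OverPair p (⊥ : Subgroup G) (eG hM B) ⊤ Q (eA hM _ b) :=
    ⟨hQp, bot_le, le_top, hbI, cover_of_induced hM hQp hQK hK.ge hb hbI
      (by rw [brMap_eq_self hbI.supp, hbI.idem])⟩
  obtain ⟨g, -, hg⟩ := (brSetup_block hM C.hB).exists_conj_le (hasBlocks hM) hO C.isDefect
    ⟨C.pgroup, bot_le, le_top, C.block, C.cover⟩
  have hgy : g * y * g⁻¹ ∈ D := hg.le ⟨y, Subgroup.mem_zpowers y, rfl⟩
  have ha : conjA g (eA hM _ b) = C.a (g * y * g⁻¹) := C.a_unique hgy (by
    rw [← BPStar.conjPair_eq_zpowers]; exact hg)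
  refine ⟨g * y * g⁻¹, hgy, fun h => hy1 (conj_eq_one_iff.1 h), g⁻¹, by group, ?_⟩
  rw [← ha, ← conjA_mul_left, inv_mul_cancel, conjA_one_left]

/-- The count of the subsections. -/
theorem card_sub_rank (R : Finset G) (hR1 : ∀ r ∈ R, r ∈ D ∧ r ≠ 1)
    (hR2 : ∀ v ∈ D, v ≠ 1 → ∃ r ∈ R, C.Rel r v)
    (hR3 : ∀ r ∈ R, ∀ r' ∈ R, C.Rel r r' → r = r') :
    (Nat.card B : ℤ) - (blockRank p B : ℤ) = ∑ r ∈ R, (C.rk r : ℤ) := by
  let _ : ∀ K : Subgroup G, Fintype K := fun K => Fintype.ofFinite K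
  set P0 : Finset (G × G) := R ×ˢ Finset.univ with hP0
  have hsing : ∀ t ∈ P0, t.2 * t.1 * t.2⁻¹ ∈ LocalCount.singularPElts p G := by
    intro t ht
    obtain ⟨hu, hu1⟩ := hR1 _ (Finset.mem_product.1 ht).1
    refine LocalCount.mem_singularPElts.2 ⟨?_, fun h => hu1 (conj_eq_one_iff.1 h)⟩
    rw [BPStar.orderOf_conj']
    obtain ⟨k, hk⟩ := IsPGroup.iff_orderOf.1 C.pgroup ⟨t.1, hu⟩
    exact ⟨k, by rwa [← Subgroup.orderOf_coe] at hk⟩
  have hloc : ∀ y ∈ LocalCount.singularPElts p G,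
      ∑ t ∈ P0.filter (fun t => t.2 * t.1 * t.2⁻¹ = y), C.rk t.1 =
        Nat.card (Subgroup.centralizer ({y} : Set G)) *
          LocalCount.localRank p M (Subgroup.centralizer ({y} : Set G)) B := by
    intro y hy
    have hfin : {b : Set (IrrCharacter (Subgroup.centralizer ({y} : Set G))) |
        IsInducedBlock M (Subgroup.centralizer ({y} : Set G)) b B}.Finite := Set.toFinite _
    rw [LocalCount.localRank, finsum_mem_eq_finite_toFinset_sum _ hfin, Finset.mul_sum]
    set Fib : Set (IrrCharacter (Subgroup.centralizer ({y} : Set G))) → Finset (G × G) := fun b =>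
      P0.filter fun t => t.2 * t.1 * t.2⁻¹ = y ∧ conjA t.2 (C.a t.1) = eA hM _ b with hFib
    have hsplit : P0.filter (fun t => t.2 * t.1 * t.2⁻¹ = y) = hfin.toFinset.biUnion Fib := by
      ext t
      simp only [Finset.mem_biUnion, Finset.mem_filter, hFib, hfin.mem_toFinset]
      refine ⟨fun ⟨ht, hty⟩ => ?_, fun ⟨b, _, ht, hty, _⟩ => ⟨ht, hty⟩⟩
      obtain ⟨hu, -⟩ := hR1 _ (Finset.mem_product.1 ht).1
      have hK : ∀ k : G, k ∈ Subgroup.centralizer ({y} : Set G) ↔
          t.2⁻¹ * k * t.2 ∈ Subgroup.centralizer ({t.1} : Set G) := fun k => by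
        rw [← hty]; exact KleinDefect.mem_centralizer_conj_iff t.2 t.1 k
      have hb := isPBlock_twist (conjEquiv t.2 hK) (C.isPBlock_blk hu)
      refine ⟨CharCorr.twistIrr (conjEquiv t.2 hK) '' C.blk hu, ?_, ht, hty,
        by rw [← conjA_eA hM t.2 hK, C.eA_blk hu]⟩
      have hQ : Subgroup.zpowers y = (Subgroup.zpowers t.1).map (MulAut.conj t.2).toMonoidHom := by
        rw [← hty]; exact (KleinDefect.map_zpowers_conj t.2 t.1).symm
      refine induced_of_cover hM (hQ ▸ (C.pgroup.to_le (Subgroup.zpowers_le.2 hu)).map _)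
        (centralizer_singleton_eq y ▸
          Subgroup.zpowers_le.2 (Subgroup.mem_centralizer_singleton_iff.2 rfl))
        (centralizer_singleton_eq y) C.hB hb ?_
      rw [← conjA_eA hM t.2 hK, C.eA_blk hu, hQ]
      conv_lhs => rw [← (isBlockIdem_eG hM C.hB).fixed t.2 (Subgroup.mem_top t.2)]
      rw [← conjA_brMap, ← conjA_mul, C.cover_a hu]
    rw [hsplit, Finset.sum_biUnion]
    swap
    · intro b hb b' hb' hne
      refine Finset.disjoint_left.2 fun t ht ht' => hne ?_
      exact eA_inj hM (hfin.mem_toFinset.1 hb).1 (hfin.mem_toFinset.1 hb').1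
        ((Finset.mem_filter.1 ht).2.2.symm.trans (Finset.mem_filter.1 ht').2.2)
    refine Finset.sum_congr rfl fun b hb => ?_
    have hb' := hfin.mem_toFinset.1 hb
    obtain ⟨v, hv, hv1, g, hgv, hga⟩ := C.exists_cover hy hb'
    obtain ⟨r, hr, hrv⟩ := hR2 v hv hv1
    obtain ⟨hrD, -, h, hhr, hha⟩ := id hrv
    have hK : ∀ k : G, k ∈ Subgroup.centralizer ({y} : Set G) ↔
        g⁻¹ * k * g ∈ Subgroup.centralizer ({v} : Set G) := fun k => by
      rw [← hgv]; exact KleinDefect.mem_centralizer_conj_iff g v k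
    have hrank : blockRank p b = C.rk r := by
      rw [C.rk_congr hrv, C.rk_eq hv, ← LocalCount.blockRank_twist (p := p) (conjEquiv g hK)]
      congr 1
      exact eA_inj hM hb'.1 (isPBlock_twist _ (C.isPBlock_blk hv))
        (by rw [← conjA_eA hM g hK, C.eA_blk hv, hga])
    set g0 := g * h with hg0
    have hy0 : g0 * r * g0⁻¹ = y := by rw [hg0, ← hgv, ← hhr]; group
    have ha0 : conjA g0 (C.a r) = eA hM _ b := by rw [hg0, conjA_mul_left, hha, hga]
    have hconst : ∀ t ∈ Fib b, t.1 = r := by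
      intro t ht
      obtain ⟨ht0, hty, hta⟩ := Finset.mem_filter.1 ht
      have htR := (Finset.mem_product.1 ht0).1
      refine (hR3 r hr t.1 htR ⟨hrD, (hR1 _ htR).1, t.2⁻¹ * g0, ?_, ?_⟩).symm
      · calc t.2⁻¹ * g0 * r * (t.2⁻¹ * g0)⁻¹ = t.2⁻¹ * (g0 * r * g0⁻¹) * t.2 := by group
          _ = t.2⁻¹ * (t.2 * t.1 * t.2⁻¹) * t.2 := by rw [hy0, hty]
          _ = t.1 := by group
      · rw [conjA_mul_left, ha0, ← hta, ← conjA_mul_left, inv_mul_cancel, conjA_one_left]
    rw [Finset.sum_congr rfl (fun t ht => by rw [hconst t ht]), Finset.sum_const, smul_eq_mul, hrank]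
    congr 1
    rw [Nat.card_eq_fintype_card, ← Finset.card_univ]
    symm
    refine Finset.card_bij
      (fun (c : ↥(Subgroup.centralizer ({y} : Set G))) _ => (r, (c : G) * g0)) ?_ ?_ ?_
    · intro c _
      refine Finset.mem_filter.2 ⟨Finset.mem_product.2 ⟨hr, Finset.mem_univ _⟩, ?_, ?_⟩
      · show (c : G) * g0 * r * ((c : G) * g0)⁻¹ = y
        calc (c : G) * g0 * r * ((c : G) * g0)⁻¹ = (c : G) * (g0 * r * g0⁻¹) * (c : G)⁻¹ := by group
          _ = y := by rw [hy0, Subgroup.mem_centralizer_singleton_iff.1 c.2, mul_inv_cancel_right]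
      · show conjA ((c : G) * g0) (C.a r) = _
        rw [conjA_mul_left, ha0, (isBlockIdem_eA hM hb'.1).fixed _ c.2]
    · intro c _ c' _ hcc
      exact Subtype.ext (mul_right_cancel (congrArg Prod.snd hcc))
    · intro t ht
      obtain ⟨-, hty, -⟩ := Finset.mem_filter.1 ht
      have h1 := hconst t ht
      refine ⟨⟨t.2 * g0⁻¹, Subgroup.mem_centralizer_singleton_iff.2 ?_⟩, Finset.mem_univ _,
        Prod.ext h1.symm (inv_mul_cancel_right _ _)⟩
      have h2 : t.2 * g0⁻¹ * y * (t.2 * g0⁻¹)⁻¹ = y := by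
        calc t.2 * g0⁻¹ * y * (t.2 * g0⁻¹)⁻¹ = t.2 * (g0⁻¹ * (g0 * r * g0⁻¹) * g0) * t.2⁻¹ := by
              rw [hy0]; group
          _ = t.2 * r * t.2⁻¹ := by group
          _ = y := by rw [← h1]; exact hty
      exact mul_inv_eq_iff_eq_mul.1 h2
  have hnat : ∑ y ∈ LocalCount.singularPElts p G, Nat.card (Subgroup.centralizer ({y} : Set G)) *
      LocalCount.localRank p M (Subgroup.centralizer ({y} : Set G)) B =
        Nat.card G * ∑ r ∈ R, C.rk r := by
    rw [← Finset.sum_congr rfl hloc, Finset.sum_fiberwise_of_maps_to hsing, hP0, Finset.sum_product,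
      Finset.mul_sum]
    refine Finset.sum_congr rfl fun r _ => ?_
    simp [Finset.card_univ, Nat.card_eq_fintype_card]
  have h2 : (Nat.card G : ℤ) * ((Nat.card B : ℤ) - (blockRank p B : ℤ)) =
      (Nat.card G : ℤ) * ∑ r ∈ R, (C.rk r : ℤ) := by
    rw [LocalCount.card_mul_eq_sum_weight hM C.hB, ← Nat.cast_sum, ← Nat.cast_mul, ← hnat,
      Nat.cast_sum]
    exact Finset.sum_congr rfl fun y _ => by rw [LocalCount.weight, Nat.cast_mul]
  exact mul_left_cancel₀ (Nat.cast_ne_zero.2 Nat.card_pos.ne') h2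

end Ctx

end CfsgLib.QuatDefect
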