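import Cfsg.Agent.Lib.QuatDefect.Sub
import Cfsg.Agent.Lib.QuatDefect.Central

/-!
# The number of the subsections in the quaternion and semidihedral cases

The subsections with the central involution among the powers are counted in its centraliser; in
the semidihedral case there is at most one further class, of rank one.
-/

set_option autoImplicit false
set_option linter.style.haveILetI false
set_option linter.unusedSectionVars false

namespace CfsgLib.QuatDefect

open Cfsg MonoidAlgebra CfsgLib.BrauerPairs CfsgLib.CyclicDefectBound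
open scoped Classical

universe u

namespace QD

variable {G : Type u} [Group G] {D : Subgroup G} {m : ℕ} (S : QD D m)

theorem z_mem_zpowers_rot {s : ZMod (2 * 2 ^ m)} (hs : s ≠ 0) :
    S.z ∈ Subgroup.zpowers (S.rot s) := by
  by_cases h2 : 2 * s = 0
  · rcases two_torsion (s := s) (by rwa [← two_mul]) with e | e
    · exact absurd e hs
    · rw [e]; exact Subgroup.mem_zpowers _
  · rw [z_eq_y_sq]
    exact Subgroup.mul_mem _ (S.y_mem_zpowers h2) (S.y_mem_zpowers h2)

theorem z_mem_zpowers_of_sq {w : G} (h : w * w = S.z) : S.z ∈ Subgroup.zpowers w :=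
  h ▸ Subgroup.mul_mem _ (Subgroup.mem_zpowers w) (Subgroup.mem_zpowers w)

include S in
theorem two_mul_ev_ne (e : Fin (2 ^ (m - 1) - 1)) : 2 * ev m e ≠ 0 := fun h => by
  rcases two_torsion (s := ev m e) (by rwa [← two_mul]) with h' | h'
  · exact (S.ev_facts e e).2.1 h'
  · exact (S.ev_facts e e).2.2.1 h'

include S in
theorem two_mul_od_ne (a : Fin (2 ^ (m - 1))) : 2 * od m a ≠ 0 := fun h => by
  have hp := (S.od_facts a a).2.2.1
  rcases two_torsion (s := od m a) (by rwa [← two_mul]) with h' | h' <;> rw [h'] at hp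
  · rw [map_zero] at hp; exact zero_ne_one hp
  · exact zero_ne_one ((S.par_half).symm.trans hp)

/-- The quaternion case: every element has the central involution among its powers. -/
theorem cover_quaternion (ha : S.a = -1) (hτ : S.τ * S.τ = S.z) {w : G} (hw : w ∈ D)
    (hw1 : w ≠ 1) : S.z ∈ Subgroup.zpowers w := by
  obtain ⟨s, rfl | rfl⟩ := S.exists_elem hw
  · exact S.z_mem_zpowers_rot fun h => hw1 (h ▸ S.rot_zero)
  · refine S.z_mem_zpowers_of_sq ?_
    rw [show S.rot s * S.τ * (S.rot s * S.τ) = S.rot s * (S.τ * S.rot s * S.τ⁻¹) * (S.τ * S.τ) by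
      group, τ_conj, hτ, ← rot_add, ha]
    push_cast
    rw [neg_one_mul, add_neg_cancel, rot_zero, one_mul]

/-- The semidihedral case: the other elements are conjugates of the outside involution. -/
theorem cover_semidihedral (hm : 2 ≤ m) (ha : S.a = 2 ^ m - 1) (hτ : S.τ * S.τ = 1) {w : G}
    (hw : w ∈ D) (hw1 : w ≠ 1) :
    S.z ∈ Subgroup.zpowers w ∨ ∃ d ∈ D, d * S.τ * d⁻¹ = w := by
  haveI : NeZero (2 * 2 ^ m) := ⟨by positivity⟩
  obtain ⟨s, rfl | rfl⟩ := S.exists_elem hw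
  · exact Or.inl (S.z_mem_zpowers_rot fun h => hw1 (h ▸ S.rot_zero))
  have hα : (S.a : ZMod (2 * 2 ^ m)) = ((2 ^ m : ℕ) : ZMod (2 * 2 ^ m)) - 1 := by
    rw [ha]; push_cast; rfl
  have h0 := cast_two_pow_eq_zero (m := m)
  rcases Nat.even_or_odd s.val with ⟨t, ht⟩ | ⟨t, ht⟩
  · refine Or.inr ?_
    have hs : s = 2 * (t : ZMod (2 * 2 ^ m)) := by
      rw [← ZMod.natCast_zmod_val s, ht]; push_cast; ring
    set h : ZMod (2 * 2 ^ m) := ((2 ^ (m - 1) : ℕ) : ZMod (2 * 2 ^ m))
    have hh : ((2 ^ m : ℕ) : ZMod (2 * 2 ^ m)) = 2 * h := by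
      simp only [h]
      exact_mod_cast (congrArg (Nat.cast (R := ZMod (2 * 2 ^ m))) S.two_mul_half).symm
    have hh2 : 2 * h * h = 0 := by
      rw [← hh, ← Nat.cast_mul, ZMod.natCast_eq_zero_iff]
      refine ⟨2 ^ (m - 2), ?_⟩
      rw [show m - 1 = (m - 2) + 1 by omega, pow_succ]
      ring
    set k : ZMod (2 * 2 ^ m) := (t : ZMod (2 * 2 ^ m)) * (1 + h)
    refine ⟨S.rot k, S.rot_mem k, ?_⟩
    have h1 : S.rot k * S.τ * (S.rot k)⁻¹ = S.rot k * (S.τ * S.rot (-k) * S.τ⁻¹) * S.τ := by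
      rw [show S.rot (-k) = (S.rot k)⁻¹ from (inv_eq_of_mul_eq_one_right (by
        rw [← rot_add, add_neg_cancel, rot_zero])).symm]
      group
    rw [h1, τ_conj, ← rot_add, hs, hα, hh]
    congr 2
    show (t : ZMod (2 * 2 ^ m)) * (1 + h) + (2 * h - 1) * -((t : ZMod (2 * 2 ^ m)) * (1 + h)) = _
    linear_combination -(t : ZMod (2 * 2 ^ m)) * hh2
  · refine Or.inl (S.z_mem_zpowers_of_sq ?_)
    rw [show S.rot s * S.τ * (S.rot s * S.τ) = S.rot s * (S.τ * S.rot s * S.τ⁻¹) * (S.τ * S.τ) by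
      group, τ_conj, hτ, mul_one, ← rot_add, hα, z]
    congr 1
    have hs : s = 2 * (t : ZMod (2 * 2 ^ m)) + 1 := by
      rw [← ZMod.natCast_zmod_val s, ht]; push_cast; ring
    rw [hs]
    linear_combination (t : ZMod (2 * 2 ^ m)) * h0

/-- In the semidihedral case the centraliser of an outside involution has order four. -/
theorem card_centralized_le [Finite G] (hm : 2 ≤ m) (ha : S.a = 2 ^ m - 1) (hτ : S.τ * S.τ = 1)
    (R : Subgroup G) (hR : R ≤ D) (v : G) (hv : v ∈ R) (hv2 : orderOf v = 2)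
    (hc : ∀ r ∈ R, v * r = r * v) (hvz : v ≠ S.z) : Nat.card R ≤ 4 := by
  have hv1 : v ≠ 1 := fun h => by rw [h, orderOf_one] at hv2; omega
  rcases S.cover_semidihedral hm ha hτ (hR hv) hv1 with h | ⟨d, hd, hdv⟩
  · exact absurd (eq_of_sq_one_mem_zpowers (Subgroup.mem_zpowers v) h hv2 S.orderOf_z) hvz
  set Q := R.map (MulAut.conj d⁻¹).toMonoidHom with hQ
  rw [← Subgroup.card_map_of_injective (f := (MulAut.conj d⁻¹).toMonoidHom)
    (MulAut.conj d⁻¹).injective (K := R)]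
  have hsub : (Q : Set G) ⊆ ({1, S.z, S.τ, S.z * S.τ} : Set G) := by
    rintro _ ⟨r, hr, rfl⟩
    show d⁻¹ * r * d⁻¹⁻¹ ∈ _
    rw [inv_inv]
    have hcom : S.τ * (d⁻¹ * r * d) = d⁻¹ * r * d * S.τ := by
      have h1 := hc r hr
      rw [← hdv] at h1
      calc S.τ * (d⁻¹ * r * d) = d⁻¹ * (d * S.τ * d⁻¹ * r) * d := by group
        _ = d⁻¹ * (r * (d * S.τ * d⁻¹)) * d := by rw [h1]
        _ = _ := by group
    have hrot : ∀ s, S.τ * S.rot s = S.rot s * S.τ → S.rot s = 1 ∨ S.rot s = S.z := by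
      intro s hs
      have h1 : (S.a : ZMod (2 * 2 ^ m)) * s = s := S.rot_inj (by
        rw [← τ_conj, hs, mul_inv_cancel_right])
      obtain ⟨j, hj⟩ : ∃ j, m = j + 2 := ⟨m - 2, by omega⟩
      have h0 := cast_two_pow_eq_zero (m := m)
      have hzero : ((2 ^ m : ℕ) : ZMod (2 * 2 ^ m)) * ((2 ^ (m - 1) : ℕ) : ZMod (2 * 2 ^ m)) = 0 := by
        rw [← Nat.cast_mul, ZMod.natCast_eq_zero_iff]
        exact ⟨2 ^ j, by rw [hj, show j + 2 - 1 = j + 1 by omega, pow_succ]; ring⟩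
      have hhalf : ((2 ^ m : ℕ) : ZMod (2 * 2 ^ m)) = 2 * ((2 ^ (m - 1) : ℕ) : ZMod (2 * 2 ^ m)) := by
        exact_mod_cast (congrArg (Nat.cast (R := ZMod (2 * 2 ^ m))) S.two_mul_half).symm
      have hα : (S.a : ZMod (2 * 2 ^ m)) = ((2 ^ m : ℕ) : ZMod (2 * 2 ^ m)) - 1 := by
        rw [ha]; push_cast; rfl
      have h2m : ((2 ^ m : ℕ) : ZMod (2 * 2 ^ m)) * s = 0 := by
        linear_combination (-((2 ^ (m - 1) : ℕ) : ZMod (2 * 2 ^ m))) * h1 +
          (((2 ^ (m - 1) : ℕ) : ZMod (2 * 2 ^ m)) * s) * hα + s * hzero + s * hhalf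
      have h2 : s + s = 0 := by
        linear_combination -h1 + s * hα + h2m
      rcases two_torsion h2 with e | e <;> rw [e]
      · exact Or.inl S.rot_zero
      · exact Or.inr rfl
    obtain ⟨s, e | e⟩ := S.exists_elem (D.mul_mem (D.mul_mem (D.inv_mem hd) (hR hr)) hd) <;>
      rw [e] at hcom ⊢
    · rcases hrot s hcom with e' | e' <;> rw [e'] <;> simp
    · rcases hrot s (mul_right_cancel (b := S.τ) (by
        rw [mul_assoc, hcom])) with e' | e' <;> rw [e'] <;> simp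
  rw [show Nat.card Q = (Q : Set G).ncard from Nat.card_coe_set_eq _]
  refine (Set.ncard_le_ncard hsub (Set.toFinite _)).trans ?_
  refine (Set.ncard_insert_le _ _).trans (Nat.succ_le_succ ((Set.ncard_insert_le _ _).trans
    (Nat.succ_le_succ ((Set.ncard_insert_le _ _).trans ?_))))
  rw [Set.ncard_singleton]

end QD

namespace Ctx

variable {G : Type u} [Group G] [Fintype G] [Fact (Nat.Prime 2)] {M : Ideal AlgInt} [M.IsMaximal]
  {hM : IsPModular 2 M} {B : Set (IrrCharacter G)} {D : Subgroup G} {m : ℕ} (C : Ctx hM B D)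

/-- Representatives of the fusion classes of a set of elements of the defect group. -/
theorem exists_reps (P : G → Prop) (hP : ∀ w, P w → w ∈ D) :
    ∃ R : Finset G, (∀ r ∈ R, P r) ∧ (∀ v, P v → ∃ r ∈ R, C.Rel r v) ∧
      ∀ r ∈ R, ∀ r' ∈ R, C.Rel r r' → r = r' := by
  let s : Setoid {w : G // P w} := ⟨fun v w => C.Rel v.1 w.1,
    ⟨fun v => Rel.refl C (hP _ v.2), Rel.symm, Rel.trans⟩⟩
  refine ⟨(Finset.univ : Finset {w : G // P w}).image fun w => (Quotient.mk s w).out.1, ?_, ?_, ?_⟩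
  · intro r hr
    obtain ⟨w, -, rfl⟩ := Finset.mem_image.1 hr
    exact (Quotient.mk s w).out.2
  · exact fun v hv => ⟨_, Finset.mem_image.2 ⟨⟨v, hv⟩, Finset.mem_univ _, rfl⟩,
      Quotient.mk_out (s := s) (⟨v, hv⟩ : {w : G // P w})⟩
  · intro r hr r' hr' h
    obtain ⟨w, -, rfl⟩ := Finset.mem_image.1 hr
    obtain ⟨w', -, rfl⟩ := Finset.mem_image.1 hr'
    have h1 : C.Rel w.1 w'.1 := ((Quotient.mk_out (s := s) w : C.Rel _ _).symm.trans h).trans
      (Quotient.mk_out (s := s) w' : C.Rel _ _)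
    rw [show Quotient.mk s w = Quotient.mk s w' from Quotient.sound h1]

variable (S : QD D m)

/-- The elements with the central involution among their powers. -/
def ZP (w : G) : Prop := w ∈ D ∧ w ≠ 1 ∧ S.z ∈ Subgroup.zpowers w

variable {S}

theorem ZP.le {w : G} (h : ZP S w) :
    Subgroup.centralizer ({w} : Set G) ≤ Subgroup.centralizer ({S.z} : Set G) :=
  QD.centralizer_le_of_mem_zpowers h.2.2

theorem ZP.eq_z {w : G} (h : ZP S w) (h2 : _root_.orderOf w = 2) : w = S.z :=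
  QD.eq_of_sq_one_mem_zpowers (Subgroup.mem_zpowers w) h.2.2 h2 S.orderOf_z

variable (S)

theorem z_ne_one : S.z ≠ 1 := fun h => by
  have := S.orderOf_z
  rw [h, _root_.orderOf_one] at this
  omega

theorem zp_z : ZP S S.z := ⟨S.z_mem, z_ne_one S, Subgroup.mem_zpowers _⟩

/-- The rotations give as many classes as in the defect group. -/
theorem le_sum_reps (R : Finset G) (hR1 : ∀ r ∈ R, ZP S r)
    (hR2 : ∀ v, ZP S v → ∃ r ∈ R, C.Rel r v) :
    C.rk S.z + (2 ^ m - 1) ≤ ∑ r ∈ R, C.rk r := by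
  have hzR : S.z ∈ R := by
    obtain ⟨r, hr, hrz⟩ := hR2 _ (zp_z S)
    exact ((hR1 r hr).eq_z (hrz.orderOf.trans S.orderOf_z)) ▸ hr
  set f : Fin (2 ^ (m - 1) - 1) ⊕ Fin (2 ^ (m - 1)) → ZMod (2 * 2 ^ m) :=
    Sum.elim (QD.ev m) (QD.od m)
  have h2 : ∀ i, 2 * f i ≠ 0 := by
    rintro (e | a)
    · exact S.two_mul_ev_ne e
    · exact S.two_mul_od_ne a
  have hz : ∀ i, ZP S (S.rot (f i)) := fun i =>
    have h0 : f i ≠ 0 := fun h => h2 i (by rw [h, mul_zero])
    ⟨S.rot_mem _, fun h => h0 (S.rot_eq_one_iff.1 h), S.z_mem_zpowers_rot h0⟩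
  choose ρ hρ hρR using fun i => hR2 _ (hz i)
  have hne : ∀ i, ρ i ≠ S.z := fun i h => by
    have h1 := (hρR i).orderOf
    rw [h, S.orderOf_z] at h1
    refine h2 i ?_
    rw [← S.rot_eq_one_iff, ← S.rot_pow_two, h1, pow_orderOf_eq_one]
  have hinj : Function.Injective ρ := by
    intro i j hij
    have h : C.Rel (S.rot (f i)) (S.rot (f j)) := (hρR i).symm.trans (hij ▸ hρR j)
    have h' := C.rot_fused S (h2 i) h
    have hpar : ∀ (e : Fin (2 ^ (m - 1) - 1)) (a : Fin (2 ^ (m - 1))),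
        QD.ev m e ≠ QD.od m a ∧ QD.ev m e ≠ S.α * QD.od m a := fun e a => by
      have he := (S.ev_facts e e).2.2.2.2
      constructor <;> intro hh <;> rw [hh] at he
      · exact one_ne_zero ((S.od_facts a a).2.2.1.symm.trans he)
      · exact one_ne_zero ((S.od_facts a a).2.2.2.symm.trans he)
    change f j = f i ∨ f j = S.α * f i at h'
    rcases i with e | a <;> rcases j with e' | a' <;> simp only [f, Sum.elim_inl, Sum.elim_inr] at h'
    · rcases h' with h' | h'
      · rw [(S.ev_facts e' e).1.1 h']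
      · exact absurd h' (S.ev_facts e' e).2.2.2.1
    · rcases h' with h' | h'
      · exact absurd h'.symm (hpar e a').1
      · exact absurd ((S.α_mul_eq_iff _ _).1 h'.symm) (hpar e a').2
    · rcases h' with h' | h'
      · exact absurd h' (hpar e' a).1
      · exact absurd h' (hpar e' a).2
    · rcases h' with h' | h'
      · rw [(S.od_facts a' a).1.1 h']
      · exact absurd h' (S.od_facts a' a).2.1
  rw [← Finset.add_sum_erase _ _ hzR]
  refine Nat.add_le_add_left ?_ _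
  have hsub : (Finset.univ.image ρ) ⊆ R.erase S.z := by
    intro r hr
    obtain ⟨i, -, rfl⟩ := Finset.mem_image.1 hr
    exact Finset.mem_erase.2 ⟨hne i, hρ i⟩
  refine le_trans ?_ (Finset.sum_le_sum_of_subset hsub)
  refine le_trans (le_of_eq ?_) (Finset.card_nsmul_le_sum (Finset.univ.image ρ) _ 1
    fun r hr => C.one_le_rk (hR1 r (Finset.mem_of_mem_erase (hsub hr))).1)
  rw [smul_eq_mul, mul_one, Finset.card_image_of_injective _ hinj, Finset.card_univ,
    Fintype.card_sum, Fintype.card_fin, Fintype.card_fin, ← S.two_mul_half]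
  have := Nat.two_pow_pos (m - 1)
  omega

/-- The block of the centraliser of the central involution. -/
theorem exists_center_ctx :
    IsDefectGroup 2 M (C.blk S.z_mem) (D.subgroupOf (Subgroup.centralizer ({S.z} : Set G))) ∧
      blockDefect 2 (C.blk S.z_mem) = blockDefect 2 B ∧
      Nat.card (C.blk S.z_mem) = 2 ^ m + 2 + blockRank 2 (C.blk S.z_mem) ∧
      ∃ Cb : Ctx hM (C.blk S.z_mem) (D.subgroupOf (Subgroup.centralizer ({S.z} : Set G))),
        inclA (ResK M) (Subgroup.centralizer ({S.z} : Set G)) Cb.e0 = C.e0 := by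
  have := charP_res hM
  set K := Subgroup.centralizer ({S.z} : Set G) with hKdef
  set Q := Subgroup.zpowers S.z
  have hK : K = cz Q := centralizer_singleton_eq S.z
  have hDK : D ≤ K := fun g hg => Subgroup.mem_centralizer_singleton_iff.2 (S.z_comm hg)
  have hQD : Q ≤ D := Subgroup.zpowers_le.2 S.z_mem
  have hQp : IsPGroup 2 Q := C.pgroup.to_le hQD
  set b := C.blk S.z_mem
  have hb : IsPBlock M b := C.isPBlock_blk S.z_mem
  have hQB : brMap (ResK M) Q (eG hM B) * eA hM K b = eA hM K b := by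
    rw [C.eA_blk S.z_mem]; exact C.cover_a S.z_mem
  have hS : BrSetup 2 Q (eA hM K b) K :=
    ⟨hQp, hK ▸ isBlockIdem_eA hM hb, hK ▸ cz_le_normalizer Q, hK.ge, hQD.trans hDK,
      (isBlockIdem_eA hM hb).fixed⟩
  obtain ⟨g, hg⟩ := exists_normalSub (p := 2) (hasBlocks hM) hQD
    ((hDK.trans hK.le).trans (cz_le_normalizer Q)) C.pgroup C.block
  have hgb : g = eA hM K b := (C.a_unique S.z_mem (Relation.ReflTransGen.single hg)).trans
    (C.eA_blk S.z_mem).symm
  have hcov : brMap (ResK M) D (eA hM K b) * C.e0 = C.e0 := hgb ▸ hg.cover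
  have hO : OverPair 2 Q (eA hM K b) K D C.e0 := ⟨C.pgroup, hQD, hDK, C.block, hcov⟩
  have hdef : IsDefectGroup 2 M b (D.subgroupOf K) := by
    rw [isDefectGroup_stabilizer_iff hM hS hb rfl, Subgroup.map_subgroupOf_eq_of_le hDK]
    exact isDefect_local hM C.hB hS hQB C.isDefect hDK (hS.brMap_ne_zero hO)
  refine ⟨hdef, Nat.pow_right_injective le_rfl ?_, ?_,
    C.exists_inside hDK ((cz_anti hQD).trans hK.ge) hb hdef hcov⟩
  · show 2 ^ blockDefect 2 b = 2 ^ blockDefect 2 B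
    rw [← BlockCover.natCard_defect hM hb hdef, ← BlockCover.natCard_defect hM C.hB C.hD,
      Nat.card_congr (Subgroup.subgroupOfEquivOfLe hDK).toEquiv]
  · letI : Fintype (ConjClasses K) := Fintype.ofFinite _
    obtain ⟨L⟩ := exists_loc hM hb hdef (S.sub hDK)
    refine L.card_central (Subgroup.mem_center_iff.2 fun c => Subtype.ext ?_) hdef
    rw [Subgroup.coe_mul, Subgroup.coe_mul, S.sub_z hDK]
    exact Subgroup.mem_centralizer_singleton_iff.1 c.2

set_option maxHeartbeats 800000 in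
/-- The counts: the elements with the central involution among their powers, and possibly one
further class. -/
theorem counts (E : Finset G) (hE : ∀ e ∈ E, e ∈ D ∧ _root_.orderOf e = 2 ∧ e ≠ S.z)
    (hE1 : E.card ≤ 1) (hcov : ∀ w ∈ D, w ≠ 1 → ZP S w ∨ ∃ e ∈ E, ∃ d ∈ D, d * e * d⁻¹ = w)
    (h4 : E.Nonempty → ∀ R : Subgroup G, R ≤ D → ∀ v ∈ R, _root_.orderOf v = 2 →
      (∀ r ∈ R, v * r = r * v) → v ≠ S.z → Nat.card R ≤ 4)
    :
    ∃ r : ℕ, r ≤ E.card ∧
      Nat.card B + E.card = blockRank 2 B + (2 ^ m + 2) + r ∧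
      blockRank 2 (C.blk S.z_mem) + E.card ≤ 3 := by
  have := charP_res hM
  set K := Subgroup.centralizer ({S.z} : Set G) with hKdef
  obtain ⟨hdef, -, hcardK, Cb, hincl⟩ := C.exists_center_ctx S
  have hDK : D ≤ K := fun g hg => Subgroup.mem_centralizer_singleton_iff.2 (S.z_comm hg)
  set SK := S.sub hDK
  have hzK : ((SK.z : K) : G) = S.z := S.sub_z hDK
  obtain ⟨R, hR1, hR2, hR3⟩ := C.exists_reps (ZP S) fun w h => h.1
  have hRz := C.le_sum_reps S R hR1 hR2
  rw [C.rk_eq S.z_mem] at hRz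
  -- the count in the centraliser
  have hEK : ∀ e ∈ E, e ∈ K := fun e he => hDK (hE e he).1
  have hRK : ∀ r ∈ R, r ∈ K := fun r hr => hDK (hR1 r hr).1
  have hdisj : Disjoint R E := Finset.disjoint_left.2 fun r hr he =>
    (hE r he).2.2 ((hR1 r hr).eq_z (hE r he).2.1)
  have hREK : ∀ r ∈ R ∪ E, r ∈ K := fun r hr =>
    (Finset.mem_union.1 hr).elim (hRK r) (hEK r)
  have hRE1 : ∀ r ∈ R ∪ E, r ∈ D ∧ r ≠ 1 := fun r hr => by
    rcases Finset.mem_union.1 hr with h | h
    · exact ⟨(hR1 r h).1, (hR1 r h).2.1⟩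
    · refine ⟨(hE r h).1, fun e => ?_⟩
      have h2 := (hE r h).2.1
      rw [e, _root_.orderOf_one] at h2
      omega
  have hnoZ : ∀ {w v : K}, ZP S (w : G) → (v : G) ∈ E → ¬ Cb.Rel w v := by
    rintro w v hw hv ⟨-, -, g, hg, -⟩
    have h2 : _root_.orderOf (w : G) = 2 := by
      rw [← (hE _ hv).2.1, ← hg, Subgroup.coe_mul, Subgroup.coe_mul,
        Subgroup.coe_inv, BPStar.orderOf_conj']
    have hwz := hw.eq_z h2
    refine (hE _ hv).2.2 ?_
    rw [← hg, Subgroup.coe_mul, Subgroup.coe_mul, Subgroup.coe_inv, hwz,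
      Subgroup.mem_centralizer_singleton_iff.1 g.2, mul_inv_cancel_right]
  have hfixz : ∀ {w v : G}, ZP S w → ZP S v → ∀ g : G, g * w * g⁻¹ = v → g ∈ K := by
    intro w v hw hv g hg
    have h1 : g * S.z * g⁻¹ ∈ Subgroup.zpowers v := by
      obtain ⟨i, hi⟩ := Subgroup.mem_zpowers_iff.1 hw.2.2
      exact Subgroup.mem_zpowers_iff.2 ⟨i, by rw [← hi, ← hg, conj_zpow]⟩
    refine Subgroup.mem_centralizer_singleton_iff.2 (mul_inv_eq_iff_eq_mul.1 ?_)
    exact QD.eq_of_sq_one_mem_zpowers h1 hv.2.2 (by rw [BPStar.orderOf_conj', S.orderOf_z])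
      S.orderOf_z
  have hKR : ∀ {w v : K}, ZP S (w : G) → ZP S (v : G) →
      (Cb.Rel w v ↔ C.Rel (w : G) (v : G)) := by
    intro w v hw hv
    have haw := C.inclA_a hDK hincl (w := w) hw.1 hw.le
    have hav := C.inclA_a hDK hincl (w := v) hv.1 hv.le
    constructor
    · rintro ⟨-, -, g, hg, hga⟩
      refine ⟨hw.1, hv.1, g, by rw [← hg]; rfl, ?_⟩
      rw [← haw, ← hav, ← inclA_conjA, hga]
    · rintro ⟨-, -, g, hg, hga⟩
      have hgK := hfixz hw hv g hg
      refine ⟨hw.1, hv.1, ⟨g, hgK⟩, Subtype.ext hg, inclA_injective K ?_⟩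
      rw [inclA_conjA, haw, hav]
      exact hga
  have hcountK := Cb.card_sub_rank ((R ∪ E).subtype (· ∈ K))
    (fun r hr => by
      obtain ⟨h1, h2⟩ := hRE1 _ (Finset.mem_subtype.1 hr)
      exact ⟨h1, fun e => h2 (by rw [e]; rfl)⟩)
    (fun v hv hv1 => by
      rcases hcov (v : G) hv (fun e => hv1 (Subtype.ext e)) with h | ⟨e, he, d, hd, hdv⟩
      · obtain ⟨r, hr, hrv⟩ := hR2 _ h
        exact ⟨⟨r, hRK r hr⟩, Finset.mem_subtype.2 (Finset.mem_union_left _ hr),
          (hKR (hR1 r hr) h).2 hrv⟩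
      · refine ⟨⟨e, hEK e he⟩, Finset.mem_subtype.2 (Finset.mem_union_right _ he), ?_⟩
        have h := Cb.rel_conj (u := ⟨e, hEK e he⟩) (d := ⟨d, hDK hd⟩) (hE e he).1 hd
        rwa [show (⟨d, hDK hd⟩ : K) * ⟨e, hEK e he⟩ * (⟨d, hDK hd⟩ : K)⁻¹ = v from
          Subtype.ext hdv] at h)
    (fun r hr r' hr' h => by
      rcases Finset.mem_union.1 (Finset.mem_subtype.1 hr) with a | a <;>
        rcases Finset.mem_union.1 (Finset.mem_subtype.1 hr') with a' | a'
      · exact Subtype.ext (hR3 _ a _ a' ((hKR (hR1 _ a) (hR1 _ a')).1 h))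
      · exact absurd h (hnoZ (hR1 _ a) a')
      · exact absurd h.symm (hnoZ (hR1 _ a') a)
      · exact Subtype.ext (Finset.card_le_one.1 hE1 _ a _ a'))
  have hrkK : ∀ r : K, (r : G) ∈ E → Cb.rk r = 1 := by
    intro r hr
    refine Cb.rk_eq_one SK (hE _ hr).1 (by rw [← Subgroup.orderOf_coe]; exact (hE _ hr).2.1)
      (fun Q hQ v hv hv2 hc hvz => ?_) ?_
    · rw [← Subgroup.card_map_of_injective K.subtype_injective (K := Q)]
      refine h4 ⟨_, hr⟩ (Q.map K.subtype) ?_ (v : G) ⟨v, hv, rfl⟩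
        (by rw [Subgroup.orderOf_coe]; exact hv2) ?_ ?_
      · rintro _ ⟨x, hx, rfl⟩; exact hQ hx
      · rintro _ ⟨x, hx, rfl⟩; exact congrArg Subtype.val (hc x hx)
      · exact fun e => hvz (Subtype.ext (e.trans hzK.symm))
    · intro h
      exact hnoZ (w := SK.z) (v := r) (by rw [hzK]; exact zp_z S) hr h.symm
  have hKsum : ∀ F : Finset G, (∀ r ∈ F, r ∈ K) → ∀ f : G → ℕ,
      ∑ r ∈ F.subtype (· ∈ K), f (r : G) = ∑ r ∈ F, f r :=
    fun F hF f => Finset.sum_subtype_of_mem (p := (· ∈ K)) f hF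
  set g : G → ℕ := fun r => if r ∈ E then 1 else C.rk r
  have hsumK : ∑ r ∈ (R ∪ E).subtype (· ∈ K), Cb.rk r = (∑ r ∈ R, C.rk r) + E.card := by
    rw [Finset.sum_congr rfl (g := fun r : K => g (r : G)) fun r hr => ?_, hKsum _ hREK g,
      Finset.sum_union hdisj]
    · congr 1
      · exact Finset.sum_congr rfl fun r hr => if_neg (Finset.disjoint_left.1 hdisj hr)
      · rw [Finset.card_eq_sum_ones]
        exact Finset.sum_congr rfl fun r hr => if_pos hr
    · rcases Finset.mem_union.1 (Finset.mem_subtype.1 hr) with a | a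
      · simp only [g, if_neg (Finset.disjoint_left.1 hdisj a)]
        exact C.rk_inside hDK hincl (hR1 _ a).1 (hR1 _ a).le
      · simp only [g, if_pos a]
        exact hrkK r a
  rw [← Nat.cast_sum, hsumK, hcardK] at hcountK
  have hSum : (∑ r ∈ R, C.rk r) + E.card = 2 ^ m + 2 := by omega
  -- the count in the whole group
  set E' := E.filter fun e => ¬ C.Rel e S.z
  have hE' : E' ⊆ E := Finset.filter_subset _ _
  have hcountG := C.card_sub_rank (R ∪ E')
    (fun r hr => hRE1 r (Finset.mem_union.2 ((Finset.mem_union.1 hr).imp_right fun h => hE' h)))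
    (fun v hv hv1 => by
      rcases hcov v hv hv1 with h | ⟨e, he, d, hd, rfl⟩
      · obtain ⟨r, hr, hrv⟩ := hR2 _ h
        exact ⟨r, Finset.mem_union_left _ hr, hrv⟩
      · by_cases hez : C.Rel e S.z
        · obtain ⟨r, hr, hrv⟩ := hR2 _ (zp_z S)
          exact ⟨r, Finset.mem_union_left _ hr,
            (hrv.trans hez.symm).trans (C.rel_conj (hE e he).1 hd)⟩
        · exact ⟨e, Finset.mem_union_right _ (Finset.mem_filter.2 ⟨he, hez⟩),
            C.rel_conj (hE e he).1 hd⟩)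
    (fun r hr r' hr' h => by
      have key : ∀ {x e : G}, x ∈ R → e ∈ E' → ¬ C.Rel x e := fun {x e} hx he hrel => by
        obtain ⟨heE, hez⟩ := Finset.mem_filter.1 he
        have h2 : _root_.orderOf x = 2 := hrel.orderOf.trans (hE e heE).2.1
        rw [(hR1 x hx).eq_z h2] at hrel
        exact hez hrel.symm
      rcases Finset.mem_union.1 hr with a | a <;> rcases Finset.mem_union.1 hr' with a' | a'
      · exact hR3 _ a _ a' h
      · exact absurd h (key a a')
      · exact absurd h.symm (key a' a)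
      · exact Finset.card_le_one.1 hE1 _ (hE' a) _ (hE' a'))
  have hsumG : ∑ r ∈ R ∪ E', C.rk r = (∑ r ∈ R, C.rk r) + E'.card := by
    rw [Finset.sum_union (Finset.disjoint_of_subset_right hE' hdisj), Finset.card_eq_sum_ones]
    congr 1
    refine Finset.sum_congr rfl fun r hr => ?_
    obtain ⟨hrE, hrz⟩ := Finset.mem_filter.1 hr
    exact C.rk_eq_one S (hE r hrE).1 (hE r hrE).2.1 (h4 ⟨r, hrE⟩) hrz
  rw [← Nat.cast_sum, hsumG] at hcountG
  have := Nat.two_pow_pos m
  refine ⟨E'.card, Finset.card_le_card hE', by omega, by omega⟩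

/-- The quaternion case. -/
theorem counts_quaternion (ha : S.a = -1)
    (hτ : S.τ * S.τ = S.z) :
    Nat.card B = blockRank 2 B + (2 ^ m + 2) ∧ blockRank 2 (C.blk S.z_mem) ≤ 3 := by
  obtain ⟨r, hr, h1, h2⟩ := C.counts S ∅ (by simp) (by simp)
    (fun w hw hw1 => Or.inl ⟨hw, hw1, S.cover_quaternion ha hτ hw hw1⟩)
    (fun h => absurd h (by simp))
  simp only [Finset.card_empty] at hr h1 h2
  omega

/-- The semidihedral case. -/
theorem counts_semidihedral (hm : 2 ≤ m)
    (ha : S.a = 2 ^ m - 1) (hτ : S.τ * S.τ = 1) :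
    (Nat.card B = blockRank 2 B + (2 ^ m + 1) ∨ Nat.card B = blockRank 2 B + (2 ^ m + 2)) ∧
      blockRank 2 (C.blk S.z_mem) ≤ 2 := by
  have hτ1 : S.τ ≠ 1 := fun h => S.notMem (h ▸ Subgroup.one_mem _)
  have hτz : S.τ ≠ S.z := fun h => S.notMem (h ▸ S.rot_mem_zpowers _)
  have hτo : _root_.orderOf S.τ = 2 := orderOf_eq_prime (by rw [sq, hτ]) hτ1
  obtain ⟨r, hr, h1, h2⟩ := C.counts S {S.τ}
    (fun e he => by rw [Finset.mem_singleton.1 he]; exact ⟨S.τ_mem, hτo, hτz⟩) (by simp)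
    (fun w hw hw1 => (S.cover_semidihedral hm ha hτ hw hw1).imp (fun h => ⟨hw, hw1, h⟩)
      fun ⟨d, hd, h⟩ => ⟨S.τ, Finset.mem_singleton_self _, d, hd, h⟩)
    (fun _ => S.card_centralized_le hm ha hτ)
  simp only [Finset.card_singleton] at hr h1 h2
  omega

end Ctx

end CfsgLib.QuatDefect
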