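import Cfsg.Agent.Lib.Blocks.CyclicNilpotent
import Cfsg.Agent.Lib.Characters.Induction
import Mathlib.Analysis.SpecialFunctions.Complex.CircleAddChar
import Mathlib.NumberTheory.LegendreSymbol.AddCharacter
import Mathlib.GroupTheory.SpecificGroups.Cyclic

/-!
# A 2-group with a cyclic subgroup of index two whose other elements have order at most four

`σ` generates the cyclic subgroup, of order `2 * 2 ^ m`, and `τ` is outside, acting by the power
`a`, which is `-1` or `2 ^ m - 1`.  The rotations of order above two have `y = σ ^ 2 ^ (m - 1)`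
among their powers, so their fusion and centralisers lie in the normaliser `H` of `⟨y⟩`.
-/

set_option autoImplicit false
set_option linter.unusedSectionVars false
set_option linter.unusedSimpArgs false

namespace CfsgLib.QuatDefect

open Cfsg
open scoped Classical

universe u

/-- The data of the defect group. -/
structure QD {G : Type u} [Group G] (D : Subgroup G) (m : ℕ) where
  /-- the generator of the cyclic subgroup -/
  σ : G
  /-- an element outside -/
  τ : G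
  /-- the exponent of its action -/
  a : ℤ
  one_le : 1 ≤ m
  a_eq : a = -1 ∨ (2 ≤ m ∧ a = 2 ^ m - 1)
  σ_mem : σ ∈ D
  τ_mem : τ ∈ D
  ord : orderOf σ = 2 * 2 ^ m
  rel : τ * σ * τ⁻¹ = σ ^ a
  τ_sq : τ * τ = 1 ∨ τ * τ = σ ^ (2 ^ m)
  notMem : τ ∉ Subgroup.zpowers σ
  card : Nat.card D = 4 * 2 ^ m

namespace QD

variable {G : Type u} [Group G] {D : Subgroup G} {m : ℕ} (S : QD D m)

/-- The rotations. -/
def rot (t : ZMod (2 * 2 ^ m)) : G := S.σ ^ t.val

theorem rot_natCast (i : ℕ) : S.rot (i : ZMod (2 * 2 ^ m)) = S.σ ^ i := by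
  rw [rot, ZMod.val_natCast, pow_eq_pow_iff_modEq, S.ord]
  exact Nat.mod_modEq _ _

theorem rot_intCast (i : ℤ) : S.rot (i : ZMod (2 * 2 ^ m)) = S.σ ^ i := by
  obtain ⟨k, hk⟩ : ∃ k : ℕ, (i : ZMod (2 * 2 ^ m)) = (k : ZMod (2 * 2 ^ m)) :=
    ⟨(i : ZMod (2 * 2 ^ m)).val, (ZMod.natCast_zmod_val _).symm⟩
  rw [hk, rot_natCast, ← zpow_natCast]
  refine zpow_eq_zpow_iff_modEq.2 ?_
  rw [S.ord, ← ZMod.intCast_eq_intCast_iff, hk]
  push_cast
  rfl

theorem rot_add (s t : ZMod (2 * 2 ^ m)) : S.rot (s + t) = S.rot s * S.rot t := by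
  rw [← ZMod.natCast_zmod_val s, ← ZMod.natCast_zmod_val t, ← Nat.cast_add, rot_natCast,
    rot_natCast, rot_natCast, pow_add]

theorem rot_zero : S.rot 0 = 1 := by simp [rot]

theorem rot_inj : Function.Injective S.rot := fun s t h => by
  rw [rot, rot, pow_eq_pow_iff_modEq, S.ord, ← ZMod.natCast_eq_natCast_iff,
    ZMod.natCast_zmod_val, ZMod.natCast_zmod_val] at h
  exact h

theorem rot_pow (s : ZMod (2 * 2 ^ m)) (k : ℕ) : S.rot s ^ k = S.rot (k * s) := by
  rw [← ZMod.natCast_zmod_val s, ← Nat.cast_mul, rot_natCast, rot_natCast, ← pow_mul, mul_comm]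

theorem rot_pow_two (s : ZMod (2 * 2 ^ m)) : S.rot s ^ 2 = S.rot (2 * s) := by
  simpa using S.rot_pow s 2

theorem rot_pow_four (s : ZMod (2 * 2 ^ m)) : S.rot s ^ 4 = S.rot (4 * s) := by
  simpa using S.rot_pow s 4

theorem rot_comm (s t : ZMod (2 * 2 ^ m)) : S.rot s * S.rot t = S.rot t * S.rot s := by
  rw [← rot_add, ← rot_add, add_comm]

theorem rot_eq_one_iff {s : ZMod (2 * 2 ^ m)} : S.rot s = 1 ↔ s = 0 :=
  ⟨fun h => S.rot_inj (h.trans S.rot_zero.symm), fun h => h ▸ S.rot_zero⟩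

theorem rot_mem (s : ZMod (2 * 2 ^ m)) : S.rot s ∈ D := D.pow_mem S.σ_mem _

theorem τ_conj (s : ZMod (2 * 2 ^ m)) :
    S.τ * S.rot s * S.τ⁻¹ = S.rot ((S.a : ZMod (2 * 2 ^ m)) * s) := by
  rw [← ZMod.natCast_zmod_val s, rot_natCast, ← conj_pow, S.rel, ← zpow_natCast, ← zpow_mul,
    ← rot_intCast]
  push_cast
  rfl

theorem exists_rot {g : G} (hg : g ∈ Subgroup.zpowers S.σ) : ∃ s, g = S.rot s := by
  obtain ⟨i, rfl⟩ := Subgroup.mem_zpowers_iff.1 hg
  exact ⟨i, (S.rot_intCast i).symm⟩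

theorem rot_mem_zpowers (s : ZMod (2 * 2 ^ m)) : S.rot s ∈ Subgroup.zpowers S.σ :=
  Subgroup.pow_mem _ (Subgroup.mem_zpowers _) _

theorem rot_ne_τ (s t : ZMod (2 * 2 ^ m)) : S.rot s ≠ S.rot t * S.τ := fun h => S.notMem (by
  rw [show S.τ = (S.rot t)⁻¹ * S.rot s by rw [h, inv_mul_cancel_left]]
  exact Subgroup.mul_mem _ (Subgroup.inv_mem _ (S.rot_mem_zpowers t)) (S.rot_mem_zpowers s))

/-- The rotations as a subgroup of `D`. -/
def A : Subgroup D := (Subgroup.zpowers S.σ).subgroupOf D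

theorem index_A : S.A.index = 2 := by
  have h := S.A.card_mul_index
  rw [A, Nat.card_congr (Subgroup.subgroupOfEquivOfLe (Subgroup.zpowers_le.2 S.σ_mem)).toEquiv,
    Nat.card_zpowers, S.ord, S.card] at h
  exact Nat.eq_of_mul_eq_mul_left (by positivity : 0 < 2 * 2 ^ m) (by rw [A, h]; ring)

theorem exists_elem {g : G} (hg : g ∈ D) : ∃ s, g = S.rot s ∨ g = S.rot s * S.τ := by
  by_cases h : g ∈ Subgroup.zpowers S.σ
  · obtain ⟨s, hs⟩ := S.exists_rot h
    exact ⟨s, Or.inl hs⟩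
  · have h2 := (Subgroup.mul_mem_iff_of_index_two S.index_A (a := ⟨g, hg⟩)
      (b := (⟨S.τ, S.τ_mem⟩ : D)⁻¹)).2 (iff_of_false
        (fun h' => h (Subgroup.mem_subgroupOf.1 h'))
        (fun h' => S.notMem (by simpa [A, Subgroup.mem_subgroupOf] using h')))
    obtain ⟨s, hs⟩ := S.exists_rot (Subgroup.mem_subgroupOf.1 h2)
    refine ⟨s, Or.inr ?_⟩
    rw [← hs]
    simp

include S in
theorem two_mul_half : (2 : ℕ) * 2 ^ (m - 1) = 2 ^ m := by
  rw [← pow_succ', Nat.sub_add_cancel S.one_le]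

theorem cast_two_pow_eq_zero : ((2 : ZMod (2 * 2 ^ m))) * ((2 ^ m : ℕ) : ZMod (2 * 2 ^ m)) = 0 := by
  rw [show (2 : ZMod (2 * 2 ^ m)) * ((2 ^ m : ℕ) : ZMod (2 * 2 ^ m)) = ((2 * 2 ^ m : ℕ) : ZMod (2 * 2 ^ m)) by push_cast; rfl,
    ZMod.natCast_self]

/-- The central involution. -/
def z : G := S.rot ((2 ^ m : ℕ) : ZMod (2 * 2 ^ m))

/-- The element of order four. -/
def y : G := S.rot ((2 ^ (m - 1) : ℕ) : ZMod (2 * 2 ^ m))

theorem z_eq_y_sq : S.z = S.y * S.y := by
  rw [z, y, ← rot_add, ← Nat.cast_add, ← two_mul, S.two_mul_half]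

/-- A rotation killed by two is `1` or `z`. -/
theorem two_torsion {s : ZMod (2 * 2 ^ m)} (h : s + s = 0) :
    s = 0 ∨ s = ((2 ^ m : ℕ) : ZMod (2 * 2 ^ m)) := by
  haveI : NeZero (2 * 2 ^ m) := ⟨by positivity⟩
  rw [← ZMod.natCast_zmod_val s, ← Nat.cast_add, ZMod.natCast_eq_zero_iff] at h
  obtain ⟨k, hk⟩ := h
  have hlt := ZMod.val_lt s
  have : k < 2 := by
    by_contra hk2
    push Not at hk2
    have : 2 * 2 ^ m * 2 ≤ 2 * 2 ^ m * k := Nat.mul_le_mul le_rfl hk2
    omega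
  rcases (show k = 0 ∨ k = 1 by omega) with rfl | rfl
  · left; rw [← ZMod.natCast_zmod_val s, show s.val = 0 by omega, Nat.cast_zero]
  · right; rw [← ZMod.natCast_zmod_val s, show s.val = 2 ^ m by omega]

/-- A rotation killed by four is a power of `y`. -/
theorem four_torsion {s : ZMod (2 * 2 ^ m)} (h : 4 * s = 0) :
    S.rot s ∈ Subgroup.zpowers S.y := by
  haveI : NeZero (2 * 2 ^ m) := ⟨by positivity⟩
  rw [show (4 : ZMod (2 * 2 ^ m)) * s = ((4 * s.val : ℕ) : ZMod (2 * 2 ^ m)) by push_cast; rw [ZMod.natCast_zmod_val],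
    ZMod.natCast_eq_zero_iff] at h
  obtain ⟨k, hk'⟩ := h
  have hk : s.val = 2 ^ (m - 1) * k := by
    have h2 := congrArg (· * k) S.two_mul_half
    simp only [mul_assoc] at h2 hk'
    omega
  refine ⟨k, ?_⟩
  show S.y ^ (k : ℤ) = _
  rw [zpow_natCast, y, rot_natCast, ← pow_mul, ← hk]
  rfl

include S in
theorem four_y : 4 * ((2 ^ (m - 1) : ℕ) : ZMod (2 * 2 ^ m)) = 0 := by
  rw [show (4 : ZMod (2 * 2 ^ m)) * ((2 ^ (m - 1) : ℕ) : ZMod (2 * 2 ^ m)) =
    ((4 * 2 ^ (m - 1) : ℕ) : ZMod (2 * 2 ^ m)) by push_cast; rfl, show 4 * 2 ^ (m - 1) = 2 * 2 ^ m by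
    rw [← S.two_mul_half]; ring, ZMod.natCast_self]

include S in
theorem two_y_ne : (2 : ZMod (2 * 2 ^ m)) * ((2 ^ (m - 1) : ℕ) : ZMod (2 * 2 ^ m)) ≠ 0 := by
  rw [show (2 : ZMod (2 * 2 ^ m)) * ((2 ^ (m - 1) : ℕ) : ZMod (2 * 2 ^ m)) =
    ((2 * 2 ^ (m - 1) : ℕ) : ZMod (2 * 2 ^ m)) by push_cast; rfl, S.two_mul_half, Ne,
    ZMod.natCast_eq_zero_iff]
  intro h
  have := Nat.le_of_dvd (Nat.two_pow_pos m) h
  have := Nat.two_pow_pos m
  omega

theorem a_y : (S.a : ZMod (2 * 2 ^ m)) * ((2 ^ (m - 1) : ℕ) : ZMod (2 * 2 ^ m)) =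
    -((2 ^ (m - 1) : ℕ) : ZMod (2 * 2 ^ m)) := by
  rcases S.a_eq with h | ⟨hm, h⟩ <;> rw [h]
  · push_cast; ring
  · have : ((2 ^ m : ℕ) : ZMod (2 * 2 ^ m)) * ((2 ^ (m - 1) : ℕ) : ZMod (2 * 2 ^ m)) = 0 := by
      rw [← Nat.cast_mul, ZMod.natCast_eq_zero_iff]
      refine ⟨2 ^ (m - 2), ?_⟩
      rw [show m - 1 = (m - 2) + 1 by omega, pow_succ]
      ring
    push_cast at this ⊢
    linear_combination this

theorem a_sq : (S.a : ZMod (2 * 2 ^ m)) * (S.a : ZMod (2 * 2 ^ m)) = 1 := by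
  rcases S.a_eq with h | ⟨hm, h⟩ <;> rw [h]
  · push_cast; ring
  · have h1 : ((2 ^ m : ℕ) : ZMod (2 * 2 ^ m)) * ((2 ^ m : ℕ) : ZMod (2 * 2 ^ m)) = 0 := by
      rw [← Nat.cast_mul, ZMod.natCast_eq_zero_iff]
      refine ⟨2 ^ (m - 1), ?_⟩
      rw [show 2 * 2 ^ m * 2 ^ (m - 1) = 2 ^ m * (2 * 2 ^ (m - 1)) by ring, S.two_mul_half]
    have h2 := cast_two_pow_eq_zero (m := m)
    push_cast at h1 h2 ⊢
    linear_combination h1 - h2

theorem a_half : (S.a : ZMod (2 * 2 ^ m)) * ((2 ^ m : ℕ) : ZMod (2 * 2 ^ m)) =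
    ((2 ^ m : ℕ) : ZMod (2 * 2 ^ m)) := by
  have h := congrArg (2 * ·) S.a_y
  have h2 := cast_two_pow_eq_zero (m := m)
  have hc : ((2 ^ m : ℕ) : ZMod (2 * 2 ^ m)) = 2 * ((2 ^ (m - 1) : ℕ) : ZMod (2 * 2 ^ m)) := by
    exact_mod_cast (congrArg (Nat.cast (R := ZMod (2 * 2 ^ m))) S.two_mul_half).symm
  rw [hc] at h2 ⊢
  linear_combination h - h2

theorem τ_y : S.τ * S.y * S.τ⁻¹ = S.y⁻¹ := by
  rw [y, τ_conj, S.a_y, eq_inv_iff_mul_eq_one, ← rot_add, neg_add_cancel, rot_zero]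

theorem z_comm {g : G} (hg : g ∈ D) : g * S.z = S.z * g := by
  obtain ⟨s, rfl | rfl⟩ := S.exists_elem hg
  · exact S.rot_comm _ _
  · have h : S.τ * S.z = S.z * S.τ := by
      rw [← mul_inv_eq_iff_eq_mul, z, τ_conj, S.a_half]
    rw [mul_assoc, h, ← mul_assoc, z, S.rot_comm, mul_assoc]

theorem orderOf_z : orderOf S.z = 2 := by
  refine orderOf_eq_prime ?_ fun h => ?_
  · rw [sq, z, ← rot_add, ← two_mul, cast_two_pow_eq_zero, rot_zero]
  · rw [z, rot_eq_one_iff, ZMod.natCast_eq_zero_iff] at h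
    have := Nat.le_of_dvd (Nat.two_pow_pos m) h
    have := Nat.two_pow_pos m
    omega

theorem z_mem : S.z ∈ D := S.rot_mem _

theorem y_mem : S.y ∈ D := S.rot_mem _

theorem a_add_one : (1 : ZMod (2 * 2 ^ m)) + S.a = 0 ∨
    (1 : ZMod (2 * 2 ^ m)) + S.a = ((2 ^ m : ℕ) : ZMod (2 * 2 ^ m)) := by
  rcases S.a_eq with h | ⟨-, h⟩ <;> rw [h]
  · left; push_cast; ring
  · right; push_cast; ring

/-- The elements outside the cyclic subgroup have square `1` or `z`. -/
theorem sq_outside (s : ZMod (2 * 2 ^ m)) :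
    (S.rot s * S.τ) * (S.rot s * S.τ) = 1 ∨ (S.rot s * S.τ) * (S.rot s * S.τ) = S.z := by
  have h : (S.rot s * S.τ) * (S.rot s * S.τ) =
      S.rot ((1 + (S.a : ZMod (2 * 2 ^ m))) * s) * (S.τ * S.τ) := by
    rw [add_mul, one_mul, rot_add, ← τ_conj]
    group
  rw [h]
  have hs : S.rot ((1 + (S.a : ZMod (2 * 2 ^ m))) * s) = 1 ∨
      S.rot ((1 + (S.a : ZMod (2 * 2 ^ m))) * s) = S.z := by
    rcases S.a_add_one with e | e <;> rw [e]
    · left; rw [zero_mul, rot_zero]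
    · rcases two_torsion (s := ((2 ^ m : ℕ) : ZMod (2 * 2 ^ m)) * s) (by
        rw [← two_mul, ← mul_assoc, cast_two_pow_eq_zero, zero_mul]) with e' | e' <;> rw [e']
      · exact Or.inl S.rot_zero
      · exact Or.inr rfl
  have hzz : S.z * S.z = 1 := by rw [← sq, ← S.orderOf_z, pow_orderOf_eq_one]
  have hτ : S.τ * S.τ = 1 ∨ S.τ * S.τ = S.z := by
    rw [z, rot_natCast]; exact S.τ_sq
  rcases hs with e | e <;> rcases hτ with e' | e' <;> rw [e, e'] <;> simp [hzz]

theorem pow_four_outside (s : ZMod (2 * 2 ^ m)) : (S.rot s * S.τ) ^ 4 = 1 := by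
  rw [show (4 : ℕ) = 2 * 2 from rfl, pow_mul, pow_two, pow_two]
  rcases S.sq_outside s with e | e <;> rw [e]
  · rw [one_mul]
  · rw [← sq, ← S.orderOf_z, pow_orderOf_eq_one]

/-! ### The normaliser of `⟨y⟩` -/

/-- The subgroup holding the fusion of the rotations of order above two. -/
def H : Subgroup G := Subgroup.normalizer (Subgroup.zpowers S.y : Set G)

theorem mem_H [Finite G] {t : G} (h : t * S.y * t⁻¹ ∈ Subgroup.zpowers S.y) : t ∈ S.H := by
  have hle : (Subgroup.zpowers S.y).map (MulAut.conj t).toMonoidHom ≤ Subgroup.zpowers S.y := by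
    rw [MonoidHom.map_zpowers]
    exact Subgroup.zpowers_le.2 h
  have heq := Subgroup.eq_of_le_of_card_ge hle
    (Subgroup.card_map_of_injective (MulAut.conj t).injective).ge
  refine Subgroup.mem_normalizer_iff.2 fun g => ?_
  conv_rhs => rw [← heq]
  rw [Subgroup.mem_map_equiv]
  simp [mul_assoc]

theorem centralizer_y_le [Finite G] : Subgroup.centralizer ({S.y} : Set G) ≤ S.H := fun t ht =>
  S.mem_H (by
    rw [Subgroup.mem_centralizer_singleton_iff.1 ht, mul_inv_cancel_right]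
    exact Subgroup.mem_zpowers _)

theorem D_le [Finite G] : D ≤ S.H := fun g hg => by
  obtain ⟨s, rfl | rfl⟩ := S.exists_elem hg
  · exact S.centralizer_y_le (Subgroup.mem_centralizer_singleton_iff.2 (S.rot_comm _ _))
  · refine S.mem_H ?_
    rw [show S.rot s * S.τ * S.y * (S.rot s * S.τ)⁻¹ =
      S.rot s * (S.τ * S.y * S.τ⁻¹) * (S.rot s)⁻¹ by group, S.τ_y,
      ((Commute.inv_right (show Commute (S.rot s) S.y from S.rot_comm _ _))).eq,
      mul_inv_cancel_right]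
    exact Subgroup.inv_mem _ (Subgroup.mem_zpowers _)

theorem cz_D_le [Finite G] : BrauerPairs.cz D ≤ S.H := fun t ht =>
  S.centralizer_y_le (Subgroup.mem_centralizer_singleton_iff.2
    (BrauerPairs.mem_cz.1 ht _ S.y_mem).symm)

/-- A rotation of order above two has `y` among its powers. -/
theorem y_mem_zpowers {s : ZMod (2 * 2 ^ m)} (hs : 2 * s ≠ 0) :
    S.y ∈ Subgroup.zpowers (S.rot s) := by
  haveI : NeZero (2 * 2 ^ m) := ⟨by positivity⟩
  have hdvd : orderOf (S.rot s) ∣ 2 ^ (m + 1) := by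
    refine orderOf_dvd_of_pow_eq_one ?_
    rw [rot_pow, pow_succ', ZMod.natCast_self, zero_mul, rot_zero]
  obtain ⟨i, -, hi⟩ := (Nat.dvd_prime_pow Nat.prime_two).1 hdvd
  have hi2 : 2 ≤ i := by
    by_contra hlt
    refine hs ?_
    rw [← S.rot_eq_one_iff, ← rot_pow_two]
    exact orderOf_dvd_iff_pow_eq_one.1 (hi ▸ (pow_dvd_pow 2 (by omega : i ≤ 1)))
  have h4 : orderOf (S.rot s ^ (2 ^ (i - 2))) = 4 := by
    rw [orderOf_pow' _ (pow_ne_zero _ two_ne_zero), hi,
      Nat.gcd_eq_right (pow_dvd_pow 2 (by omega : i - 2 ≤ i)),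
      Nat.pow_div (by omega) two_pos, show i - (i - 2) = 2 by omega]
    norm_num
  obtain ⟨w, hw⟩ : ∃ w, S.rot s ^ (2 ^ (i - 2)) = S.rot w := ⟨_, S.rot_pow _ _⟩
  rw [hw] at h4
  have hy4 : orderOf S.y ∣ 4 := orderOf_dvd_of_pow_eq_one (by
    rw [y, rot_pow_four, S.four_y, rot_zero])
  have hw4 : S.rot w ∈ Subgroup.zpowers S.y := S.four_torsion (by
    rw [← S.rot_eq_one_iff, ← rot_pow_four, ← h4, pow_orderOf_eq_one])
  have heq : Subgroup.zpowers (S.rot w) = Subgroup.zpowers S.y := by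
    haveI : Finite (Subgroup.zpowers S.y) := by
      apply Nat.finite_of_card_ne_zero
      rw [Nat.card_zpowers]
      intro h0
      rw [h0] at hy4
      simp at hy4
    refine Subgroup.eq_of_le_of_card_ge (Subgroup.zpowers_le.2 hw4) ?_
    rw [Nat.card_zpowers, Nat.card_zpowers, h4]
    exact Nat.le_of_dvd (by norm_num) hy4
  have : S.y ∈ Subgroup.zpowers (S.rot w) := heq ▸ Subgroup.mem_zpowers _
  rw [← hw] at this
  exact Subgroup.zpowers_le.2 (Subgroup.pow_mem _ (Subgroup.mem_zpowers _) _) this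

theorem centralizer_rot_le [Finite G] {s : ZMod (2 * 2 ^ m)} (hs : 2 * s ≠ 0) :
    Subgroup.centralizer ({S.rot s} : Set G) ≤ S.H := fun t ht => by
  refine S.centralizer_y_le (Subgroup.mem_centralizer_singleton_iff.2 ?_)
  obtain ⟨i, hi⟩ := Subgroup.mem_zpowers_iff.1 (S.y_mem_zpowers hs)
  rw [← hi]
  exact (Commute.zpow_right (Subgroup.mem_centralizer_singleton_iff.1 ht) i).eq

theorem conj_mem_H [Finite G] {s r : ZMod (2 * 2 ^ m)} (hs : 2 * s ≠ 0) {t : G}
    (h : t * S.rot s * t⁻¹ = S.rot r) : t ∈ S.H := by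
  refine S.mem_H ?_
  obtain ⟨i, hi⟩ := Subgroup.mem_zpowers_iff.1 (S.y_mem_zpowers hs)
  obtain ⟨w, hw⟩ := S.exists_rot (g := t * S.y * t⁻¹) (by
    rw [← hi, ← conj_zpow, h]
    exact Subgroup.zpow_mem _ (S.rot_mem_zpowers r) _)
  rw [hw]
  refine S.four_torsion ?_
  rw [← S.rot_eq_one_iff, ← rot_pow_four, ← hw, conj_pow]
  rw [y, rot_pow_four, S.four_y, rot_zero, mul_one, mul_inv_cancel]

/-- An element of `H` of odd order centralises `y`. -/
theorem odd_comm_y [Finite G] {x : G} (hx : x ∈ S.H) (hodd : Odd (orderOf x)) :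
    x * S.y * x⁻¹ = S.y := by
  have h1 : x * S.y * x⁻¹ ∈ Subgroup.zpowers S.y :=
    (Subgroup.mem_normalizer_iff.1 hx S.y).1 (Subgroup.mem_zpowers _)
  obtain ⟨w, hw⟩ := S.exists_rot (Subgroup.zpowers_le.2 (S.rot_mem_zpowers _) h1)
  have hy2 : S.y * S.y ≠ 1 := by rw [← z_eq_y_sq]; intro h; have := S.orderOf_z; rw [h, orderOf_one] at this; omega
  obtain ⟨i, hi⟩ := Subgroup.mem_zpowers_iff.1 h1
  have hy4 : S.y ^ (4 : ℤ) = 1 := by
    rw [show (4 : ℤ) = ((4 : ℕ) : ℤ) from rfl, zpow_natCast, y, rot_pow_four, S.four_y,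
      rot_zero]
  have key : ∀ r : ℤ, S.y ^ i = S.y ^ r → x * S.y * x⁻¹ = S.y ^ r := fun r h => by rw [← hi, h]
  have hred : ∀ r k : ℤ, i = r + 4 * k → S.y ^ i = S.y ^ r := fun r k h => by
    rw [h, zpow_add, zpow_mul, hy4, one_zpow, mul_one]
  rcases (show i % 4 = 0 ∨ i % 4 = 1 ∨ i % 4 = 2 ∨ i % 4 = 3 by omega) with e | e | e | e
  · have h2 := key 0 (hred 0 (i / 4) (by omega))
    rw [zpow_zero] at h2
    exact absurd (conj_eq_one_iff.1 h2) fun h => hy2 (by rw [h, one_mul])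
  · rw [key 1 (hred 1 (i / 4) (by omega)), zpow_one]
  · have h2 := key 2 (hred 2 (i / 4) (by omega))
    refine absurd ?_ hy2
    have h3 : x * (S.y * S.y) * x⁻¹ = 1 := by
      rw [show x * (S.y * S.y) * x⁻¹ = (x * S.y * x⁻¹) * (x * S.y * x⁻¹) by group, h2, ← zpow_add]
      exact hy4
    exact conj_eq_one_iff.1 h3
  · have h2 := key (-1) (hred (-1) (i / 4 + 1) (by omega))
    rw [zpow_neg_one] at h2
    have hiter : ∀ k : ℕ, x ^ (2 * k + 1) * S.y * (x ^ (2 * k + 1))⁻¹ = S.y⁻¹ := by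
      intro k
      induction k with
      | zero => simpa using h2
      | succ k ih =>
        rw [show x ^ (2 * (k + 1) + 1) * S.y * (x ^ (2 * (k + 1) + 1))⁻¹ =
          x * (x * (x ^ (2 * k + 1) * S.y * (x ^ (2 * k + 1))⁻¹) * x⁻¹) * x⁻¹ by
          rw [show 2 * (k + 1) + 1 = (2 * k + 1) + 1 + 1 by ring, pow_succ', pow_succ']; group, ih,
          show x * S.y⁻¹ * x⁻¹ = (x * S.y * x⁻¹)⁻¹ by group, h2, inv_inv, h2]
    obtain ⟨k, hk⟩ := hodd
    have h3 := hiter k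
    rw [← hk, pow_orderOf_eq_one, one_mul, inv_one, mul_one] at h3
    exact absurd (by nth_rewrite 2 [h3]; exact mul_inv_cancel _) hy2

/-- Elements of odd order of `H` normalising a subgroup of `D` centralise it. -/
theorem comm_of_normalizer [Finite G] {Q : Subgroup G} (hQ : Q ≤ D) {x : G} (hx : x ∈ S.H)
    (hodd : Odd (orderOf x)) (hxQ : x ∈ Subgroup.normalizer (Q : Set G)) :
    ∀ g ∈ Q, x * g = g * x := by
  have hmem : ∀ g ∈ Q, x * g * x⁻¹ ∈ Q := fun g hg =>
    (Subgroup.mem_normalizer_iff.1 hxQ g).1 hg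
  have hy : Commute x S.y := mul_inv_eq_iff_eq_mul.1 (S.odd_comm_y hx hodd)
  have hsmall : ∀ g ∈ Subgroup.zpowers S.y, x * g = g * x := fun g hg => by
    obtain ⟨i, rfl⟩ := Subgroup.mem_zpowers_iff.1 hg
    exact hy.zpow_right i
  -- a shift by a fixed element of two-power order is trivial
  have shift : ∀ g c : G, x * c = c * x → c ^ (2 * 2 ^ m) = 1 → x * g * x⁻¹ = g * c → c = 1 := by
    intro g c hc hc2 h
    have hk : ∀ k : ℕ, x ^ k * g * (x ^ k)⁻¹ = g * c ^ k := by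
      intro k
      induction k with
      | zero => simp
      | succ k ih =>
        rw [show x ^ (k + 1) * g * (x ^ (k + 1))⁻¹ = x * (x ^ k * g * (x ^ k)⁻¹) * x⁻¹ by
          rw [pow_succ']; group, ih,
          show x * (g * c ^ k) * x⁻¹ = x * g * x⁻¹ * (x * c ^ k * x⁻¹) by group, h,
          (Commute.pow_right (show Commute x c from hc) k).eq, mul_inv_cancel_right, pow_succ',
          mul_assoc]
    have h1 := hk (orderOf x)
    rw [pow_orderOf_eq_one, one_mul, inv_one, mul_one, left_eq_mul] at h1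
    exact orderOf_eq_one_iff.1 (Nat.eq_one_of_dvd_coprimes
      ((Nat.coprime_two_right.2 hodd).pow_right (m + 1)) (orderOf_dvd_of_pow_eq_one h1)
      (orderOf_dvd_of_pow_eq_one (by rw [pow_succ']; exact hc2)))
  have hpow : ∀ w, S.rot w ^ (2 * 2 ^ m) = 1 := fun w => by
    rw [rot_pow, ZMod.natCast_self, zero_mul, rot_zero]
  -- the rotations
  have hrot : ∀ k : ℕ, ∀ s, orderOf (S.rot s) = k → S.rot s ∈ Q →
      x * S.rot s = S.rot s * x := by
    intro k
    induction k using Nat.strong_induction_on with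
    | _ k ih =>
      intro s hk hs
      by_cases h4 : 4 * s = 0
      · exact hsmall _ (S.four_torsion h4)
      have hlt : orderOf (S.rot (s + s)) < k := by
        rw [← hk, rot_add, ← sq]
        have hd : orderOf (S.rot s) ∣ 2 ^ (m + 1) :=
          orderOf_dvd_of_pow_eq_one (by rw [pow_succ']; exact hpow s)
        obtain ⟨i, -, hi⟩ := (Nat.dvd_prime_pow Nat.prime_two).1 hd
        rcases i with _ | i
        · exfalso
          refine h4 ?_
          rw [pow_zero, orderOf_eq_one_iff, S.rot_eq_one_iff] at hi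
          rw [hi, mul_zero]
        rw [orderOf_pow' _ two_ne_zero, hi, Nat.gcd_eq_right (dvd_pow_self 2 i.succ_ne_zero)]
        exact Nat.div_lt_self (Nat.two_pow_pos _) one_lt_two
      have hfix := ih _ hlt (s + s) rfl (by rw [rot_add]; exact Q.mul_mem hs hs)
      obtain ⟨r, hr | hr⟩ := S.exists_elem (hQ (hmem _ hs))
      · have hrr : r + r = s + s := S.rot_inj (by
          rw [rot_add, ← hr, show x * S.rot s * x⁻¹ * (x * S.rot s * x⁻¹) =
            x * (S.rot s * S.rot s) * x⁻¹ by group, ← rot_add, hfix, mul_inv_cancel_right])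
        have hc : (r - s) + (r - s) = 0 := by linear_combination hrr
        have hc4 : 4 * (r - s) = 0 := by linear_combination 2 * hc
        have h1 := shift (S.rot s) (S.rot (r - s)) (hsmall _ (S.four_torsion hc4)) (hpow _)
          (by rw [hr, ← rot_add, add_sub_cancel])
        rw [S.rot_eq_one_iff, sub_eq_zero] at h1
        subst h1
        exact mul_inv_eq_iff_eq_mul.1 hr
      · exfalso
        refine h4 ?_
        rw [← S.rot_eq_one_iff, ← rot_pow_four]
        have h1 := S.pow_four_outside r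
        rw [← hr, conj_pow] at h1
        exact conj_eq_one_iff.1 h1
  intro g hg
  obtain ⟨s, rfl | rfl⟩ := S.exists_elem (hQ hg)
  · exact hrot _ s rfl hg
  obtain ⟨r, hr | hr⟩ := S.exists_elem (hQ (hmem _ hg))
  · exfalso
    have h1 := hrot _ r rfl (hr ▸ hmem _ hg)
    refine S.rot_ne_τ r s ?_
    rw [show S.rot s * S.τ = x⁻¹ * (x * (S.rot s * S.τ) * x⁻¹) * x by group, hr, mul_assoc, ← h1,
      inv_mul_cancel_left]
  have hc : ∃ w, (S.rot s * S.τ)⁻¹ * (S.rot r * S.τ) = S.rot w := by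
    refine ⟨(S.a : ZMod (2 * 2 ^ m)) * (r - s), ?_⟩
    rw [← τ_conj, show r - s = -s + r by ring, rot_add,
      show S.rot (-s) = (S.rot s)⁻¹ from (inv_eq_of_mul_eq_one_right (by
        rw [← rot_add, add_neg_cancel, rot_zero])).symm]
    have hc2 : S.τ⁻¹ * ((S.rot s)⁻¹ * S.rot r) * S.τ = S.τ * ((S.rot s)⁻¹ * S.rot r) * S.τ⁻¹ := by
      obtain ⟨w, hw⟩ := S.exists_rot (g := (S.rot s)⁻¹ * S.rot r) (Subgroup.mul_mem _
        (Subgroup.inv_mem _ (S.rot_mem_zpowers s)) (S.rot_mem_zpowers r))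
      have hτ2 : Commute (S.τ * S.τ) (S.rot w) := by
        rcases S.τ_sq with e | e <;> rw [e]
        · exact Commute.one_left _
        · rw [← rot_natCast]; exact S.rot_comm _ _
      rw [hw]
      calc S.τ⁻¹ * S.rot w * S.τ = S.τ⁻¹ * (S.rot w * (S.τ * S.τ)) * S.τ⁻¹ := by group
        _ = S.τ⁻¹ * (S.τ * S.τ * S.rot w) * S.τ⁻¹ := by rw [hτ2.eq]
        _ = S.τ * S.rot w * S.τ⁻¹ := by group
    rw [← hc2]
    group
  obtain ⟨w, hw⟩ := hc
  have hwQ : S.rot w ∈ Q := hw ▸ Q.mul_mem (Q.inv_mem hg) (hr ▸ hmem _ hg)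
  have h1 := shift (S.rot s * S.τ) (S.rot w) (hrot _ w rfl hwQ) (hpow w)
    (by rw [hr, ← hw, mul_inv_cancel_left])
  rw [← hw, inv_mul_eq_one] at h1
  exact mul_inv_eq_iff_eq_mul.1 (hr.trans h1.symm)

/-! ### The characters induced from the cyclic subgroup -/

/-- The linear character of the cyclic subgroup plus its conjugate by `τ`, on `G`. -/
noncomputable def pair (j : ZMod (2 * 2 ^ m)) (g : G) : ℂ :=
  if h : ∃ s, g = S.rot s then
    ZMod.stdAddChar (j * h.choose) + ZMod.stdAddChar ((S.a : ZMod (2 * 2 ^ m)) * j * h.choose)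
  else 0

theorem pair_rot (j s : ZMod (2 * 2 ^ m)) :
    S.pair j (S.rot s) =
      ZMod.stdAddChar (j * s) + ZMod.stdAddChar ((S.a : ZMod (2 * 2 ^ m)) * j * s) := by
  have h : ∃ r, S.rot s = S.rot r := ⟨s, rfl⟩
  rw [pair, dif_pos h, ← S.rot_inj h.choose_spec]

theorem pair_outside (j s : ZMod (2 * 2 ^ m)) : S.pair j (S.rot s * S.τ) = 0 := by
  rw [pair, dif_neg]
  rintro ⟨r, hr⟩
  exact S.rot_ne_τ r s hr.symm

theorem pair_one (j : ZMod (2 * 2 ^ m)) : S.pair j 1 = 2 := by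
  rw [← S.rot_zero, pair_rot, mul_zero, mul_zero, AddChar.map_zero_eq_one]
  norm_num

/-- On a group mapping injectively onto `D` the pairs are characters. -/
theorem isCharacter_pair {P : Type u} [Group P] [Fintype P] (f : P →* G)
    (hf : Function.Injective f) (hr : f.range = D) (j : ZMod (2 * 2 ^ m)) :
    IsCharacter P (fun p => S.pair j (f p)) := by
  haveI : NeZero (2 * 2 ^ m) := ⟨by positivity⟩
  have hpre : ∀ g ∈ D, ∃ p, f p = g := fun g hg => by rw [← hr] at hg; exact hg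
  set C : Subgroup P := (Subgroup.zpowers S.σ).comap f with hC
  haveI : C.Normal := ⟨fun c hc p => by
    obtain ⟨s, hs⟩ := S.exists_rot (Subgroup.mem_comap.1 hc)
    rw [hC, Subgroup.mem_comap, map_mul, map_mul, map_inv, hs]
    obtain ⟨r, e | e⟩ := S.exists_elem (g := f p) (hr ▸ ⟨p, rfl⟩) <;> rw [e]
    · rw [S.rot_comm, mul_inv_cancel_right]
      exact S.rot_mem_zpowers s
    · rw [show S.rot r * S.τ * S.rot s * (S.rot r * S.τ)⁻¹ =
        S.rot r * (S.τ * S.rot s * S.τ⁻¹) * (S.rot r)⁻¹ by group, τ_conj, S.rot_comm,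
        mul_inv_cancel_right]
      exact S.rot_mem_zpowers _⟩
  have hlog : ∀ c : C, ∃ s, f c = S.rot s := fun c => S.exists_rot c.2
  choose lg hlg using hlog
  let lam : C →* ℂ :=
    { toFun := fun c => ZMod.stdAddChar (j * lg c)
      map_one' := by
        rw [show lg 1 = 0 from S.rot_inj (by rw [← hlg, rot_zero, OneMemClass.coe_one, map_one]),
          mul_zero, AddChar.map_zero_eq_one]
      map_mul' := fun c d => by
        rw [← AddChar.map_add_eq_mul, ← mul_add, show lg (c * d) = lg c + lg d from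
          S.rot_inj (by rw [rot_add, ← hlg, ← hlg, ← hlg, Subgroup.coe_mul, map_mul])] }
  have hchar := CfsgLib.Induction.isCharacter_indFun C
    (CfsgLib.Induction.isCharacter_monoidHom lam)
  convert hchar using 1
  funext p
  obtain ⟨s, hs | hs⟩ := S.exists_elem (g := f p) (hr ▸ ⟨p, rfl⟩)
  · have hp : p ∈ C := by rw [hC, Subgroup.mem_comap, hs]; exact S.rot_mem_zpowers s
    rw [hs, pair_rot, CfsgLib.Induction.indFun_normal_apply C (lam : C → ℂ) ⟨p, hp⟩]
    obtain ⟨t, ht⟩ := hpre _ S.τ_mem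
    have htC : t ∉ C := fun h => S.notMem (by rwa [hC, Subgroup.mem_comap, ht] at h)
    have hval : ∀ x : P, lam ⟨x * p * x⁻¹, ‹C.Normal›.conj_mem p hp x⟩ =
        if x ∈ C then ZMod.stdAddChar (j * s)
        else ZMod.stdAddChar ((S.a : ZMod (2 * 2 ^ m)) * j * s) := by
      intro x
      show ZMod.stdAddChar (j * lg _) = _
      split_ifs with hx
      · congr 2
        refine S.rot_inj ?_
        rw [← hlg]
        obtain ⟨r, hr'⟩ := S.exists_rot (Subgroup.mem_comap.1 hx)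
        simp only [map_mul, map_inv, hr', hs]
        rw [S.rot_comm, mul_inv_cancel_right]
      · rw [show (S.a : ZMod (2 * 2 ^ m)) * j * s = j * ((S.a : ZMod (2 * 2 ^ m)) * s) by ring]
        congr 2
        refine S.rot_inj ?_
        rw [← hlg]
        obtain ⟨r, e | e⟩ := S.exists_elem (g := f x) (hr ▸ ⟨x, rfl⟩)
        · exact absurd (by rw [hC, Subgroup.mem_comap, e]; exact S.rot_mem_zpowers r) hx
        · simp only [map_mul, map_inv, e, hs]
          rw [show S.rot r * S.τ * S.rot s * (S.rot r * S.τ)⁻¹ =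
            S.rot r * (S.τ * S.rot s * S.τ⁻¹) * (S.rot r)⁻¹ by group, τ_conj, S.rot_comm,
            mul_inv_cancel_right]
    simp only [hval]
    rw [← Finset.sum_filter_add_sum_filter_not Finset.univ (· ∈ C),
      Finset.sum_congr rfl (g := fun _ => ZMod.stdAddChar (j * s))
        (fun x hx => if_pos (Finset.mem_filter.1 hx).2),
      Finset.sum_congr rfl (g := fun _ => ZMod.stdAddChar ((S.a : ZMod (2 * 2 ^ m)) * j * s))
        (s₁ := Finset.univ.filter fun x => ¬ x ∈ C)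
        (fun x hx => if_neg (Finset.mem_filter.1 hx).2),
      Finset.sum_const, Finset.sum_const, nsmul_eq_mul, nsmul_eq_mul]
    have hPD : Nat.card P = 4 * 2 ^ m := by
      rw [← S.card, ← hr]
      exact Nat.card_congr (MonoidHom.ofInjective hf).toEquiv
    have hCc : Nat.card C = 2 * 2 ^ m := by
      rw [← S.ord, ← Nat.card_zpowers, ← Subgroup.card_map_of_injective hf (K := C)]
      refine congrArg (fun K : Subgroup G => Nat.card K) ?_
      rw [hC, Subgroup.map_comap_eq, hr, inf_eq_right]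
      exact Subgroup.zpowers_le.2 S.σ_mem
    have h1 : (Finset.univ.filter fun x : P => x ∈ C).card = 2 * 2 ^ m := by
      rw [← Fintype.card_subtype, ← Nat.card_eq_fintype_card, ← hCc]
    have h2 : (Finset.univ.filter fun x : P => ¬ x ∈ C).card = 2 * 2 ^ m := by
      have := Finset.card_filter_add_card_filter_not (s := (Finset.univ : Finset P)) (· ∈ C)
      rw [h1, Finset.card_univ, ← Nat.card_eq_fintype_card, hPD] at this
      omega
    rw [h1, h2, hCc, ← mul_add, ← mul_assoc, inv_mul_cancel₀ (Nat.cast_ne_zero.2 (by positivity)), one_mul]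
  · rw [hs, pair_outside]
    refine (CfsgLib.Induction.indFun_normal_eq_zero C fun h => ?_).symm
    obtain ⟨r, hr'⟩ := S.exists_rot (Subgroup.mem_comap.1 h)
    exact S.rot_ne_τ r s (hr'.symm.trans hs)

end QD

end CfsgLib.QuatDefect
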