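import Cfsg.Agent.Lib.Blocks12.DihedralLattice

/-!
# Integral vectors behind a block whose defect group has a cyclic subgroup of index two

`U` stands for `(1 + η) - (η₃ + η₄)`, `P e` for `θ_e - (1 + η)` (`e` even) and `w a - w b` for
`θ_a - θ_b` (`a`, `b` odd).
-/

set_option autoImplicit false
set_option linter.unusedSectionVars false
set_option linter.unusedSimpArgs false

namespace CfsgLib.QuatDefect

variable {ι : Type*} [Fintype ι]

/-- A vector of norm four orthogonal to a positive vector has four entries, all of absolute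
value one. -/
theorem four_support {U x : ι → ℤ} (hx : ∀ i, 0 < x i) (h4 : ∑ i, U i * U i = 4)
    (h0 : ∑ i, x i * U i = 0) :
    (∀ i, U i ≠ 0 → U i = 1 ∨ U i = -1) ∧ (Finset.univ.filter fun i => U i ≠ 0).card = 4 := by
  classical
  have hle : ∀ i, U i * U i ≤ 4 := fun i =>
    h4 ▸ Finset.single_le_sum (f := fun j => U j * U j) (fun j _ => mul_self_nonneg _)
      (Finset.mem_univ i)
  have h1 : ∀ i, U i ≠ 0 → U i = 1 ∨ U i = -1 := by
    intro i hi
    have h := hle i
    have hlo : -2 ≤ U i := by nlinarith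
    have hhi : U i ≤ 2 := by nlinarith
    by_contra hne
    have h2 : U i = 2 ∨ U i = -2 := by omega
    have hz : ∀ j, j ≠ i → U j = 0 := by
      intro j hj
      have hs : ∑ k ∈ ({i, j} : Finset ι), U k * U k ≤ 4 := h4 ▸
        Finset.sum_le_sum_of_subset_of_nonneg (Finset.subset_univ _)
          fun k _ _ => mul_self_nonneg _
      rw [Finset.sum_pair (Ne.symm hj)] at hs
      rcases h2 with e | e <;> rw [e] at hs <;> nlinarith
    rw [Finset.sum_eq_single i (fun j _ hj => by rw [hz j hj, mul_zero])
      (fun hh => absurd (Finset.mem_univ i) hh)] at h0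
    have := hx i
    rcases h2 with e | e <;> rw [e] at h0 <;> omega
  refine ⟨h1, ?_⟩
  have hsum : ∑ i, U i * U i = ((Finset.univ.filter fun i => U i ≠ 0).card : ℤ) := by
    rw [Finset.card_filter, Nat.cast_sum]
    refine Finset.sum_congr rfl fun i _ => ?_
    by_cases hi : U i = 0
    · simp [hi]
    · rcases h1 i hi with e | e <;> simp [e]
  omega

/-- The vectors. -/
structure Vecs (ι : Type*) [Fintype ι] (h : ℕ) where
  /-- the vector of norm four -/
  U : ι → ℤ
  /-- the even vectors of norm three -/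
  P : Fin (h - 1) → ι → ℤ
  /-- the odd coefficients -/
  w : Fin h → ι → ℤ
  /-- the degrees -/
  x : ι → ℤ
  pos : ∀ i, 0 < x i
  hh : h = 2 ∨ 4 ≤ h
  UU : ∑ i, U i * U i = 4
  UP : ∀ e, ∑ i, U i * P e i = -2
  PP : ∀ e f, ∑ i, P e i * P f i = 2 + (if e = f then 1 else 0)
  UW : ∀ a b, ∑ i, U i * (w a i - w b i) = 0
  PW : ∀ e a b, ∑ i, P e i * (w a i - w b i) = 0
  WW : ∀ a b c d, ∑ i, (w a i - w b i) * (w c i - w d i) =
    (if a = c then 1 else 0) - (if a = d then 1 else 0) - (if b = c then 1 else 0) +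
      (if b = d then 1 else 0)
  xU : ∑ i, x i * U i = 0
  xP : ∀ e, ∑ i, x i * P e i = 0
  xW : ∀ a b, ∑ i, x i * (w a i - w b i) = 0

namespace Vecs

variable {h : ℕ} (v : Vecs ι h)

/-- Outside the support of all the vectors. -/
def IsX (i : ι) : Prop := v.U i = 0 ∧ (∀ e, v.P e i = 0) ∧ ∀ a b, v.w a i = v.w b i

/-- The member of an even class. -/
def IsE (i : ι) (e : Fin (h - 1)) : Prop :=
  v.U i = 0 ∧ (v.P e i = 1 ∨ v.P e i = -1) ∧ (∀ f, f ≠ e → v.P f i = 0) ∧
    ∀ a b, v.w a i = v.w b i

/-- The member of an odd class. -/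
def IsO (i : ι) (a : Fin h) : Prop :=
  v.U i = 0 ∧ (∀ e, v.P e i = 0) ∧
    ∃ s : ℤ, (s = 1 ∨ s = -1) ∧ ∀ b, b ≠ a → v.w b i = v.w a i - s

theorem U_pm {i : ι} (hi : v.U i ≠ 0) : v.U i = 1 ∨ v.U i = -1 :=
  (four_support v.pos v.UU v.xU).1 i hi

theorem card_supp : (Finset.univ.filter fun i => v.U i ≠ 0).card = 4 :=
  (four_support v.pos v.UU v.xU).2

/-- The support of a difference of two odd coefficients. -/
theorem exists_pair {a b : Fin h} (hab : a ≠ b) : ∃ i j, i ≠ j ∧
    (v.w a i - v.w b i = 1 ∨ v.w a i - v.w b i = -1) ∧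
    (v.w a j - v.w b j = 1 ∨ v.w a j - v.w b j = -1) ∧
    ∀ k, k ≠ i → k ≠ j → v.w a k = v.w b k := by
  classical
  have h2 : ∑ i, (v.w a i - v.w b i) ^ 2 = 2 := by
    simp only [pow_two, v.WW, if_pos, if_neg hab, if_neg hab.symm]; norm_num
  obtain ⟨hc, hpm⟩ := DihedralLattice.support_of_sq (r := 2) (by exact_mod_cast h2) (by norm_num)
  obtain ⟨i, j, hij, hs⟩ := Finset.card_eq_two.mp hc
  have hmem : ∀ k, v.w a k - v.w b k ≠ 0 ↔ k = i ∨ k = j := fun k => by
    have := congrArg (k ∈ ·) hs
    simpa using this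
  exact ⟨i, j, hij, hpm i ((hmem i).2 (Or.inl rfl)), hpm j ((hmem j).2 (Or.inr rfl)),
    fun k h1 h2 => by
      by_contra hne
      rcases (hmem k).1 (sub_ne_zero.2 hne) with e | e
      · exact h1 e
      · exact h2 e⟩

theorem sum_pair_eq {a b : Fin h} {i j : ι} (hij : i ≠ j)
    (hz : ∀ k, k ≠ i → k ≠ j → v.w a k = v.w b k) (y : ι → ℤ) :
    ∑ k, y k * (v.w a k - v.w b k) =
      y i * (v.w a i - v.w b i) + y j * (v.w a j - v.w b j) := by
  classical
  rw [show ∑ k, y k * (v.w a k - v.w b k) = ∑ k ∈ ({i, j} : Finset ι), y k * (v.w a k - v.w b k) from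
    (Finset.sum_subset (Finset.subset_univ _) fun k _ hk => by
      simp only [Finset.mem_insert, Finset.mem_singleton, not_or] at hk
      rw [hz k hk.1 hk.2, sub_self, mul_zero]).symm, Finset.sum_pair hij]

/-- Both entries of a difference are inside, or both are outside, the support of `U`. -/
theorem pair_side {a b : Fin h} {i j : ι} (hij : i ≠ j)
    (hj : v.w a j - v.w b j = 1 ∨ v.w a j - v.w b j = -1)
    (hz : ∀ k, k ≠ i → k ≠ j → v.w a k = v.w b k) (hi : v.U i = 0) : v.U j = 0 := by
  have h0 := v.UW a b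
  rw [v.sum_pair_eq hij hz, hi, zero_mul, zero_add] at h0
  rcases mul_eq_zero.1 h0 with e | e
  · exact e
  · omega

/-- The odd part: a member for each odd class outside the support of `U`, except possibly when
there are only two classes. -/
theorem odd_part :
    (h = 2 ∧ ∀ i a b, v.w a i ≠ v.w b i → v.U i ≠ 0) ∨
      ∃ Lo : Fin h → ι, Function.Injective Lo ∧
        (∀ a, v.U (Lo a) = 0 ∧
          ∃ s : ℤ, (s = 1 ∨ s = -1) ∧ ∀ b, b ≠ a → v.w b (Lo a) = v.w a (Lo a) - s) ∧
        ∀ i, (∀ a, i ≠ Lo a) → ∀ a b, v.w a i = v.w b i := by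
  classical
  rcases v.hh with h2 | h4
  · subst h2
    obtain ⟨i, j, hij, hi, hj, hz⟩ := v.exists_pair (a := 0) (b := 1) (by decide)
    have hconst : ∀ k, k ≠ i → k ≠ j → ∀ a b, v.w a k = v.w b k := fun k h1 h2 a b => by
      have := hz k h1 h2
      fin_cases a <;> fin_cases b <;> simp [this]
    by_cases hUi : v.U i = 0
    · have hUj := v.pair_side hij hj hz hUi
      refine Or.inr ⟨fun a => if a = 0 then i else j, ?_, fun a => ?_, fun k hk => ?_⟩
      · intro a b e
        fin_cases a <;> fin_cases b <;> simp_all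
      · fin_cases a
        · exact ⟨by simpa using hUi, v.w 0 i - v.w 1 i, hi, fun b hb => by
            fin_cases b
            · exact absurd rfl hb
            · simp⟩
        · exact ⟨by simpa using hUj, v.w 1 j - v.w 0 j, by omega, fun b hb => by
            fin_cases b
            · simp
            · exact absurd rfl hb⟩
      · exact hconst k (by simpa using hk 0) (by simpa using hk 1)
    · refine Or.inl ⟨rfl, fun k a b hne => ?_⟩
      by_cases hki : k = i
      · rwa [hki]
      by_cases hkj : k = j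
      · subst hkj
        intro hUj
        exact hUi (v.pair_side hij.symm hi (fun m h1 h2 => hz m h2 h1) hUj)
      exact absurd (hconst k hki hkj a b) hne
  · right
    set z : Fin h := ⟨0, by omega⟩ with hz0
    set d : Fin h → ι → ℤ := fun b i => v.w z i - v.w b i with hd
    have hgram : ∀ b b', b ≠ z → b' ≠ z → ∑ i, d b i * d b' i = 1 + (if b = b' then 1 else 0) := by
      intro b b' hb hb'
      simp only [hd, v.WW, if_neg hb, if_neg hb'.symm, if_pos]
      ring
    have hsq : ∀ b, b ≠ z → ∑ i, d b i ^ 2 = 2 := fun b hb => by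
      simp only [pow_two]; rw [hgram b b hb hb, if_pos rfl]; norm_num
    have hpm : ∀ b, b ≠ z → ∀ i, d b i ≠ 0 → d b i = 1 ∨ d b i = -1 := fun b hb =>
      (DihedralLattice.support_of_sq (r := 2) (by exact_mod_cast hsq b hb) (by norm_num)).2
    have hcommon : ∀ b b', b ≠ z → b' ≠ z → b ≠ b' →
        ∃ c, d b c ≠ 0 ∧ d b' c = d b c ∧ ∀ i, d b i ≠ 0 → d b' i ≠ 0 → i = c := fun b b' hb hb' hne =>
      DihedralLattice.common (hsq b hb) (hpm b' hb') (by rw [hgram b b' hb hb', if_neg hne]; norm_num)
    set b1 : Fin h := ⟨1, by omega⟩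
    set b2 : Fin h := ⟨2, by omega⟩
    have hb1 : b1 ≠ z := by simp [b1, hz0]
    have hb2 : b2 ≠ z := by simp [b2, hz0]
    obtain ⟨c, hc1, hc2, huniq⟩ := hcommon b1 b2 hb1 hb2 (by simp [b1, b2])
    -- the two entries
    have hother : ∀ b, b ≠ z → ∀ i, d b i ≠ 0 → ∃ j, j ≠ i ∧ d b j ≠ 0 ∧
        ∀ k, k ≠ i → k ≠ j → d b k = 0 := by
      intro b hb i hi
      obtain ⟨p, q, hpq, hp, hq, hzz⟩ := v.exists_pair (a := z) (b := b) (Ne.symm hb)
      have hip : i = p ∨ i = q := by
        by_contra hcon
        push Not at hcon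
        exact hi (sub_eq_zero.2 (hzz i hcon.1 hcon.2))
      rcases hip with rfl | rfl
      · exact ⟨q, hpq.symm, by simp only [hd]; omega, fun k h1 h2 => sub_eq_zero.2 (hzz k h1 h2)⟩
      · exact ⟨p, hpq, by simp only [hd]; omega, fun k h1 h2 => sub_eq_zero.2 (hzz k h2 h1)⟩
    have hlin : ∀ b, b ≠ z → ∀ i j, i ≠ j → d b i ≠ 0 → d b j ≠ 0 → ∀ y : ι → ℤ,
        ∑ k, y k * d b k = y i * d b i + y j * d b j := by
      intro b hb i j hij hi hj y
      obtain ⟨j', hj', -, hzz⟩ := hother b hb i hi
      have : j = j' := by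
        by_contra hne
        exact hj (hzz j hij.symm hne)
      subst this
      exact v.sum_pair_eq hij (fun k h1 h2 => sub_eq_zero.1 (hzz k h1 h2)) y
    -- the common entry
    have hall : ∀ b, b ≠ z → d b c = d b1 c := by
      intro b hb
      by_cases e1 : b = b1
      · rw [e1]
      by_cases e2 : b = b2
      · rw [e2, hc2]
      by_cases hbc : d b c = 0
      · exfalso
        obtain ⟨l, hl1, hl1', -⟩ := hcommon b1 b hb1 hb (Ne.symm e1)
        obtain ⟨l', hl2, hl2', -⟩ := hcommon b2 b hb2 hb (Ne.symm e2)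
        have hlc : l ≠ c := fun e => hl1 (by rw [← hl1', e]; exact hbc)
        have hl'c : l' ≠ c := fun e => hl2 (by rw [← hl2', e]; exact hbc)
        have hll : l ≠ l' := fun e => hlc (huniq l hl1 (e ▸ hl2))
        have f1 := v.xW z b1
        have f2 := v.xW z b2
        have f3 := v.xW z b
        rw [show (fun i => v.x i * (v.w z i - v.w b1 i)) = fun i => v.x i * d b1 i from rfl,
          hlin b1 hb1 c l hlc.symm hc1 hl1] at f1
        rw [show (fun i => v.x i * (v.w z i - v.w b2 i)) = fun i => v.x i * d b2 i from rfl,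
          hlin b2 hb2 c l' hl'c.symm (by rw [hc2]; exact hc1) hl2, hc2] at f2
        rw [show (fun i => v.x i * (v.w z i - v.w b i)) = fun i => v.x i * d b i from rfl,
          hlin b hb l l' hll (by rw [hl1']; exact hl1) (by rw [hl2']; exact hl2), hl1', hl2'] at f3
        have := v.pos c
        rcases hpm b1 hb1 c hc1 with e | e <;> rw [e] at f1 f2 <;> omega
      · obtain ⟨l, hl, hlv, hlu⟩ := hcommon b1 b hb1 hb (Ne.symm e1)
        rw [hlu c hc1 hbc]
        exact hlv
    have hdc : ∀ b, b ≠ z → d b c ≠ 0 := fun b hb => by rw [hall b hb]; exact hc1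
    choose L hLc hL hLz using fun (b : Fin h) (hb : b ≠ z) => hother b hb c (hdc b hb)
    have hinj : ∀ b b' hb hb', L b hb = L b' hb' → b = b' := by
      intro b b' hb hb' e
      by_contra hne
      obtain ⟨m, -, -, hu⟩ := hcommon b b' hb hb' hne
      have ec := hu c (hdc b hb) (hdc b' hb')
      have el := hu (L b hb) (hL b hb) (e ▸ hL b' hb')
      exact hLc b hb (el.trans ec.symm)
    -- the common entry lies outside the support of `U`
    have hcU : v.U c = 0 := by
      by_contra hcne
      have hLU : ∀ b hb, v.U (L b hb) ≠ 0 := fun b hb hU0 => by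
        have h0 := v.UW z b
        rw [show (fun i => v.U i * (v.w z i - v.w b i)) = fun i => v.U i * d b i from rfl,
          hlin b hb c (L b hb) (hLc b hb).symm (hdc b hb) (hL b hb), hU0, zero_mul, add_zero] at h0
        exact (mul_ne_zero hcne (hdc b hb)) h0
      set g : Fin h → ι := fun b => if hb : b = z then c else L b hb with hg
      have hgi : Function.Injective g := by
        intro a b e
        simp only [hg] at e
        by_cases ha : a = z <;> by_cases hb : b = z
        · rw [ha, hb]
        · rw [dif_pos ha, dif_neg hb] at e; exact absurd e.symm (hLc b hb)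
        · rw [dif_neg ha, dif_pos hb] at e; exact absurd e (hLc a ha)
        · rw [dif_neg ha, dif_neg hb] at e; exact hinj a b ha hb e
      have hsub : Finset.univ.image g ⊆ Finset.univ.filter fun i => v.U i ≠ 0 := by
        intro i hi
        obtain ⟨b, -, rfl⟩ := Finset.mem_image.1 hi
        simp only [Finset.mem_filter, Finset.mem_univ, true_and, hg]
        split_ifs with hb
        · exact hcne
        · exact hLU b hb
      have heq : Finset.univ.image g = Finset.univ.filter fun i => v.U i ≠ 0 :=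
        Finset.eq_of_subset_of_card_le hsub (by
          rw [v.card_supp, Finset.card_image_of_injective _ hgi, Finset.card_univ,
            Fintype.card_fin]; exact h4)
      have hcst : ∀ b, v.x (g b) * v.U (g b) = v.x c * v.U c := by
        intro b
        simp only [hg]
        split_ifs with hb
        · rfl
        have f1 := v.xW z b
        have f2 := v.UW z b
        rw [show (fun i => v.x i * (v.w z i - v.w b i)) = fun i => v.x i * d b i from rfl,
          hlin b hb c (L b hb) (hLc b hb).symm (hdc b hb) (hL b hb)] at f1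
        rw [show (fun i => v.U i * (v.w z i - v.w b i)) = fun i => v.U i * d b i from rfl,
          hlin b hb c (L b hb) (hLc b hb).symm (hdc b hb) (hL b hb)] at f2
        rcases hpm b hb c (hdc b hb) with e | e <;> rcases hpm b hb _ (hL b hb) with e' | e' <;>
          rw [e, e'] at f1 f2 <;> rcases v.U_pm hcne with u | u <;> rw [u] at f2 ⊢ <;>
          rcases v.U_pm (hLU b hb) with u' | u' <;> rw [u'] at f2 ⊢ <;>
          first
            | omega
            | (have := v.pos c; have := v.pos (L b hb); omega)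
      have h0 := v.xU
      rw [← Finset.sum_filter_of_ne (p := fun i => v.U i ≠ 0)
        (fun i _ hi => right_ne_zero_of_mul hi), ← heq,
        Finset.sum_image (fun a _ b _ e => hgi e), Finset.sum_congr rfl (fun b _ => hcst b),
        Finset.sum_const, Finset.card_univ, Fintype.card_fin, nsmul_eq_mul] at h0
      rcases mul_eq_zero.1 h0 with e | e
      · simp at e; omega
      · exact mul_ne_zero (v.pos c).ne' hcne e
    have hLU : ∀ b hb, v.U (L b hb) = 0 := fun b hb => by
      have hd' := hpm b hb _ (hL b hb)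
      simp only [hd] at hd'
      exact v.pair_side (hLc b hb).symm hd'
        (fun k h1 h2 => sub_eq_zero.1 (hLz b hb k h1 h2)) hcU
    refine ⟨fun b => if hb : b = z then c else L b hb, ?_, fun a => ?_, fun i hi a b => ?_⟩
    · intro a b e
      simp only at e
      by_cases ha : a = z <;> by_cases hb : b = z
      · rw [ha, hb]
      · rw [dif_pos ha, dif_neg hb] at e; exact absurd e.symm (hLc b hb)
      · rw [dif_neg ha, dif_pos hb] at e; exact absurd e (hLc a ha)
      · rw [dif_neg ha, dif_neg hb] at e; exact hinj a b ha hb e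
    · by_cases ha : a = z
      · subst ha
        simp only [dif_pos]
        refine ⟨hcU, d b1 c, hpm b1 hb1 c hc1, fun b hb => ?_⟩
        have := hall b hb
        simp only [hd] at this ⊢
        linarith
      · simp only [dif_neg ha]
        refine ⟨hLU a ha, - d a (L a ha), by have := hpm a ha _ (hL a ha); omega, fun b hb => ?_⟩
        have e0 : ∀ b', b' ≠ z → b' ≠ a → v.w b' (L a ha) = v.w z (L a ha) := by
          intro b' hb' hne
          by_contra h'
          have hdb : d b' (L a ha) ≠ 0 := sub_ne_zero.2 (Ne.symm h')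
          obtain ⟨m, -, -, hu⟩ := hcommon a b' ha hb' (Ne.symm hne)
          exact hLc a ha ((hu (L a ha) (hL a ha) hdb).trans (hu c (hdc a ha) (hdc b' hb')).symm)
        have hval : v.w b (L a ha) = v.w z (L a ha) := by
          by_cases hbz : b = z
          · rw [hbz]
          · exact e0 b hbz hb
        simp only [hd]
        rw [hval]; ring
    · have h1 : ∀ b, v.w b i = v.w z i := by
        intro b
        by_cases hb : b = z
        · rw [hb]
        have hic := hi z
        have hiL := hi b
        simp only [dif_pos] at hic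
        simp only [dif_neg hb] at hiL
        exact (sub_eq_zero.1 (hLz b hb i hic hiL)).symm
      rw [h1 a, h1 b]

/-- The shape of an even vector. -/
theorem exists_even (e : Fin (h - 1)) : ∃ L, v.U L = 0 ∧ (v.P e L = 1 ∨ v.P e L = -1) ∧
    (∀ i, v.U i = 0 → i ≠ L → v.P e i = 0) ∧
    (∀ i, v.U i ≠ 0 → v.P e i = 0 ∨ v.P e i = - v.U i) ∧
    ∑ i ∈ Finset.univ.filter (fun i => v.U i ≠ 0), v.P e i * v.P e i = 2 := by
  classical
  have h3 : ∑ i, v.P e i ^ 2 = 3 := by simp only [pow_two]; rw [v.PP, if_pos rfl]; norm_num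
  obtain ⟨hc, hpm⟩ := DihedralLattice.support_of_sq (r := 3) (by exact_mod_cast h3) (by norm_num)
  set S := Finset.univ.filter (fun i => v.P e i ≠ 0) with hS
  have hUP := v.UP e
  rw [← Finset.sum_filter_of_ne (p := fun i => v.P e i ≠ 0)
    (fun i _ hi => right_ne_zero_of_mul hi), ← hS] at hUP
  obtain ⟨p, q, r, hpq, hpr, hqr, hs⟩ := Finset.card_eq_three.1 hc
  rw [hs, Finset.sum_insert (by simp [hpq, hpr]), Finset.sum_pair hqr] at hUP
  have hmem : ∀ i, v.P e i ≠ 0 ↔ i = p ∨ i = q ∨ i = r := fun i => by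
    have := congrArg (i ∈ ·) hs
    simpa [hS] using this
  have hp := hpm p ((hmem p).2 (Or.inl rfl))
  have hq := hpm q ((hmem q).2 (Or.inr (Or.inl rfl)))
  have hr := hpm r ((hmem r).2 (Or.inr (Or.inr rfl)))
  -- exactly one entry outside, the others opposite to `U`
  have key : ∀ p q r : ι, p ≠ q → p ≠ r → q ≠ r → (∀ i, v.P e i ≠ 0 ↔ i = p ∨ i = q ∨ i = r) →
      v.U p = 0 → v.U q ≠ 0 → v.U r ≠ 0 → v.U q * v.P e q + v.U r * v.P e r = -2 →
      ∃ L, v.U L = 0 ∧ (v.P e L = 1 ∨ v.P e L = -1) ∧
        (∀ i, v.U i = 0 → i ≠ L → v.P e i = 0) ∧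
        (∀ i, v.U i ≠ 0 → v.P e i = 0 ∨ v.P e i = - v.U i) ∧
        ∑ i ∈ Finset.univ.filter (fun i => v.U i ≠ 0), v.P e i * v.P e i = 2 := by
    intro p q r hpq hpr hqr hm up uq ur hsum
    have hp := hpm p ((hm p).2 (Or.inl rfl))
    have hq := hpm q ((hm q).2 (Or.inr (Or.inl rfl)))
    have hr := hpm r ((hm r).2 (Or.inr (Or.inr rfl)))
    refine ⟨p, up, hp, fun i hi hip => ?_, fun i hi => ?_, ?_⟩
    · by_contra h0
      rcases (hm i).1 h0 with rfl | rfl | rfl
      · exact hip rfl
      · exact uq hi
      · exact ur hi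
    · by_cases h0 : v.P e i = 0
      · exact Or.inl h0
      refine Or.inr ?_
      have hU1 := v.U_pm hi
      have hUq := v.U_pm uq
      have hUr := v.U_pm ur
      rcases (hm i).1 h0 with rfl | rfl | rfl
      · exact absurd up hi
      all_goals
        rcases hUq with a | a <;> rcases hUr with b | b <;> rcases hq with c | c <;>
          rcases hr with d | d <;> rw [a, b, c, d] at hsum <;> omega
    · rw [show ∑ i ∈ Finset.univ.filter (fun i => v.U i ≠ 0), v.P e i * v.P e i =
          ∑ i ∈ ({q, r} : Finset ι), v.P e i * v.P e i from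
        (Finset.sum_subset (fun i hi => by
          simp only [Finset.mem_insert, Finset.mem_singleton] at hi
          rcases hi with rfl | rfl <;> simp [uq, ur]) fun i hi hi' => by
          simp only [Finset.mem_insert, Finset.mem_singleton, not_or] at hi'
          have hiU := (Finset.mem_filter.1 hi).2
          have : v.P e i = 0 := by
            by_contra h0
            rcases (hm i).1 h0 with rfl | rfl | rfl
            · exact hiU up
            · exact hi'.1 rfl
            · exact hi'.2 rfl
          rw [this, mul_zero]).symm, Finset.sum_pair hqr]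
      rcases hq with c | c <;> rcases hr with d | d <;> rw [c, d] <;> norm_num
  by_cases up : v.U p = 0
  · rw [up, zero_mul, zero_add] at hUP
    by_cases uq : v.U q = 0
    · exfalso
      rw [uq, zero_mul, zero_add] at hUP
      by_cases ur : v.U r = 0
      · rw [ur, zero_mul] at hUP; omega
      · rcases v.U_pm ur with a | a <;> rcases hr with b | b <;> rw [a, b] at hUP <;> omega
    by_cases ur : v.U r = 0
    · exfalso
      rw [ur, zero_mul, add_zero] at hUP
      rcases v.U_pm uq with a | a <;> rcases hq with b | b <;> rw [a, b] at hUP <;> omega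
    exact key p q r hpq hpr hqr hmem up uq ur hUP
  · by_cases uq : v.U q = 0
    · rw [uq, zero_mul, zero_add] at hUP
      by_cases ur : v.U r = 0
      · exfalso
        rw [ur, zero_mul, add_zero] at hUP
        rcases v.U_pm up with a | a <;> rcases hp with b | b <;> rw [a, b] at hUP <;> omega
      exact key q p r hpq.symm hqr hpr (fun i => by rw [hmem i]; tauto) uq up ur hUP
    · by_cases ur : v.U r = 0
      · rw [ur, zero_mul, add_zero] at hUP
        exact key r p q hpr.symm hqr.symm hpq (fun i => by rw [hmem i]; tauto) ur up uq hUP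
      · exfalso
        rcases v.U_pm up with a | a <;> rcases v.U_pm uq with b | b <;>
          rcases v.U_pm ur with c | c <;> rcases hp with a' | a' <;> rcases hq with b' | b' <;>
          rcases hr with c' | c' <;> rw [a, b, c, a', b', c'] at hUP <;> norm_num at hUP

/-- The members with a nonzero entry. -/
noncomputable def core : Finset ι := by
  classical
  exact Finset.univ.filter fun i => ¬ v.IsX i

/-- The structure of the vectors: one member for each class, or one of two small exceptions. -/
theorem structure_thm :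
    (∃ (Le : Fin (h - 1) → ι) (Lo : Fin h → ι),
      Function.Injective Le ∧ Function.Injective Lo ∧
      (∀ e, v.IsE (Le e) e) ∧ (∀ a, v.IsO (Lo a) a) ∧
      ∀ i, v.U i ≠ 0 ∨ (∃ e, i = Le e) ∨ (∃ a, i = Lo a) ∨ v.IsX i) ∨
    ((h = 2 ∨ h = 4) ∧ v.core.card ≤ 2 * h + 1 ∧
      (h = 2 → ∃ i a b, v.U i ≠ 0 ∧ v.w a i ≠ v.w b i) ∧
      (h = 4 → ∃ L, v.U L = 0 ∧ ∀ i, v.U i = 0 → i ≠ L → ∀ e, v.P e i = 0) ∧
      ∃ (V : ι → ℤ) (i₀ : ι), v.U i₀ ≠ 0 ∧ 0 < ∑ i, V i * V i ∧
        8 * (h : ℤ) * (∑ i, V i * V i - V i₀ ^ 2) ≤ 2 * ∑ i, V i * V i ∧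
        ∀ y : ι → ℤ, ∑ i, y i * v.U i = 0 → (∀ e, ∑ i, y i * v.P e i = 0) →
          (∀ a b, ∑ i, y i * (v.w a i - v.w b i) = 0) → ∑ i, y i * V i = 0) := by
  classical
  choose Le hLeU hLe hLeout hLein hLesq using v.exists_even
  -- the products of even vectors
  have hprod : ∀ e f, e ≠ f →
      (∑ i ∈ Finset.univ.filter (fun i => v.U i ≠ 0), v.P e i * v.P f i) +
        (if Le e = Le f then v.P e (Le e) * v.P f (Le e) else 0) = 2 := by
    intro e f hef
    have h2 := v.PP e f
    rw [if_neg hef, add_zero, ← Finset.sum_filter_add_sum_filter_not Finset.univ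
      (fun i => v.U i ≠ 0)] at h2
    refine Eq.trans (congrArg (_ + ·) ?_) h2
    symm
    split_ifs with hL
    · refine Finset.sum_eq_single (Le e) (fun i hi hne => ?_) fun hh => ?_
      · rw [hLeout e i (by simpa using (Finset.mem_filter.1 hi).2) hne, zero_mul]
      · exact absurd (Finset.mem_filter.2 ⟨Finset.mem_univ _, by simp [hLeU e]⟩) hh
    · refine Finset.sum_eq_zero fun i hi => ?_
      have hiU : v.U i = 0 := by simpa using (Finset.mem_filter.1 hi).2
      by_cases hie : i = Le e
      · rw [hLeout f i hiU (by rw [hie]; exact hL), mul_zero]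
      · rw [hLeout e i hiU hie, zero_mul]
  have hno : ∀ i, v.U i = 0 → (∀ e, i ≠ Le e) → ∀ e, v.P e i = 0 := fun i hi hne e =>
    hLeout e i hi (hne e)
  rcases v.odd_part with ⟨rfl, hW⟩ | ⟨Lo, hLoi, hLo, hLoc⟩
  · -- two odd classes inside the support of `U`
    right
    obtain ⟨i, j, hij, hi, hj, hz⟩ := v.exists_pair (a := 0) (b := 1) (by decide)
    have hUi : v.U i ≠ 0 := hW i 0 1 (by omega)
    have hUj : v.U j ≠ 0 := hW j 0 1 (by omega)
    set E : Fin 1 := 0
    refine ⟨Or.inl rfl, ?_, fun _ => ⟨i, 0, 1, hUi, by omega⟩, fun h4 => absurd h4 (by norm_num), ?_⟩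
    · have hsub : v.core ⊆ insert (Le E) (Finset.univ.filter fun i => v.U i ≠ 0) := by
        intro k hk
        simp only [core, Finset.mem_filter, Finset.mem_univ, true_and] at hk
        simp only [Finset.mem_insert, Finset.mem_filter, Finset.mem_univ, true_and]
        by_contra hcon
        push Not at hcon
        refine hk ⟨hcon.2, fun e => hLeout e k hcon.2 (by rw [show e = E from Fin.ext (by omega)]; exact hcon.1),
          fun a b => ?_⟩
        by_contra hne
        exact hW k a b hne hcon.2
      exact (Finset.card_le_card hsub).trans ((Finset.card_insert_le _ _).trans (by rw [v.card_supp]))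
    · set D : ι → ℤ := fun k => v.w 0 k - v.w 1 k with hD
      have hDD : ∑ k, D k * D k = 2 := by simp only [hD, v.WW]; simp
      have hPD : ∑ k, v.P E k * D k = 0 := v.PW E 0 1
      have hUD : ∑ k, v.U k * D k = 0 := v.UW 0 1
      have hPd : v.P E i * D i + v.P E j * D j = 0 := by
        rw [← v.sum_pair_eq (a := 0) (b := 1) hij hz (v.P E)]; exact hPD
      have hUd : v.U i * D i + v.U j * D j = 0 := by
        rw [← v.sum_pair_eq (a := 0) (b := 1) hij hz v.U]; exact hUD
      rcases hLein E i hUi with hP | hP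
      · -- the pair avoids the even vector
        refine ⟨fun k => -3 * v.U k - 2 * v.P E k + (-4 * v.U i * D i) * D k, i, hUi, ?_, ?_,
          fun y h1 h2 h3 => ?_⟩
        rotate_left 2
        · have h3' : ∑ k, y k * D k = 0 := h3 0 1
          simp only [mul_add, mul_sub, Finset.sum_add_distrib, Finset.sum_sub_distrib,
            mul_left_comm (y _), ← Finset.mul_sum, h1, h2 E, h3']
          ring
        all_goals
          have hnorm : ∑ k, (-3 * v.U k - 2 * v.P E k + (-4 * v.U i * D i) * D k) *
              (-3 * v.U k - 2 * v.P E k + (-4 * v.U i * D i) * D k) = 56 := by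
            have hc : (-4 * v.U i * D i) * (-4 * v.U i * D i) = 16 := by
              rcases v.U_pm hUi with a | a <;> rcases hi with b | b <;>
                simp only [hD, a, b] <;> norm_num
            have e1 : ∀ k, (-3 * v.U k - 2 * v.P E k + (-4 * v.U i * D i) * D k) *
              (-3 * v.U k - 2 * v.P E k + (-4 * v.U i * D i) * D k) =
              9 * (v.U k * v.U k) + 4 * (v.P E k * v.P E k) + 12 * (v.U k * v.P E k) +
                16 * (D k * D k) + (-6 * (-4 * v.U i * D i)) * (v.U k * D k) +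
                (-4 * (-4 * v.U i * D i)) * (v.P E k * D k) := fun k => by
              linear_combination (D k * D k) * hc
            simp only [e1, Finset.sum_add_distrib, ← Finset.mul_sum, v.UU, v.PP, v.UP, hDD, hUD,
              hPD]
            norm_num
          rw [hnorm]
        · norm_num
        · rcases v.U_pm hUi with a | a <;> rcases hi with b | b <;>
            simp only [hD, a, b, hP] <;> norm_num
      · -- the pair is the even one
        refine ⟨fun k => v.U k - 2 * v.P E k + (4 * v.U i * D i) * D k, i, hUi, ?_, ?_,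
          fun y h1 h2 h3 => ?_⟩
        rotate_left 2
        · have h3' : ∑ k, y k * D k = 0 := h3 0 1
          simp only [mul_add, mul_sub, Finset.sum_add_distrib, Finset.sum_sub_distrib,
            mul_left_comm (y _), ← Finset.mul_sum, h1, h2 E, h3']
          ring
        all_goals
          have hnorm : ∑ k, (v.U k - 2 * v.P E k + (4 * v.U i * D i) * D k) *
              (v.U k - 2 * v.P E k + (4 * v.U i * D i) * D k) = 56 := by
            have hc : (4 * v.U i * D i) * (4 * v.U i * D i) = 16 := by
              rcases v.U_pm hUi with a | a <;> rcases hi with b | b <;>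
                simp only [hD, a, b] <;> norm_num
            have e1 : ∀ k, (v.U k - 2 * v.P E k + (4 * v.U i * D i) * D k) *
              (v.U k - 2 * v.P E k + (4 * v.U i * D i) * D k) =
              (v.U k * v.U k) + 4 * (v.P E k * v.P E k) + (-4) * (v.U k * v.P E k) +
                16 * (D k * D k) + (2 * (4 * v.U i * D i)) * (v.U k * D k) +
                (-4 * (4 * v.U i * D i)) * (v.P E k * D k) := fun k => by
              linear_combination (D k * D k) * hc
            simp only [e1, Finset.sum_add_distrib, ← Finset.mul_sum, v.UU, v.PP, v.UP, hDD, hUD,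
              hPD]
            norm_num
          rw [hnorm]
        · norm_num
        · rcases v.U_pm hUi with a | a <;> rcases hi with b | b <;>
            simp only [hD, a, b, hP] <;> norm_num
  -- the members of the odd classes avoid the even vectors
  have hLoP : ∀ a e, v.P e (Lo a) = 0 := by
    intro a e
    by_contra hne
    have haL : Lo a = Le e := by
      by_contra h'
      exact hne (hLeout e _ (hLo a).1 h')
    haveI : Nontrivial (Fin h) := Fin.nontrivial_iff_two_le.2 (by rcases v.hh with h' | h' <;> omega)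
    obtain ⟨b, hb⟩ := exists_ne a
    have h0 := v.PW e a b
    obtain ⟨s, hs, hsb⟩ := (hLo a).2
    rw [Finset.sum_eq_single (Lo a) (fun i _ hi => ?_) (fun hh => absurd (Finset.mem_univ _) hh),
      hsb b hb] at h0
    · rcases mul_eq_zero.1 h0 with e' | e'
      · exact hne e'
      · omega
    by_cases hUi : v.U i = 0
    · rw [hLeout e i hUi (by rw [← haL]; exact hi), zero_mul]
    · rw [hLoc i (fun c hc => hUi (by rw [hc]; exact (hLo c).1)) a b, sub_self, mul_zero]
  have hX : ∀ i, v.U i ≠ 0 ∨ (∃ e, i = Le e) ∨ (∃ a, i = Lo a) ∨ v.IsX i := by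
    intro i
    by_contra hcon
    push Not at hcon
    exact hcon.2.2.2 ⟨hcon.1, hno i hcon.1 hcon.2.1, hLoc i hcon.2.2.1⟩
  by_cases hinj : Function.Injective Le
  · left
    refine ⟨Le, Lo, hinj, hLoi, fun e => ⟨hLeU e, hLe e, fun f hf =>
      hLeout f _ (hLeU e) fun e' => hf (hinj e').symm, fun a b => ?_⟩,
      fun a => ⟨(hLo a).1, hLoP a, (hLo a).2⟩, hX⟩
    refine hLoc _ (fun c hc => ?_) a b
    have := hLe e
    rw [hc, hLoP c e] at this
    omega
  right
  rw [Function.not_injective_iff] at hinj
  obtain ⟨e₁, e₂, he, hne⟩ := hinj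
  -- sharing means a different pair
  have hI : ∀ e f, e ≠ f →
      ((∑ i ∈ Finset.univ.filter (fun i => v.U i ≠ 0), v.P e i * v.P f i) = 1 ↔ Le e = Le f) ∧
      (∀ i, v.U i ≠ 0 → v.P e i * v.P f i ≠ 0 → v.P e i * v.P f i = 1) := by
    intro e f hef
    have h := hprod e f hef
    refine ⟨⟨fun h1 => ?_, fun h1 => ?_⟩, fun i hi hne => ?_⟩
    · by_contra h'
      rw [if_neg h', h1] at h; omega
    · rw [if_pos h1] at h
      have hle : ∑ i ∈ Finset.univ.filter (fun i => v.U i ≠ 0), v.P e i * v.P f i ≤ 2 := by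
        calc _ ≤ ∑ i ∈ Finset.univ.filter (fun i => v.U i ≠ 0), v.P e i * v.P e i := by
              refine Finset.sum_le_sum fun i hi => ?_
              have hU := v.U_pm (Finset.mem_filter.1 hi).2
              rcases hLein e i (Finset.mem_filter.1 hi).2 with a | a <;>
                rcases hLein f i (Finset.mem_filter.1 hi).2 with b | b <;>
                rcases hU with u | u <;> simp [a, b, u]
          _ = 2 := hLesq e
      have hv : v.P f (Le e) = 1 ∨ v.P f (Le e) = -1 := h1 ▸ hLe f
      rcases hLe e with a | a <;> rcases hv with b | b <;> rw [a, b] at h <;> omega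
    · have hU := v.U_pm hi
      rcases hLein e i hi with a | a
      · rw [a, zero_mul] at hne; exact absurd rfl hne
      · rcases hLein f i hi with b | b
        · rw [b, mul_zero] at hne; exact absurd rfl hne
        · rcases hU with u | u <;> simp [a, b, u]
  have hsame : ∀ e f, e ≠ f →
      (∑ i ∈ Finset.univ.filter (fun i => v.U i ≠ 0), v.P e i * v.P f i) = 2 →
        ∀ i, v.U i ≠ 0 → v.P e i = v.P f i := by
    intro e f _ h2 i hi
    have h0 : ∑ i ∈ Finset.univ.filter (fun i => v.U i ≠ 0), (v.P e i - v.P f i) ^ 2 = 0 := by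
      have e1 : ∀ k, (v.P e k - v.P f k) ^ 2 =
          v.P e k * v.P e k + (-2) * (v.P e k * v.P f k) + v.P f k * v.P f k := fun k => by ring
      simp only [e1, Finset.sum_add_distrib, ← Finset.mul_sum, hLesq, h2]
      norm_num
    exact sub_eq_zero.1 (pow_eq_zero_iff two_ne_zero |>.1
      ((Finset.sum_eq_zero_iff_of_nonneg fun k _ => sq_nonneg _).1 h0 i
        (Finset.mem_filter.2 ⟨Finset.mem_univ _, hi⟩)))
  have hdist : ∀ e f, Le e ≠ Le f →
      ∀ i, v.U i ≠ 0 → v.P e i = v.P f i := by
    intro e f hL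
    have hef : e ≠ f := fun h' => hL (h' ▸ rfl)
    have h := hprod e f hef
    rw [if_neg hL, add_zero] at h
    exact hsame e f hef h
  -- all even vectors share the member
  have hconst : ∀ e, Le e = Le e₁ := by
    intro e
    by_contra h'
    have h1 := hdist e e₁ h'
    have h2 := hdist e e₂ (by rw [← he]; exact h')
    have h3 := (hI e₁ e₂ hne).1.2 he
    rw [Finset.sum_congr rfl (fun i hi => show v.P e₁ i * v.P e₂ i = v.P e₁ i * v.P e₁ i by
      rw [← h2 i (Finset.mem_filter.1 hi).2, h1 i (Finset.mem_filter.1 hi).2]), hLesq] at h3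
    omega
  have hone : ∀ e f, e ≠ f →
      ∑ i ∈ Finset.univ.filter (fun i => v.U i ≠ 0), v.P e i * v.P f i = 1 := fun e f hef =>
    (hI e f hef).1.2 ((hconst e).trans (hconst f).symm)
  -- at most three of them
  set T := Finset.univ.filter (fun i => v.U i ≠ 0) with hT
  have hTU : ∑ i ∈ T, v.U i * v.U i = 4 := by
    rw [← v.UU, hT, Finset.sum_filter_of_ne fun i _ hi => left_ne_zero_of_mul hi]
  have hTP : ∀ e, ∑ i ∈ T, v.U i * v.P e i = -2 := fun e => by
    rw [← v.UP e, hT, Finset.sum_filter_of_ne fun i _ hi => left_ne_zero_of_mul hi]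
  have hm : h - 1 ≤ 3 := by
    obtain ⟨i₁, hi₁⟩ : T.Nonempty := Finset.card_pos.1 (by rw [hT, v.card_supp]; norm_num)
    have hU1 : v.U i₁ * v.U i₁ = 1 := by
      rcases v.U_pm (Finset.mem_filter.1 hi₁).2 with u | u <;> rw [u] <;> norm_num
    set g : Fin (h - 1) → ι → ℤ := fun e i => v.U i + 2 * v.P e i with hg
    have hgU : ∀ e, ∑ i ∈ T, g e i * v.U i = 0 := fun e => by
      simp only [hg, add_mul, mul_assoc, Finset.sum_add_distrib, ← Finset.mul_sum, hTU,
        mul_comm (v.P e _) (v.U _), hTP]
      norm_num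
    have hgg : ∀ e f, ∑ i ∈ T, g e i * g f i = if e = f then 4 else 0 := by
      intro e f
      have e1 : ∀ i, g e i * g f i = v.U i * v.U i + 2 * (v.U i * v.P e i) +
          2 * (v.U i * v.P f i) + 4 * (v.P e i * v.P f i) := fun i => by simp only [hg]; ring
      simp only [e1, Finset.sum_add_distrib, ← Finset.mul_sum, hTU, hTP]
      split_ifs with hef
      · subst hef; rw [hLesq]; norm_num
      · rw [hone e f hef]; norm_num
    have hg1 : ∀ e, g e i₁ * g e i₁ = 1 := fun e => by
      rcases hLein e i₁ (Finset.mem_filter.1 hi₁).2 with a | a <;>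
        simp only [hg, a] <;> linear_combination hU1
    set R : ι → ℤ := fun i => (if i = i₁ then 4 else 0) - v.U i₁ * v.U i - ∑ e, g e i₁ * g e i
      with hR
    have hpos : 0 ≤ ∑ i ∈ T, R i * R i := Finset.sum_nonneg fun i _ => mul_self_nonneg _
    have hRU : ∑ i ∈ T, v.U i * R i = 0 := by
      simp only [hR, mul_sub, Finset.sum_sub_distrib, mul_ite, mul_zero, Finset.sum_ite_eq', hi₁,
        if_true, Finset.mul_sum]
      rw [Finset.sum_comm (s := T)]
      simp only [← mul_assoc, mul_comm (v.U _) (v.U i₁), mul_comm (v.U _) (g _ i₁)]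
      simp only [mul_assoc, ← Finset.mul_sum, mul_comm (v.U _) (g _ _), hgU, hTU]
      simp
    have hRg : ∀ e, ∑ i ∈ T, g e i * R i = 0 := by
      intro e
      simp only [hR, mul_sub, Finset.sum_sub_distrib, mul_ite, mul_zero, Finset.sum_ite_eq', hi₁,
        if_true, Finset.mul_sum]
      rw [Finset.sum_comm (s := T)]
      simp only [← mul_assoc, mul_comm (g e _) (v.U i₁), mul_comm (g e _) (g _ i₁)]
      simp only [mul_assoc, ← Finset.mul_sum, hgU, hgg]
      simp
    have hRR : ∑ i ∈ T, R i * R i = 4 * R i₁ := by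
      have e1 : ∀ i, R i * R i = (if i = i₁ then 4 else 0) * R i - v.U i₁ * (v.U i * R i) -
          ∑ e, g e i₁ * (g e i * R i) := fun i => by
        conv_lhs => arg 1; rw [hR]
        simp only [sub_mul, Finset.sum_mul, mul_assoc]
      simp only [e1, Finset.sum_sub_distrib, ← Finset.mul_sum]
      rw [Finset.sum_comm (s := T)]
      simp only [← Finset.mul_sum, hRU, hRg]
      simp [ite_mul, hi₁]
    have hR1 : R i₁ = 4 - 1 - ((h - 1 : ℕ) : ℤ) := by
      simp only [hR, if_true, hU1, hg1]; simp
    rw [hRR, hR1] at hpos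
    omega
  have hm2 : 2 ≤ h - 1 := by
    by_contra h'
    exact hne (Fin.ext (by omega))
  have h4 : h = 4 := by rcases v.hh with h' | h' <;> omega
  subst h4
  refine ⟨Or.inr rfl, ?_, fun h2 => absurd h2 (by norm_num), fun _ => ⟨Le e₁, hLeU e₁,
    fun i hi hne' e => hLeout e i hi (by rw [hconst]; exact hne')⟩, ?_⟩
  · have hsub : v.core ⊆ insert (Le e₁) (Finset.univ.filter (fun i => v.U i ≠ 0) ∪
        Finset.univ.image Lo) := by
      intro k hk
      simp only [core, Finset.mem_filter, Finset.mem_univ, true_and] at hk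
      simp only [Finset.mem_insert, Finset.mem_union, Finset.mem_filter, Finset.mem_univ,
        true_and, Finset.mem_image]
      rcases hX k with h' | ⟨e, rfl⟩ | ⟨a, rfl⟩ | h'
      · exact Or.inr (Or.inl h')
      · exact Or.inl (hconst e)
      · exact Or.inr (Or.inr ⟨a, rfl⟩)
      · exact absurd h' hk
    refine (Finset.card_le_card hsub).trans ((Finset.card_insert_le _ _).trans ?_)
    refine (Nat.add_le_add_right ((Finset.card_union_le _ _).trans
      (Nat.add_le_add (v.card_supp).le Finset.card_image_le)) 1).trans ?_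
    simp
  · -- a member in exactly one or two pairs
    have hsplit : ∃ i, v.U i ≠ 0 ∧ ¬ (v.P 0 i = v.P 1 i ∧ v.P 1 i = v.P 2 i) := by
      by_contra hcon
      push Not at hcon
      have h1 := hone (0 : Fin 3) 1 (by decide)
      rw [Finset.sum_congr rfl (fun i hi => show v.P 0 i * v.P 1 i = v.P 0 i * v.P 0 i by
        rw [(hcon i (Finset.mem_filter.1 hi).2).1]), hLesq] at h1
      omega
    obtain ⟨i, hi, hne'⟩ := hsplit
    have hP : ∀ f : Fin 3, v.P f i = 0 ∨ v.P f i = - v.U i := fun f => hLein f i hi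
    have mk : ∀ (u p₀ p₁ p₂ : ℤ), 4 * u ^ 2 - 4 * u * (p₀ + p₁ + p₂) +
          2 * (p₀ + p₁ + p₂) ^ 2 + (p₀ ^ 2 + p₁ ^ 2 + p₂ ^ 2) = 240 →
        (u * v.U i + p₀ * v.P 0 i + p₁ * v.P 1 i + p₂ * v.P 2 i) ^ 2 = 225 →
        ∃ (V : ι → ℤ) (i₀ : ι), v.U i₀ ≠ 0 ∧ 0 < ∑ i, V i * V i ∧
          8 * ((4 : ℕ) : ℤ) * (∑ i, V i * V i - V i₀ ^ 2) ≤ 2 * ∑ i, V i * V i ∧
          ∀ y : ι → ℤ, ∑ i, y i * v.U i = 0 → (∀ e, ∑ i, y i * v.P e i = 0) →
            (∀ a b, ∑ i, y i * (v.w a i - v.w b i) = 0) → ∑ i, y i * V i = 0 := by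
      intro u p₀ p₁ p₂ hN hV
      refine ⟨fun k => u * v.U k + p₀ * v.P 0 k + p₁ * v.P 1 k + p₂ * v.P 2 k, i, hi, ?_, ?_,
        fun y h1 h2 _ => ?_⟩
      rotate_left 2
      · simp only [mul_add, Finset.sum_add_distrib, mul_left_comm (y _), ← Finset.mul_sum, h1, h2]
        ring
      all_goals
        have hnorm : ∑ k, (u * v.U k + p₀ * v.P 0 k + p₁ * v.P 1 k + p₂ * v.P 2 k) *
            (u * v.U k + p₀ * v.P 0 k + p₁ * v.P 1 k + p₂ * v.P 2 k) = 240 := by
          have e1 : ∀ k, (u * v.U k + p₀ * v.P 0 k + p₁ * v.P 1 k + p₂ * v.P 2 k) *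
              (u * v.U k + p₀ * v.P 0 k + p₁ * v.P 1 k + p₂ * v.P 2 k) =
            u ^ 2 * (v.U k * v.U k) + p₀ ^ 2 * (v.P 0 k * v.P 0 k) +
              p₁ ^ 2 * (v.P 1 k * v.P 1 k) + p₂ ^ 2 * (v.P 2 k * v.P 2 k) +
              (2 * u * p₀) * (v.U k * v.P 0 k) + (2 * u * p₁) * (v.U k * v.P 1 k) +
              (2 * u * p₂) * (v.U k * v.P 2 k) + (2 * p₀ * p₁) * (v.P 0 k * v.P 1 k) +
              (2 * p₀ * p₂) * (v.P 0 k * v.P 2 k) +
              (2 * p₁ * p₂) * (v.P 1 k * v.P 2 k) := fun k => by ring
          simp only [e1, Finset.sum_add_distrib, ← Finset.mul_sum, v.UU, v.PP, v.UP]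
          simp
          linear_combination hN
        rw [hnorm]
      · norm_num
      · rw [hV]; norm_num
    have hU := v.U_pm hi
    rcases hP 0 with a | a <;> rcases hP 1 with b | b <;> rcases hP 2 with c | c
    · exact absurd ⟨a.trans b.symm, b.trans c.symm⟩ hne'
    · exact mk 5 (6) (6) (-10) (by norm_num) (by rcases hU with u | u <;> simp [a, b, c, u])
    · exact mk 5 (6) (-10) (6) (by norm_num) (by rcases hU with u | u <;> simp [a, b, c, u])
    · exact mk 3 (10) (-6) (-6) (by norm_num) (by rcases hU with u | u <;> simp [a, b, c, u])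
    · exact mk 5 (-10) (6) (6) (by norm_num) (by rcases hU with u | u <;> simp [a, b, c, u])
    · exact mk 3 (-6) (10) (-6) (by norm_num) (by rcases hU with u | u <;> simp [a, b, c, u])
    · exact mk 3 (-6) (-6) (10) (by norm_num) (by rcases hU with u | u <;> simp [a, b, c, u])
    · exact absurd ⟨a.trans b.symm, b.trans c.symm⟩ hne'

end Vecs

end CfsgLib.QuatDefect
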