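import Cfsg.Agent.Lib.QuatDefect.Group
import Cfsg.Agent.Lib.DihedralDefect.Values
import Cfsg.Agent.Lib.BrauerPairs.InducedFromCentric

/-!
# Class functions of the defect group pushed through the normaliser of the element of order four

The block of `H = N(⟨y⟩)` below a maximal pair is nilpotent with the same defect group; products of
its character of height zero with functions supported on the rotations of order above two induce
isometrically to the block of the group.
-/

set_option autoImplicit false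
set_option linter.unusedSectionVars false
set_option linter.style.haveILetI false

namespace CfsgLib.QuatDefect

open Cfsg CfsgLib.NilBlk CfsgLib.Blocks CfsgLib.Characters CfsgLib.BrauerPairs CfsgLib.Contribution
open scoped Classical ComplexConjugate

universe u

variable {G : Type u} [Group G] [Fintype G]

/-- The defect group inside the normaliser. -/
abbrev Pd (D : Subgroup G) {m : ℕ} (S : QD D m) : Subgroup S.H := D.subgroupOf S.H

/-- The local data. -/
structure Loc {M : Ideal AlgInt} [M.IsMaximal] (hM : IsPModular 2 M) (B : Set (IrrCharacter G))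
    {D : Subgroup G} {m : ℕ} (S : QD D m) where
  /-- the local block -/
  c : Set (IrrCharacter S.H)
  /-- a maximal pair of it -/
  eD : Set (IrrCharacter (Subgroup.centralizer (Pd D S : Set S.H)))
  nil : NilCtx hM c (Pd D S) eD
  /-- a character of height zero -/
  xi : IrrCharacter S.H
  mem : xi ∈ c
  h0 : blockHeight 2 c (xi : S.H → ℂ) = 0
  ind : IsInducedBlock M S.H c B
  defect : IsDefectGroup 2 M c (Pd D S)
  defB : blockDefect 2 B = m + 2

variable [Fact (Nat.Prime 2)] {M : Ideal AlgInt} [M.IsMaximal] {hM : IsPModular 2 M}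
  {B : Set (IrrCharacter G)} {D : Subgroup G} {m : ℕ} {S : QD D m}

theorem exists_loc (hM : IsPModular 2 M) (hB : IsPBlock M B) (hD : IsDefectGroup 2 M B D)
    (S : QD D m) : Nonempty (Loc hM B S) := by
  have := charP_res hM
  obtain ⟨e0, hmax⟩ := exists_maximalPair hM hB hD
  obtain ⟨hP, -⟩ := (isMaximalBrauerPair_iff hM B D e0).1 hmax
  obtain ⟨he0, -, hO⟩ := (isBrauerPairOf_iff hM B D e0).1 hP
  have hDH : D ≤ S.H := S.D_le
  have hmap : (Pd D S).map S.H.subtype = D := Subgroup.map_subgroupOf_eq_of_le hDH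
  have hK := mem_cz_subgroupOf (H := S.H) hDH
  set e' : Set (IrrCharacter (cz (Pd D S))) :=
    CharCorr.twistIrr (inEquiv S.cz_D_le hK) '' e0
  have he' : IsPBlock M e' := isPBlock_twist _ he0
  have hpP : IsPGroup 2 (Pd D S) := hO.pgroup.comap_subtype
  obtain ⟨c, hc, hpc, hcovc⟩ := exists_block_above hM hpP he'
  have hincl := inclA_eA hM S.cz_D_le hK e0
  have hind : IsInducedBlock M S.H c B :=
    isInducedBlock_of_pair hM hc hB hpP (isBlockIdem_eA hM he')
      (by rw [hmap]; exact S.cz_D_le) hcovc (by rw [hmap, hincl]; exact hO.cover)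
  obtain ⟨D₀, hD₀, hle⟩ := exists_defectGroup_ge hM hc hpP
    (fun h0 => (isBlockIdem_eA hM he').ne_zero (by rw [← hcovc, h0, zero_mul]))
  obtain ⟨-, hup⟩ := induced_from_centric hM hc hD₀ (fun t ht => S.cz_D_le (mem_cz.2 fun d hd =>
    mem_cz.1 ht d (by rw [← hmap] at hd; exact Subgroup.map_mono hle hd)))
  obtain ⟨D', hD', hle', -⟩ := hup B hind
  have hdef : IsDefectGroup 2 M c (Pd D S) := by
    have hcard : Nat.card D₀ ≤ Nat.card D := by
      rw [← Subgroup.card_map_of_injective S.H.subtype_injective (K := D₀),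
        BlockCover.natCard_defect hM hB hD, ← BlockCover.natCard_defect hM hB hD']
      exact Subgroup.card_le_of_le hle'
    have heq : Pd D S = D₀ := Subgroup.eq_of_le_of_card_ge hle (by
      rw [Nat.card_congr (Subgroup.subgroupOfEquivOfLe hDH).toEquiv]; exact hcard)
    rw [heq]; exact hD₀
  have hnil := DihedralDefect.nilpotent_of_commute hM hc hdef fun Q hQ x hx hodd hxQ =>
    S.comm_of_normalizer hQ hx (Nat.odd_iff.2 (by omega)) hxQ
  obtain ⟨eD, heD⟩ := exists_maximalPair hM hc hdef
  obtain ⟨ξ, hξ, -, hmin⟩ := Contribution.exists_height_zero hM hc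
  refine ⟨⟨c, eD, nilCtx_of_nilpotent hM hnil heD, ξ, hξ, ?_, hind, hdef, ?_⟩⟩
  · rw [blockHeight, hmin]; exact Nat.sub_self _
  · refine Nat.pow_right_injective le_rfl (?_ : 2 ^ _ = 2 ^ _)
    rw [← BlockCover.natCard_defect hM hB hD, S.card, pow_add]
    ring

namespace Loc

variable (L : Loc hM B S)

include L in
theorem isPBlockB : IsPBlock M B := L.ind.2.1

theorem card_P : Nat.card (Pd D S) = 4 * 2 ^ m := by
  rw [Nat.card_congr (Subgroup.subgroupOfEquivOfLe S.D_le).toEquiv, S.card]

/-- Supported on the rotations of order above two. -/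
structure IsRot (f : Pd D S → ℂ) : Prop where
  cf : IsClassFunction (Pd D S) f
  supp : ∀ p, f p ≠ 0 → ∃ s, 2 * s ≠ 0 ∧ ((p : S.H) : G) = S.rot s

/-- The product of the chosen character by a function on the defect group. -/
noncomputable def st (f : Pd D S → ℂ) : S.H → ℂ :=
  starC hM L.c (Pd D S) L.eD f (L.xi : S.H → ℂ)

/-- The multiplicities in the restriction of a character of `G`. -/
noncomputable def T (f : Pd D S → ℂ) (χ : IrrCharacter G) : ℂ :=
  classInner (L.st f) (fun c : S.H => (χ : G → ℂ) c)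

theorem st_linear {ι : Type*} (s : Finset ι) (c : ι → ℂ)
    (F : ι → Pd D S → ℂ) (hF : ∀ i, IsClassFunction _ (F i)) (x : S.H) :
    L.st (fun p => ∑ i ∈ s, c i * F i p) x = ∑ i ∈ s, c i * L.st (F i) x :=
  starC_linear L.nil s c F hF L.mem x

theorem T_linear {ι : Type*} (s : Finset ι) (c : ι → ℂ)
    (F : ι → Pd D S → ℂ) (hF : ∀ i, IsClassFunction _ (F i)) (χ : IrrCharacter G) :
    L.T (fun p => ∑ i ∈ s, c i * F i p) χ = ∑ i ∈ s, c i * L.T (F i) χ := by
  simp only [T, classInner, funext fun x => L.st_linear s c F hF x, Finset.sum_mul, Finset.mul_sum]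
  rw [Finset.sum_comm]
  exact Finset.sum_congr rfl fun i _ => Finset.sum_congr rfl fun x _ => by ring

theorem T_sub {f g : Pd D S → ℂ} (hf : IsClassFunction _ f)
    (hg : IsClassFunction _ g) (χ : IrrCharacter G) :
    L.T (fun p => f p - g p) χ = L.T f χ - L.T g χ := by
  have h := L.T_linear (Finset.univ : Finset Bool) (fun i => if i then 1 else -1)
    (fun i => if i then f else g) (fun i => by cases i <;> assumption) χ
  simpa [← sub_eq_add_neg] using h

theorem st_regular {f : Pd D S → ℂ} (hf : IsClassFunction _ f) {x : S.H}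
    (hx : ¬ 2 ∣ orderOf x) : L.st f x = f 1 * (L.xi : S.H → ℂ) x :=
  starC_regular L.nil hf L.mem hx

/-- Off the support of the function the product vanishes. -/
theorem exists_of_st_ne_zero {f : Pd D S → ℂ} (hf : IsClassFunction _ f)
    {x : S.H} (hx : L.st f x ≠ 0) :
    ∃ (u t : S.H) (p : Pd D S), IsPPart 2 x u ∧ t * u * t⁻¹ = (p : S.H) ∧ f p ≠ 0 := by
  obtain ⟨u, s, hu, hs, rfl⟩ := BPStar.exists_sec_decomp hM.1 x
  have hpp : IsPPart 2 (u * (s : S.H)) u :=
    isPPart_mul (BPStar.commute_of_mem_cz s.2) hu (by rwa [Subgroup.orderOf_coe])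
  by_contra hcon
  refine hx ?_
  rw [st, starC_of_weight L.nil.star.isPBlockB L.mem hu hs 0 fun c hc hcov => ?_, zero_mul]
  obtain ⟨t, ht⟩ := L.nil.star.exists_conj (BPStar.isPGroup_zpowers hu) hc hcov
  rw [wC_eq L.nil hf ht]
  by_contra hne
  exact hcon ⟨u, t, ⟨t * u * t⁻¹, BPStar.mem_of_pairLE ht⟩, hpp, rfl, hne⟩

/-- The products are isometric. -/
theorem classInner_st {f g : Pd D S → ℂ} (hf : IsClassFunction _ f)
    (hg : IsClassFunction _ g) : classInner (L.st f) (L.st g) = classInner f g := by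
  rw [st, st, classInner_starC L.nil hf hg L.mem, classInner]
  exact congrArg _ (Finset.sum_congr rfl fun x _ => by
    rw [aVal_eq_one L.nil L.mem L.h0, mul_one])

theorem isClassFunction_st {f : Pd D S → ℂ} (hf : IsClassFunction _ f) :
    IsClassFunction S.H (L.st f) := isClassFunction_starC L.nil hf

/-- The irreducible character of the block attached to one of the defect group. -/
theorem exists_st_irr (lam : IrrCharacter (Pd D S)) :
    ∃ η : IrrCharacter S.H, η ∈ L.c ∧ (η : S.H → ℂ) = L.st (lam : Pd D S → ℂ) := by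
  obtain ⟨η, hη, he⟩ := exists_starIrr L.nil L.mem L.h0 lam
  exact ⟨η, hη, he⟩

/-- On characters the multiplicities are natural numbers. -/
theorem exists_T_nat {f : Pd D S → ℂ} (hf : IsCharacter (Pd D S) f) (χ : IrrCharacter G) :
    ∃ n : ℕ, L.T f χ = n := by
  choose n hn using fun lam : IrrCharacter (Pd D S) => classInner_char_nat hf (irr_isCharacter lam)
  choose η hη1 hη using fun lam : IrrCharacter (Pd D S) => L.exists_st_irr lam
  choose k hk using fun lam : IrrCharacter (Pd D S) => classInner_char_nat (irr_isCharacter (η lam))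
    (NormalRes.isCharacter_res S.H (irr_isCharacter χ))
  refine ⟨∑ lam, n lam * k lam, ?_⟩
  have hexp : f = fun p => ∑ lam : IrrCharacter (Pd D S), (n lam : ℂ) * (lam : Pd D S → ℂ) p := by
    funext p
    have h := congrFun (classFunction_eq_sum (isClassFunction_of_isCharacter hf)) p
    simpa [hn] using h
  rw [hexp, L.T_linear Finset.univ (fun lam => (n lam : ℂ))
    (fun (lam : IrrCharacter (Pd D S)) p => (lam : Pd D S → ℂ) p)
    (fun lam => irr_isClassFunction lam)]
  push_cast
  refine Finset.sum_congr rfl fun lam _ => ?_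
  rw [T, ← hη, hk]

theorem exists_supp {f : Pd D S → ℂ} (hf : IsRot f) {x : S.H} (hx : L.st f x ≠ 0) :
    ∃ (u t : S.H) (s : ZMod (2 * 2 ^ m)), IsPPart 2 x u ∧ 2 * s ≠ 0 ∧
      ((t * u * t⁻¹ : S.H) : G) = S.rot s := by
  obtain ⟨u, t, p, hu, ht, hp⟩ := L.exists_of_st_ne_zero hf.cf hx
  obtain ⟨s, hs, hps⟩ := hf.supp p hp
  exact ⟨u, t, s, hu, hs, by rw [ht, hps]⟩

theorem isPPart_coe {x u : S.H} (hu : IsPPart 2 x u) : IsPPart 2 (x : G) (u : G) := by
  obtain ⟨y, hy, hc, hk, hy2⟩ := hu
  refine ⟨y, ?_, hc.map S.H.subtype, ?_, ?_⟩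
  · rw [← hy]; rfl
  · simpa [Subgroup.orderOf_coe] using hk
  · simpa [Subgroup.orderOf_coe] using hy2

/-- Induction does not change the values on the support. -/
theorem ind_eq {g : Pd D S → ℂ} (hg : IsRot g) {x u t : S.H} (hu : IsPPart 2 x u)
    {s : ZMod (2 * 2 ^ m)} (hs : 2 * s ≠ 0) (ht : ((t * u * t⁻¹ : S.H) : G) = S.rot s) :
    indFun S.H (L.st g) (x : G) = L.st g x := by
  have hK0 : (Nat.card S.H : ℂ) ≠ 0 := Nat.cast_ne_zero.2 Nat.card_pos.ne'
  have key : ∀ w : G, w ∉ S.H → extendByZero S.H (L.st g) (w⁻¹ * x * w) = 0 := by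
    intro w hw
    by_cases hmem : w⁻¹ * (x : G) * w ∈ S.H
    · rw [Induction.extendByZero_mem _ _ hmem]
      by_contra hne
      obtain ⟨u', t', r, hu', hr, ht'⟩ := L.exists_supp hg hne
      have h1 := IsPPart.conj (isPPart_coe hu) w⁻¹
      rw [inv_inv] at h1
      have h2 : (u' : G) = w⁻¹ * u * w := IsPPart.unique hM.1 (isPPart_coe hu') h1
      have h3 : ((t' : G) * w⁻¹ * (t : G)⁻¹) * S.rot s *
          ((t' : G) * w⁻¹ * (t : G)⁻¹)⁻¹ = S.rot r := by
        rw [← ht, ← ht']
        simp only [Subgroup.coe_mul, Subgroup.coe_inv, h2]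
        group
      have h4 := S.conj_mem_H hs h3
      refine hw ?_
      have h5 := S.H.mul_mem (S.H.mul_mem (S.H.inv_mem t'.2) h4) t.2
      simpa [mul_assoc] using h5
    · exact Induction.extendByZero_notMem _ _ hmem
  rw [Induction.indFun_apply, ← Finset.sum_subset (Finset.subset_univ
    ((Finset.univ : Finset S.H).map (Function.Embedding.subtype (· ∈ S.H))))
    (fun w _ hw => key w fun hwK => hw (Finset.mem_map.2 ⟨⟨w, hwK⟩, Finset.mem_univ _, rfl⟩)),
    Finset.sum_map]
  simp only [Function.Embedding.subtype_apply]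
  rw [Finset.sum_congr rfl fun (c : S.H) _ =>
    show extendByZero S.H (L.st g) ((c : G)⁻¹ * x * c) = L.st g x by
      rw [show ((c : G)⁻¹ * x * c) = ((c⁻¹ * x * c : S.H) : G) from rfl,
        Induction.extendByZero_coe]
      have := L.isClassFunction_st hg.cf x c⁻¹
      rwa [inv_inv] at this]
  rw [Finset.sum_const, Finset.card_univ, nsmul_eq_mul, ← Nat.card_eq_fintype_card, ← mul_assoc,
    inv_mul_cancel₀ hK0, one_mul]

/-- The induced function. -/
theorem T_eq (f : Pd D S → ℂ) (χ : IrrCharacter G) :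
    L.T f χ = classInner (indFun S.H (L.st f)) (χ : G → ℂ) :=
  (Induction.classInner_indFun S.H (L.st f) (irr_isClassFunction χ)).symm

theorem sum_T_apply (f : Pd D S → ℂ) (g : G) :
    ∑ χ : IrrCharacter G, L.T f χ * (χ : G → ℂ) g = indFun S.H (L.st f) g := by
  conv_rhs => rw [classFunction_eq_sum (Induction.isClassFunction_indFun S.H (L.st f))]
  simp [T_eq]

theorem sum_T_mul {f g : Pd D S → ℂ} (hf : IsRot f) (hg : IsRot g) :
    ∑ χ : IrrCharacter G, L.T f χ * conj (L.T g χ) = classInner f g := by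
  rw [← L.classInner_st hf.cf hg.cf]
  have h1 : classInner (indFun S.H (L.st f)) (indFun S.H (L.st g)) =
      ∑ χ : IrrCharacter G, L.T f χ * conj (L.T g χ) := by
    conv_lhs => arg 1; rw [classFunction_eq_sum (Induction.isClassFunction_indFun S.H (L.st f))]
    rw [classInner_sum_left]
    refine Finset.sum_congr rfl fun χ _ => ?_
    rw [classInner_smul_left, ← T_eq, classInner_conj_symm _ (χ : G → ℂ), ← T_eq]
  rw [← h1, Induction.classInner_indFun _ _ (Induction.isClassFunction_indFun _ _), classInner,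
    classInner]
  refine congrArg _ (Finset.sum_congr rfl fun x _ => ?_)
  by_cases hx : L.st f x = 0
  · rw [hx, zero_mul, zero_mul]
  obtain ⟨u, t, s, hu, hs, ht⟩ := L.exists_supp hf hx
  rw [L.ind_eq hg hu hs ht]

/-- Orthogonality to the elements whose 2-part has order at most two. -/
theorem sum_T_small {f : Pd D S → ℂ} (hf : IsRot f) {g : G}
    (hg : ∀ u, IsPPart 2 g u → orderOf u ∣ 2) :
    ∑ χ : IrrCharacter G, L.T f χ * (χ : G → ℂ) g = 0 := by
  rw [sum_T_apply, Induction.indFun_apply, Finset.sum_eq_zero, mul_zero]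
  intro w _
  by_cases hmem : w⁻¹ * g * w ∈ S.H
  · rw [Induction.extendByZero_mem _ _ hmem]
    by_contra hne
    obtain ⟨u, t, s, hu, hs, ht⟩ := L.exists_supp hf hne
    have h1 := hg _ (by
      have := IsPPart.conj (isPPart_coe hu) w
      rwa [show w * (w⁻¹ * g * w) * w⁻¹ = g by group] at this)
    refine hs ?_
    rw [← S.rot_eq_one_iff, ← S.rot_pow_two, ← ht, ← orderOf_dvd_iff_pow_eq_one]
    simp only [Subgroup.coe_mul, Subgroup.coe_inv]
    rw [BPStar.orderOf_conj']
    rwa [BPStar.orderOf_conj'] at h1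
  · exact Induction.extendByZero_notMem _ _ hmem

/-- The multiplicities vanish outside the block. -/
theorem T_eq_zero {f : Pd D S → ℂ} (hf : IsRot f) {χ : IrrCharacter G} (hχ : χ ∉ B) :
    L.T f χ = 0 := by
  set r : S.H → ℂ := fun c => (χ : G → ℂ) c with hr
  have hrc : IsClassFunction S.H r := NormalRes.isClassFunction_res S.H (irr_isClassFunction χ)
  choose η hη1 hη using fun lam : IrrCharacter (Pd D S) => L.exists_st_irr lam
  have hst : ∀ x, L.st f x = ∑ lam : IrrCharacter (Pd D S),
      classInner f (lam : Pd D S → ℂ) * (η lam : S.H → ℂ) x := fun x => by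
    conv_lhs => rw [show f = fun p => ∑ lam : IrrCharacter (Pd D S),
      classInner f (lam : Pd D S → ℂ) * (lam : Pd D S → ℂ) p by
        funext p
        conv_lhs => rw [classFunction_eq_sum hf.cf]
        simp]
    rw [L.st_linear Finset.univ _ (fun (lam : IrrCharacter (Pd D S)) p => (lam : Pd D S → ℂ) p)
      (fun lam => irr_isClassFunction lam)]
    exact Finset.sum_congr rfl fun lam _ => by rw [hη]
  have hpart : classInner (L.st f) r = classInner (L.st f) (blockPart L.c r) := by
    have he : ∀ lam, classInner (η lam : S.H → ℂ) r =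
        classInner (η lam : S.H → ℂ) (blockPart L.c r) := fun lam => by
      conv_rhs => rw [show blockPart L.c r = ∑ ξ ∈ Finset.univ.filter (· ∈ L.c),
        classInner r (ξ : S.H → ℂ) • (ξ : S.H → ℂ) by funext x; simp [blockPart_eq_sum],
        classInner_conj_symm, classInner_sum_left]
      rw [Finset.sum_eq_single (η lam)]
      · rw [classInner_smul_left, classInner_irr_self (η lam).2, mul_one, classInner_conj_symm]
      · intro ξ _ hne
        rw [classInner_smul_left, classInner_irr_ne ξ.2 (η lam).2 fun e => hne (Subtype.ext e),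
          mul_zero]
      · exact fun h => absurd (Finset.mem_filter.2 ⟨Finset.mem_univ _, hη1 lam⟩) h
    rw [show L.st f = ∑ lam : IrrCharacter (Pd D S),
      classInner f (lam : Pd D S → ℂ) • (η lam : S.H → ℂ) by funext x; simp [hst],
      classInner_sum_left, classInner_sum_left]
    exact Finset.sum_congr rfl fun lam _ => by rw [classInner_smul_left, classInner_smul_left, he]
  rw [T, ← hr, hpart, classInner, Finset.sum_eq_zero, mul_zero]
  intro x _
  by_cases hx : L.st f x = 0
  · rw [hx, zero_mul]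
  obtain ⟨u, t, s, hu, hs, ht⟩ := L.exists_supp hf hx
  have h0 : blockPart L.c r x = 0 := by
    rw [← sum_blockCoeff_mul_eq_blockPart L.c hrc]
    refine secondMain_idempotent hM L.ind x (isPPart_coe hu) (fun w hw => ?_) hχ
    have hcw : (t : G) * w * (t : G)⁻¹ ∈ Subgroup.centralizer ({S.rot s} : Set G) := by
      rw [Subgroup.mem_centralizer_singleton_iff] at hw ⊢
      rw [← ht]
      simp only [Subgroup.coe_mul, Subgroup.coe_inv]
      calc (t : G) * w * (t : G)⁻¹ * ((t : G) * u * (t : G)⁻¹)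
          = (t : G) * (w * u) * (t : G)⁻¹ := by group
        _ = (t : G) * (u * w) * (t : G)⁻¹ := by rw [hw]
        _ = _ := by group
    have h5 := S.H.mul_mem (S.H.mul_mem (S.H.inv_mem t.2) (S.centralizer_rot_le hs hcw)) t.2
    simpa [mul_assoc] using h5
  rw [h0, map_zero, mul_zero]

/-- The function of the regular representation. -/
noncomputable def regF : Pd D S → ℂ := fun p => if p = 1 then (4 * 2 ^ m : ℕ) else 0

theorem isClassFunction_regF : IsClassFunction (Pd D S) (regF (S := S)) := fun p q => by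
  simp only [regF, conj_eq_one_iff]

theorem T_regF (χ : IrrCharacter G) :
    L.T regF χ = (Nat.card S.H : ℂ)⁻¹ * ∑ x ∈ Finset.univ.filter (fun x : S.H => ¬ 2 ∣ orderOf x),
      ((4 * 2 ^ m : ℕ) : ℂ) * (L.xi : S.H → ℂ) x * conj ((χ : G → ℂ) x) := by
  rw [T, classInner, Finset.sum_filter]
  refine congrArg _ (Finset.sum_congr rfl fun x _ => ?_)
  by_cases hx : 2 ∣ orderOf x
  · rw [if_neg (not_not.2 hx), st,
      starC_eq_zero_of_singular L.nil isClassFunction_regF (fun p hp => if_neg hp) L.mem hx,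
      zero_mul]
  · rw [if_pos hx, L.st_regular isClassFunction_regF hx, regF, if_pos rfl]

/-- The multiplicity of the regular representation is the reduced degree times a local number
depending only on the block modulo the ideal. -/
theorem exists_W :
    ∃ W : IrrCharacter G → ℂ, (∀ ψ ∈ B, MemLocalRing M (W ψ)) ∧
      (∀ ψ ∈ B, ∀ φ ∈ B, MemLocalIdeal M (W ψ - W φ)) ∧
      ∀ ψ ∈ B, L.T regF ψ * ((Nat.card G / 2 ^ (Nat.card G).factorization 2 : ℕ) : ℂ) =
        (red 2 B ψ : ℂ) * W ψ := by
  let _ : Fintype (ConjClasses S.H) := Fintype.ofFinite _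
  set R : ConjClasses S.H → ℂ := fun K => if ¬ 2 ∣ orderOf K.out then
    (L.xi : S.H → ℂ) K.out *
      ((Nat.card (Subgroup.centralizer ({(K.out : G)} : Set G)) /
        Nat.card (Subgroup.centralizer ({K.out} : Set S.H)) : ℕ) : ℂ) else 0
  have hR : ∀ K, MemLocalRing M (R K) := fun K => by
    simp only [R]
    by_cases hK : 2 ∣ orderOf K.out
    · rw [if_neg (not_not.2 hK)]; exact (lRing hM).zero_mem
    · rw [if_pos hK]
      exact (lRing hM).mul_mem (isIntegral_mem_lRing hM (CfsgLib.ClassCount.irr_isIntegral _ _))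
        (natCast_mem (lRing hM) _)
  refine ⟨fun ψ => ∑ K, R K * centralChar (ψ : G → ℂ) (K.out : G)⁻¹, fun ψ _ => ?_,
    fun ψ hψ φ hφ => ?_, fun ψ hψ => ?_⟩
  · exact (lRing hM).sum_mem fun K _ => (lRing hM).mul_mem (hR K) (centralChar_mem_lRing hM ψ _)
  · rw [← Finset.sum_sub_distrib]
    refine MemLocalIdeal.sum hM _ fun K _ => ?_
    rw [← mul_sub]
    exact MemLocalIdeal.mul_left hM (hR K) ((IsPBlock.mem_iff hM L.isPBlockB hψ φ).1 hφ _)
  set N : ℕ := Nat.card G / 2 ^ (Nat.card G).factorization 2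
  let F : S.H → ℂ := fun s => if ¬ 2 ∣ orderOf s then
    (L.xi : S.H → ℂ) s * conj ((ψ : G → ℂ) s) *
      ((Subgroup.centralizer ({s} : Set S.H)).index : ℂ) else 0
  have hF : ∀ g h : S.H, F (h * g * h⁻¹) = F g := fun g h => by
    have h1 : IsConj g (h * g * h⁻¹) := isConj_iff.2 ⟨h, rfl⟩
    simp only [F]
    rw [show orderOf (h * g * h⁻¹) = orderOf g from (MulAut.conj h).orderOf_eq g,
      irr_isClassFunction L.xi g h, show (ψ : G → ℂ) ((h * g * h⁻¹ : S.H) : G) = (ψ : G → ℂ) g from
        irr_isClassFunction ψ (g : G) (h : G), ← natCard_isConj, ← natCard_isConj,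
      Nat.card_congr (Equiv.subtypeEquivRight fun y =>
        ⟨fun H' => h1.trans H', fun H' => h1.symm.trans H'⟩)]
  have h2 : (∑ s ∈ Finset.univ.filter (fun s : S.H => ¬ 2 ∣ orderOf s),
      ((4 * 2 ^ m : ℕ) : ℂ) * (L.xi : S.H → ℂ) s * conj ((ψ : G → ℂ) s)) =
        ((4 * 2 ^ m : ℕ) : ℂ) * ∑ K : ConjClasses S.H, F K.out := by
    rw [← Contribution.sum_div_index F hF, Finset.mul_sum, Finset.sum_filter]
    refine Finset.sum_congr rfl fun s _ => ?_
    simp only [F]
    by_cases hs : 2 ∣ orderOf s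
    · rw [if_neg (not_not.2 hs), if_neg (not_not.2 hs), zero_div, mul_zero]
    · rw [if_pos hs, if_pos hs,
        mul_div_cancel_right₀ _ (Nat.cast_ne_zero.2 Subgroup.index_ne_zero_of_finite), mul_assoc]
  rw [T_regF, h2, Finset.mul_sum, Finset.mul_sum, Finset.sum_mul, Finset.mul_sum]
  refine Finset.sum_congr rfl fun K _ => ?_
  simp only [F, R]
  by_cases hK : 2 ∣ orderOf K.out
  · simp [hK]
  rw [if_pos hK, if_pos hK, Contribution.centralChar_inv, centralChar, map_div₀, map_mul,
    Complex.conj_natCast, (CfsgLib.ClassCount.degree_eq ψ).1, Complex.conj_natCast]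
  set C := Subgroup.centralizer ({(K.out : G)} : Set G)
  set CH := Subgroup.centralizer ({K.out} : Set S.H)
  have hdvd : Nat.card CH ∣ Nat.card C := by
    rw [← Subgroup.card_map_of_injective S.H.subtype_injective (K := CH)]
    refine Subgroup.card_dvd_of_le ?_
    rintro _ ⟨g, hg, rfl⟩
    exact Subgroup.mem_centralizer_singleton_iff.2
      (congrArg Subtype.val (Subgroup.mem_centralizer_singleton_iff.1 hg))
  rw [← (CfsgLib.ClassCount.degree_eq ψ).1, apply_one_red (p := 2) hψ,
    Nat.cast_div hdvd (Nat.cast_ne_zero.2 Nat.card_pos.ne')]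
  have hG : (Nat.card C : ℂ) * (C.index : ℂ) =
      (2 : ℂ) ^ minExp 2 B * ((4 * 2 ^ m : ℕ) : ℂ) * (N : ℂ) := by
    rw [← Nat.cast_mul, C.card_mul_index,
      show ((4 * 2 ^ m : ℕ) : ℂ) = (2 : ℂ) ^ blockDefect 2 B by
        rw [L.defB, pow_add]; push_cast; ring,
      ← pow_add, minExp_add_defect hM L.isPBlockB, cast_card_eq (p := 2)]
    rfl
  have hidx : (CH.index : ℂ) * (Nat.card CH : ℂ) = (Nat.card S.H : ℂ) := by
    rw [← Nat.cast_mul, Subgroup.index_mul_card]
  rw [← hidx]
  have : (red 2 B ψ : ℂ) ≠ 0 := Nat.cast_ne_zero.2 (red_pos hψ).ne'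
  have : (Nat.card CH : ℂ) ≠ 0 := Nat.cast_ne_zero.2 Nat.card_pos.ne'
  have : (CH.index : ℂ) ≠ 0 := Nat.cast_ne_zero.2 Subgroup.index_ne_zero_of_finite
  simp only [Nat.cast_ofNat] at *
  field_simp
  linear_combination -((L.xi : S.H → ℂ) K.out * conj ((ψ : G → ℂ) (K.out : G))) * hG

end Loc

end CfsgLib.QuatDefect
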