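import Cfsg.Agent.Lib.QuatDefect.FusionCount

/-!
# The invariants of blocks with quaternion or semidihedral defect group
-/

set_option autoImplicit false
set_option linter.style.haveILetI false
set_option linter.unusedSectionVars false

namespace CfsgLib.QuatDefect

open Cfsg CfsgLib.Blocks CfsgLib.Characters CfsgLib.Contribution CfsgLib.BrauerPairs
open scoped Classical

universe u

variable {G : Type u} [Group G] [Fintype G] [Fact (Nat.Prime 2)] {M : Ideal AlgInt} [M.IsMaximal]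
  {hM : IsPModular 2 M} {B : Set (IrrCharacter G)} {D : Subgroup G} {m : ℕ} {S : QD D m}

namespace Loc

variable (L : Loc hM B S)

include L in
theorem pow_dvd_iff_height (i : members B) (l : ℕ) :
    2 ^ l ∣ red 2 B (i : IrrCharacter G) ↔
      l ≤ blockHeight 2 B ((i : IrrCharacter G) : G → ℂ) := by
  rw [pow_dvd_red hM.1 (mem_members.1 i.2)]
  have hmin := minExp_le (p := 2) (mem_members.1 i.2)
  show _ ↔ l ≤ (charDegree ((i : IrrCharacter G) : G → ℂ)).factorization 2 - minExp 2 B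
  omega

include L in
theorem height_zero_iff (i : members B) :
    blockHeight 2 B ((i : IrrCharacter G) : G → ℂ) = 0 ↔ ¬ 2 ∣ rd i := by
  have h := L.pow_dvd_iff_height i 1
  rw [pow_one] at h
  rw [rd, h]
  omega

include L in
theorem height_one_iff (i : members B) :
    blockHeight 2 B ((i : IrrCharacter G) : G → ℂ) = 1 ↔ 2 ∣ rd i ∧ ¬ 4 ∣ rd i := by
  have h1 := L.pow_dvd_iff_height i 1
  have h2 := L.pow_dvd_iff_height i 2
  rw [pow_one] at h1
  rw [show (2 : ℕ) ^ 2 = 4 from rfl] at h2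
  rw [rd, h1, h2]
  omega

theorem card_height (h : ℕ) :
    Nat.card {χ : IrrCharacter G // χ ∈ B ∧ blockHeight 2 B (χ : G → ℂ) = h} =
      (Finset.univ.filter fun i : members B =>
        blockHeight 2 B ((i : IrrCharacter G) : G → ℂ) = h).card := by
  rw [← Fintype.card_coe, ← Nat.card_eq_fintype_card]
  exact Nat.card_congr
    { toFun := fun χ => ⟨⟨χ.1, mem_members.2 χ.2.1⟩, Finset.mem_filter.2 ⟨Finset.mem_univ _, χ.2.2⟩⟩
      invFun := fun i => ⟨i.1.1, mem_members.1 i.1.2, (Finset.mem_filter.1 i.2).2⟩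
      left_inv := fun _ => rfl
      right_inv := fun _ => rfl }

include L in
/-- The height of a member with contribution `2 ^ (m + 1)` on the diagonal. -/
theorem height_le_of_diag {c : members B → members B → ℤ} (hc : CType (rd (B := B)) (4 * 2 ^ m) c)
    (i : members B) (hi : c i i = 2 * 2 ^ m) :
    blockHeight 2 B ((i : IrrCharacter G) : G → ℂ) ≤ m := by
  set h := blockHeight 2 B ((i : IrrCharacter G) : G → ℂ)
  by_cases h0 : h = 0
  · omega
  have hd := hc.dvd_diag i h (Nat.pos_of_ne_zero h0) ((L.pow_dvd_iff_height i h).2 le_rfl)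
  rw [hi, ← pow_succ'] at hd
  have hd' : (2 : ℕ) ^ (h + 1) ∣ 2 ^ (m + 1) := by exact_mod_cast hd
  have := (Nat.pow_dvd_pow_iff_le_right (le_refl 2)).1 hd'
  omega

variable [Fintype (ConjClasses G)] [Fintype (ConjClasses (Subgroup.centralizer ({S.z} : Set G)))]
  {b : Set (IrrCharacter (Subgroup.centralizer ({S.z} : Set G)))}
  (hind : IsInducedBlock M (Subgroup.centralizer ({S.z} : Set G)) b B)
  (hd : blockDefect 2 b = blockDefect 2 B)

include L hind hd

/-- The members by height, when the group is not of order eight. -/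
theorem shape (hm : 2 ≤ m) (hk : blockRank 2 B + (2 ^ m + 1) ≤ Nat.card B) :
    ∃ X : ℕ, X < blockRank 2 b ∧ Nat.card B = 2 ^ m + 3 + X ∧
      Nat.card {χ : IrrCharacter G // χ ∈ B ∧ blockHeight 2 B (χ : G → ℂ) = 0} = 4 ∧
      Nat.card {χ : IrrCharacter G // χ ∈ B ∧ blockHeight 2 B (χ : G → ℂ) = 1} = 2 ^ m - 1 ∧
      ∀ χ ∈ B, blockHeight 2 B (χ : G → ℂ) = 0 ∨ blockHeight 2 B (χ : G → ℂ) = 1 ∨
        blockHeight 2 B (χ : G → ℂ) = m := by
  set p := L.pair hm hind hd
  rcases p.shape_or_small with ⟨⟨Sh⟩⟩ | ⟨hsmall, -, -, -, -⟩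
  · have hr : ∀ i, p.r i = rd i := fun i => rfl
    obtain ⟨hcard, hmid⟩ := Pair.Shape.card p Sh
    rw [Fintype.card_coe, ← card_members] at hcard
    have hl : ∑ i, p.c' i i = 4 * 2 ^ m * (blockRank 2 b : ℤ) := by
      rw [← L.two_pow_defect]; exact trace_c₂ hM S.orderOf_z hind hd
    refine ⟨p.X.card, Pair.Shape.card_X_lt p Sh hl, ?_, ?_, ?_, ?_⟩
    · have := Nat.two_pow_pos m
      omega
    · rw [card_height, ← p.card_T, Pair.T]
      congr 1
      ext i
      simp only [Finset.mem_filter, Finset.mem_univ, true_and]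
      rw [L.height_zero_iff, p.odd_iff, hr]
    · rw [card_height, ← hmid]
      congr 1
      ext i
      simp only [Finset.mem_filter, Finset.mem_univ, true_and]
      rw [L.height_one_iff, hr]
    · intro χ hχ
      set i : members B := ⟨χ, mem_members.2 hχ⟩
      show blockHeight 2 B ((i : IrrCharacter G) : G → ℂ) = 0 ∨
        blockHeight 2 B ((i : IrrCharacter G) : G → ℂ) = 1 ∨
        blockHeight 2 B ((i : IrrCharacter G) : G → ℂ) = m
      rcases Sh.cases i with h | ⟨e, he⟩ | ⟨a, ha⟩ | h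
      · exact Or.inl ((L.height_zero_iff i).2 ((p.odd_iff i).1 h))
      · exact Or.inr (Or.inl ((L.height_one_iff i).2 (p.heightE i e (he ▸ Sh.isE e))))
      · exact Or.inr (Or.inl ((L.height_one_iff i).2 (p.heightO i a (ha ▸ Sh.isO a))))
      · refine Or.inr (Or.inr (le_antisymm ?_ ?_))
        · exact L.height_le_of_diag p.hc i (p.extra h).1
        · exact (L.pow_dvd_iff_height i m).1 (p.heightX i h)
  · exfalso
    rw [Fintype.card_coe, ← card_members, S.two_mul_half] at hsmall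
    have := CyclicDefectBound.one_le_blockRank hM L.isPBlockB
    omega

/-- The members by height for the group of order eight. -/
theorem shape_eight (hm : m = 1) :
    ∃ X : ℕ, X ≤ blockRank 2 b ∧ Nat.card B = 4 + X ∧
      Nat.card {χ : IrrCharacter G // χ ∈ B ∧ blockHeight 2 B (χ : G → ℂ) = 0} = 4 ∧
      ∀ χ ∈ B, blockHeight 2 B (χ : G → ℂ) = 0 ∨ blockHeight 2 B (χ : G → ℂ) = 1 := by
  have hc : CType (rd (B := B)) (4 * 2 ^ m) c₁ := L.two_pow_defect ▸ ctype_c₁ hM L.isPBlockB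
  have hc' : CType (rd (B := B)) (4 * 2 ^ m) (c₂ S.z b) :=
    L.two_pow_defect ▸ ctype_c₂ hM S.orderOf_z hind hd
  have horth : ∀ i j : members B, ∑ k, c₁ i k * c₂ S.z b k j = 0 :=
    horth₁₂ hM S.orderOf_z hind
  set T : Finset (members B) := Finset.univ.filter fun i => L.U i ≠ 0 with hTdef
  have hT4 : T.card = 4 := L.U_pm.2
  have hTi : ∀ i, i ∈ T ↔ ¬ 2 ∣ rd i := fun i => by
    rw [hTdef, Finset.mem_filter, and_iff_right (Finset.mem_univ i)]
    exact L.odd_iff i
  have hx : ∀ i, i ∉ T → 2 ^ m ∣ rd i := fun i hi => by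
    rw [hm, pow_one]
    exact not_not.1 fun h => hi ((hTi i).2 h)
  have hext := fun i hi => CType.extra hc hc' (by omega : 0 < m) rfl horth hT4
    (fun j hj => (hTi j).1 hj) (hx i hi)
  have hl : ∑ i, c₂ S.z b (B := B) i i = 4 * 2 ^ m * (blockRank 2 b : ℤ) := by
    rw [← L.two_pow_defect]; exact trace_c₂ hM S.orderOf_z hind hd
  have hle := (CType.card_le hc' (a := 2 * 2 ^ m) (by positivity) (by ring) (X := Tᶜ)
    (fun x hx' => (hext x (Finset.mem_compl.1 hx')).2.1)
    (fun x hx' y hy hne => ((hext x (Finset.mem_compl.1 hx')).2.2.2 y (Ne.symm hne)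
      (Finset.mem_compl.1 hy)).2) hl).1
  refine ⟨Tᶜ.card, by exact_mod_cast hle, ?_, ?_, ?_⟩
  · rw [card_members, ← Fintype.card_coe, ← Finset.card_add_card_compl T, hT4]
  · rw [card_height, ← hT4]
    congr 1
    ext i
    rw [hTi, Finset.mem_filter, and_iff_right (Finset.mem_univ i), L.height_zero_iff]
  · intro χ hχ
    set i : members B := ⟨χ, mem_members.2 hχ⟩
    show blockHeight 2 B ((i : IrrCharacter G) : G → ℂ) = 0 ∨
      blockHeight 2 B ((i : IrrCharacter G) : G → ℂ) = 1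
    by_cases hi : i ∈ T
    · exact Or.inl ((L.height_zero_iff i).2 ((hTi i).1 hi))
    · have h1 := L.height_le_of_diag hc i (hext i hi).1
      omega

end Loc

/-- Quaternion defect groups. -/
theorem main_quaternion (hM : IsPModular 2 M) (hB : IsPBlock M B) (hD : IsDefectGroup 2 M B D)
    (S : QD D m) (ha : S.a = -1) (hτ : S.τ * S.τ = S.z) :
    1 ≤ blockRank 2 B ∧ blockRank 2 B ≤ 3 ∧ Nat.card B = blockRank 2 B + 2 ^ m + 2 ∧
      Nat.card {χ : IrrCharacter G // χ ∈ B ∧ blockHeight 2 B (χ : G → ℂ) = 0} = 4 ∧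
      (∀ χ ∈ B, blockHeight 2 B (χ : G → ℂ) = 0 ∨ blockHeight 2 B (χ : G → ℂ) = 1 ∨
        blockHeight 2 B (χ : G → ℂ) = m) ∧
      (2 ≤ m → Nat.card {χ : IrrCharacter G // χ ∈ B ∧ blockHeight 2 B (χ : G → ℂ) = 1} =
        2 ^ m - 1) := by
  obtain ⟨C⟩ := exists_ctx hM hB hD
  obtain ⟨L⟩ := exists_loc hM hB hD S
  letI : Fintype (ConjClasses G) := Fintype.ofFinite _
  letI : Fintype (ConjClasses (Subgroup.centralizer ({S.z} : Set G))) := Fintype.ofFinite _
  obtain ⟨-, hd, -, -⟩ := C.exists_center_ctx S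
  obtain ⟨hk, hlz⟩ := C.counts_quaternion S ha hτ
  have h1 := CyclicDefectBound.one_le_blockRank hM hB
  have := S.one_le
  rcases (show m = 1 ∨ 2 ≤ m by omega) with hm | hm
  · obtain ⟨X, hX, hcard, h0, hall⟩ := L.shape_eight (C.blk_induced S.z_mem) hd hm
    subst hm
    simp only [pow_one] at hk ⊢
    exact ⟨h1, by omega, by omega, h0, fun χ hχ => (hall χ hχ).imp_right Or.inl,
      fun h => absurd h (by norm_num)⟩
  · obtain ⟨X, hX, hcard, h0, hone, hall⟩ := L.shape (C.blk_induced S.z_mem) hd hm (by omega)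
    exact ⟨h1, by omega, by omega, h0, hall, fun _ => hone⟩

/-- Semidihedral defect groups. -/
theorem main_semidihedral (hM : IsPModular 2 M) (hB : IsPBlock M B) (hD : IsDefectGroup 2 M B D)
    (S : QD D m) (hm : 2 ≤ m) (ha : S.a = 2 ^ m - 1) (hτ : S.τ * S.τ = 1) :
    (Nat.card B = 2 ^ m + 3 ∨ Nat.card B = 2 ^ m + 4) ∧ 1 ≤ blockRank 2 B ∧ blockRank 2 B ≤ 3 ∧
      (blockRank 2 B = 3 → Nat.card B = 2 ^ m + 4) ∧
      (blockRank 2 B = 1 → Nat.card B = 2 ^ m + 3) ∧
      Nat.card {χ : IrrCharacter G // χ ∈ B ∧ blockHeight 2 B (χ : G → ℂ) = 0} = 4 ∧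
      Nat.card {χ : IrrCharacter G // χ ∈ B ∧ blockHeight 2 B (χ : G → ℂ) = 1} = 2 ^ m - 1 ∧
      ∀ χ ∈ B, blockHeight 2 B (χ : G → ℂ) = 0 ∨ blockHeight 2 B (χ : G → ℂ) = 1 ∨
        blockHeight 2 B (χ : G → ℂ) = m := by
  obtain ⟨C⟩ := exists_ctx hM hB hD
  obtain ⟨L⟩ := exists_loc hM hB hD S
  letI : Fintype (ConjClasses G) := Fintype.ofFinite _
  letI : Fintype (ConjClasses (Subgroup.centralizer ({S.z} : Set G))) := Fintype.ofFinite _
  obtain ⟨-, hd, -, -⟩ := C.exists_center_ctx S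
  obtain ⟨hk, hlz⟩ := C.counts_semidihedral S hm ha hτ
  have h1 := CyclicDefectBound.one_le_blockRank hM hB
  obtain ⟨X, hX, hcard, h0, hone, hall⟩ := L.shape (C.blk_induced S.z_mem) hd hm (by omega)
  exact ⟨by omega, h1, by omega, fun h => by omega, fun h => by omega, h0, hone, hall⟩

end CfsgLib.QuatDefect
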