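import Cfsg.Agent.Lib.QuatDefect.Lattice

/-!
# Two orthogonal integral projections orthogonal to the vectors of the rotations
-/

set_option autoImplicit false
set_option linter.unusedSectionVars false

namespace CfsgLib.QuatDefect

variable {ι : Type*} [Fintype ι]

/-- A matrix of contributions: `Q` times a projection, with the divisibilities of the reduced
degrees `r`. -/
structure CType (r : ι → ℕ) (Q : ℤ) (c : ι → ι → ℤ) : Prop where
  symm : ∀ i j, c i j = c j i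
  mul : ∀ i j, ∑ k, c i k * c k j = Q * c i j
  ne : ∀ i j, ¬ 2 ∣ r j → c i j ≠ 0
  dvd : ∀ i j k, ¬ 2 ∣ r j → 2 ^ k ∣ r i → (2 : ℤ) ^ k ∣ c i j
  dvd_diag : ∀ i k, 0 < k → 2 ^ k ∣ r i → (2 : ℤ) ^ (k + 1) ∣ c i i

namespace CType

variable {r : ι → ℕ} {Q : ℤ} {c c' : ι → ι → ℤ}

theorem row (hc : CType r Q c) (i : ι) : ∑ k, c i k ^ 2 = Q * c i i := by
  rw [← hc.mul i i]
  exact Finset.sum_congr rfl fun k _ => by rw [pow_two, hc.symm k i]

theorem diag_pos (hc : CType r Q c) (hQ : 0 < Q) {i j : ι} (hj : ¬ 2 ∣ r j) : 0 < c i i := by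
  have h1 : c i j ^ 2 ≤ Q * c i i := hc.row i ▸
    Finset.single_le_sum (f := fun k => c i k ^ 2) (fun k _ => sq_nonneg _) (Finset.mem_univ j)
  have h2 : 0 < c i j ^ 2 := lt_of_le_of_ne (sq_nonneg _) (pow_ne_zero 2 (hc.ne i j hj)).symm
  exact pos_of_mul_pos_right (lt_of_lt_of_le h2 h1) hQ.le

/-- Bessel's inequality for the two projections and one further vector orthogonal to them. -/
theorem bessel (hc : CType r Q c) (hc' : CType r Q c') (hQ : 0 < Q)
    (horth : ∀ i j, ∑ k, c i k * c' k j = 0) (V : ι → ℤ) {N : ℤ} (hN : 0 < N) (i : ι)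
    (hVV : (∑ k, V k * V k) * V i = N * V i)
    (hV : V i ≠ 0 → ∑ k, c i k * V k = 0 ∧ ∑ k, c' i k * V k = 0) :
    N * (c i i + c' i i) + Q * V i ^ 2 ≤ N * Q ∧
      (N * (c i i + c' i i) + Q * V i ^ 2 = N * Q →
        ∀ j, j ≠ i → N * (c i j + c' i j) + Q * (V i * V j) = 0) := by
  classical
  set y : ι → ℤ := fun j => N * (c i j + c' i j) + Q * (V i * V j) with hy
  have hcc : ∑ k, c i k * c' i k = 0 := by
    rw [← horth i i]
    exact Finset.sum_congr rfl fun k _ => by rw [hc'.symm k i]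
  have hA : Q * N * V i * ∑ k, (c i k + c' i k) * V k = 0 := by
    by_cases h0 : V i = 0
    · rw [h0]; ring
    · obtain ⟨h1, h2⟩ := hV h0
      simp only [add_mul, Finset.sum_add_distrib, h1, h2, add_zero, mul_zero]
  have e1 : ∀ k, y k ^ 2 = N ^ 2 * (c i k ^ 2 + c' i k ^ 2) + 2 * N ^ 2 * (c i k * c' i k) +
      2 * (Q * N * V i) * ((c i k + c' i k) * V k) + Q ^ 2 * (V i * V i) * (V k * V k) := fun k => by
    simp only [hy]; ring
  have hsum : ∑ k, y k ^ 2 = N * Q * y i := by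
    simp only [e1, Finset.sum_add_distrib, ← Finset.mul_sum, hcc, hc.row, hc'.row]
    rw [mul_assoc 2 (Q * N * V i), hA]
    simp only [hy]
    linear_combination (Q ^ 2 * V i) * hVV
  have hyi : y i = N * (c i i + c' i i) + Q * V i ^ 2 := by simp only [hy]; ring
  rw [← hyi]
  have hsplit : ∑ k, y k ^ 2 = y i ^ 2 + ∑ k ∈ Finset.univ.erase i, y k ^ 2 :=
    (Finset.add_sum_erase _ _ (Finset.mem_univ i)).symm
  have hrest : 0 ≤ ∑ k ∈ Finset.univ.erase i, y k ^ 2 := Finset.sum_nonneg fun k _ => sq_nonneg _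
  constructor
  · by_contra hlt
    push Not at hlt
    have hp : 0 < y i := lt_trans (mul_pos hN hQ) hlt
    nlinarith [mul_lt_mul_of_pos_left hlt hp]
  · intro he j hj
    have h0 : ∑ k ∈ Finset.univ.erase i, y k ^ 2 = 0 := by
      rw [hsum, he] at hsplit; linarith
    exact pow_eq_zero_iff two_ne_zero |>.1 ((Finset.sum_eq_zero_iff_of_nonneg
      fun k _ => sq_nonneg _).1 h0 j (Finset.mem_erase.2 ⟨hj, Finset.mem_univ j⟩))

/-- Bessel's inequality for the two projections alone. -/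
theorem bessel_zero (hc : CType r Q c) (hc' : CType r Q c') (hQ : 0 < Q)
    (horth : ∀ i j, ∑ k, c i k * c' k j = 0) (i : ι) :
    c i i + c' i i ≤ Q ∧ (c i i + c' i i = Q → ∀ j, j ≠ i → c i j + c' i j = 0) := by
  obtain ⟨h1, h2⟩ := bessel hc hc' hQ horth (fun _ => 0) one_pos i (by simp) (fun h => absurd rfl h)
  simp only [one_mul, mul_zero, zero_pow two_ne_zero, add_zero] at h1 h2
  exact ⟨h1, h2⟩

/-- A member of large height vanishing on the rotations. -/
theorem extra (hc : CType r Q c) (hc' : CType r Q c') {m : ℕ} (hm : 0 < m)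
    (hQm : Q = 4 * 2 ^ m) (horth : ∀ i j, ∑ k, c i k * c' k j = 0) {T : Finset ι}
    (hT4 : T.card = 4) (hT : ∀ j ∈ T, ¬ 2 ∣ r j) {x : ι} (hx : 2 ^ m ∣ r x) :
    c x x = 2 * 2 ^ m ∧ c' x x = 2 * 2 ^ m ∧ (∀ j, j ≠ x → c x j + c' x j = 0) ∧
      ∀ y, y ≠ x → y ∉ T → c x y = 0 ∧ c' x y = 0 := by
  classical
  have hp : (0 : ℤ) < 2 ^ m := pow_pos two_pos m
  have hQ : 0 < Q := by rw [hQm]; positivity
  obtain ⟨j₀, hj₀⟩ : T.Nonempty := Finset.card_pos.1 (by omega)
  have hxT : x ∉ T := fun h => hT x h ((dvd_pow_self 2 hm.ne').trans hx)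
  have hb := bessel_zero hc hc' hQ horth x
  have hge : ∀ {d : ι → ι → ℤ}, CType r Q d → 2 * 2 ^ m ≤ d x x := fun {d} hd =>
    Int.le_of_dvd (hd.diag_pos hQ (hT j₀ hj₀)) (by
      have := hd.dvd_diag x m hm hx
      rwa [pow_succ'] at this)
  have hcx : c x x = 2 * 2 ^ m := by linarith [hge hc, hge hc', hb.1]
  have hcx' : c' x x = 2 * 2 ^ m := by linarith [hge hc, hge hc', hb.1]
  refine ⟨hcx, hcx', hb.2 (by rw [hcx, hcx', hQm]; ring), ?_⟩
  have key : ∀ {d : ι → ι → ℤ}, CType r Q d → d x x = 2 * 2 ^ m → ∀ y, y ≠ x → y ∉ T → d x y = 0 := by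
    intro d hd hdx y hyx hyT
    have hbig : ∀ j ∈ T, ((2 : ℤ) ^ m) ^ 2 ≤ d x j ^ 2 := by
      intro j hj
      obtain ⟨t, ht⟩ := hd.dvd x j m (hT j hj) hx
      have ht0 : t ≠ 0 := fun h0 => hd.ne x j (hT j hj) (by rw [ht, h0, mul_zero])
      have h1 : 1 ≤ t ^ 2 :=
        Int.add_one_le_iff.2 (lt_of_le_of_ne (sq_nonneg t) (pow_ne_zero 2 ht0).symm)
      rw [ht, mul_pow]
      exact le_mul_of_one_le_right (sq_nonneg _) h1
    have h4 : 4 * ((2 : ℤ) ^ m) ^ 2 ≤ ∑ j ∈ T, d x j ^ 2 := by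
      have := Finset.sum_le_sum hbig
      rwa [Finset.sum_const, hT4, nsmul_eq_mul, Nat.cast_ofNat] at this
    have hnot : x ∉ insert y T := by simp [Ne.symm hyx, hxT]
    have hle : d x x ^ 2 + (d x y ^ 2 + ∑ j ∈ T, d x j ^ 2) ≤ Q * d x x := by
      rw [← hd.row x, ← Finset.sum_insert (f := fun k => d x k ^ 2) hyT,
        ← Finset.sum_insert (f := fun k => d x k ^ 2) hnot]
      exact Finset.sum_le_sum_of_subset_of_nonneg (Finset.subset_univ _) fun k _ _ => sq_nonneg _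
    rw [hdx, hQm] at hle
    exact pow_eq_zero_iff two_ne_zero |>.1 (le_antisymm (by nlinarith) (sq_nonneg _))
  exact fun y hy hy' => ⟨key hc hcx y hy hy', key hc' hcx' y hy hy'⟩

/-- The members of large height are independent in the second projection. -/
theorem card_le (hc' : CType r Q c') {a : ℤ} (ha : 0 < a) (hQa : Q = 2 * a) {X : Finset ι}
    (hX1 : ∀ x ∈ X, c' x x = a) (hX2 : ∀ x ∈ X, ∀ y ∈ X, x ≠ y → c' x y = 0) {l : ℕ}
    (hl : ∑ i, c' i i = Q * l) :
    (X.card : ℤ) ≤ l ∧ ∀ o, 0 < c' o o → (∀ x ∈ X, c' x o = 0) → (X.card : ℤ) < l := by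
  classical
  set S : ι → ℤ := fun i => ∑ x ∈ X, c' i x ^ 2 with hS
  have hnn : ∀ i, S i ≤ a * c' i i := by
    intro i
    set z : ι → ℤ := fun j => a * c' i j - ∑ x ∈ X, c' i x * c' x j with hz
    have h0 : 0 ≤ ∑ j, z j ^ 2 := Finset.sum_nonneg fun j _ => sq_nonneg _
    have e1 : ∀ j, z j ^ 2 = a ^ 2 * c' i j ^ 2 +
        (-(2 * a)) * ∑ x ∈ X, c' i x * (c' i j * c' j x) +
        ∑ x ∈ X, ∑ y ∈ X, (c' i x * c' i y) * (c' x j * c' j y) := fun j => by
      calc z j ^ 2 = a ^ 2 * c' i j ^ 2 + (-(2 * a)) * (c' i j * ∑ x ∈ X, c' i x * c' x j) +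
            (∑ x ∈ X, c' i x * c' x j) * (∑ x ∈ X, c' i x * c' x j) := by simp only [hz]; ring
        _ = _ := ?_
      rw [Finset.mul_sum (a := c' i j), Finset.sum_mul_sum]
      refine congrArg₂ _ (congrArg₂ _ rfl (congrArg _ ?_)) ?_
      · exact Finset.sum_congr rfl fun x _ => by rw [hc'.symm x j]; ring
      · exact Finset.sum_congr rfl fun x _ => Finset.sum_congr rfl fun y _ => by
          rw [hc'.symm y j]; ring
    have e2 : ∑ j, z j ^ 2 = a * Q * (a * c' i i - S i) := by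
      simp only [e1, Finset.sum_add_distrib, ← Finset.mul_sum, hc'.row]
      rw [Finset.sum_comm, Finset.sum_comm (s := Finset.univ) (t := X)]
      simp only [← Finset.mul_sum, hc'.mul]
      have h2 : ∀ x ∈ X, (∑ j, ∑ y ∈ X, (c' i x * c' i y) * (c' x j * c' j y)) =
          a * Q * c' i x ^ 2 := by
        intro x hx
        rw [Finset.sum_comm]
        simp only [← Finset.mul_sum, hc'.mul]
        rw [Finset.sum_eq_single x (fun y hy hne => by rw [hX2 x hx y hy (Ne.symm hne), mul_zero,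
          mul_zero]) (fun h => absurd hx h), hX1 x hx]
        ring
      rw [Finset.sum_congr rfl h2]
      simp only [hS, ← Finset.mul_sum]
      rw [Finset.sum_congr rfl (g := fun x => Q * c' i x ^ 2) (fun x _ => by ring), ← Finset.mul_sum]
      ring
    rw [e2] at h0
    have : 0 < a * Q := mul_pos ha (by rw [hQa]; linarith)
    nlinarith [nonneg_of_mul_nonneg_right h0 this]
  have hsum : ∑ i, S i = Q * a * X.card := by
    simp only [hS]
    rw [Finset.sum_comm, Finset.sum_congr rfl fun x hx => by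
      rw [show ∑ i, c' i x ^ 2 = ∑ i, c' x i ^ 2 from
        Finset.sum_congr rfl fun i _ => by rw [hc'.symm], hc'.row, hX1 x hx],
      Finset.sum_const, nsmul_eq_mul]
    ring
  have hpos : 0 < Q * a := mul_pos (by rw [hQa]; linarith) ha
  refine ⟨le_of_mul_le_mul_left ?_ hpos, fun o ho hXo => lt_of_mul_lt_mul_left ?_ hpos.le⟩
  · calc Q * a * (X.card : ℤ) = ∑ i, S i := hsum.symm
      _ ≤ ∑ i, a * c' i i := Finset.sum_le_sum fun i _ => hnn i
      _ = Q * a * l := by rw [← Finset.mul_sum, hl]; ring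
  · calc Q * a * (X.card : ℤ) = ∑ i, S i := hsum.symm
      _ < ∑ i, a * c' i i := Finset.sum_lt_sum (fun i _ => hnn i) ⟨o, Finset.mem_univ o, by
          rw [show S o = 0 from Finset.sum_eq_zero fun x hx => by
            rw [hc'.symm, hXo x hx]; norm_num]
          exact mul_pos ha ho⟩
      _ = Q * a * l := by rw [← Finset.mul_sum, hl]; ring

/-- With signs: the negative members carry half of the trace. -/
theorem sign_trace (hc : CType r Q c) (hQ : 0 < Q) {s : ι → ℤ} (hs : ∀ i, s i = 1 ∨ s i = -1)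
    (horth : ∀ i j, ∑ k, c i k * (s k * s j * c k j) = 0) :
    ∑ i, c i i = 2 * ∑ i ∈ Finset.univ.filter (fun i => s i = -1), c i i := by
  classical
  have hss : ∀ i, s i * s i = 1 := fun i => by rcases hs i with e | e <;> rw [e] <;> norm_num
  have h0 : ∀ i, ∑ k, s k * (c i k * c k i) = 0 := fun i => by
    have h := horth i i
    have e : ∀ k, c i k * (s k * s i * c k i) = s i * (s k * (c i k * c k i)) := fun k => by ring
    simp only [e, ← Finset.mul_sum] at h
    have h1 := congrArg (s i * ·) h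
    simpa [← mul_assoc, hss] using h1
  have h1 : ∑ k, s k * (Q * c k k) = 0 := by
    have : ∑ i, ∑ k, s k * (c i k * c k i) = 0 := Finset.sum_eq_zero fun i _ => h0 i
    rw [Finset.sum_comm] at this
    rw [← this]
    refine Finset.sum_congr rfl fun k _ => ?_
    rw [← Finset.mul_sum, ← hc.mul k k]
    exact congrArg _ (Finset.sum_congr rfl fun i _ => by ring)
  have h2 : ∑ k, s k * c k k = 0 := by
    have e : ∀ k, s k * (Q * c k k) = Q * (s k * c k k) := fun k => by ring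
    simp only [e, ← Finset.mul_sum] at h1
    exact (mul_eq_zero.1 h1).resolve_left hQ.ne'
  rw [← Finset.sum_filter_add_sum_filter_not Finset.univ (fun i => s i = -1),
    Finset.sum_congr rfl (g := fun k => -c k k) (fun k hk => by
      rw [(Finset.mem_filter.1 hk).2]; ring), Finset.sum_neg_distrib,
    Finset.sum_congr rfl (g := fun k => c k k) (s₁ := Finset.univ.filter fun i => ¬ s i = -1)
      (fun k hk => by rw [(hs k).resolve_right (Finset.mem_filter.1 hk).2, one_mul])] at h2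
  rw [← Finset.sum_filter_add_sum_filter_not Finset.univ (fun i => s i = -1)]
  linarith

end CType

/-- The vectors with the heights. -/
structure Graded (ι : Type*) [Fintype ι] (m : ℕ) where
  /-- the vectors -/
  v : Vecs ι (2 ^ (m - 1))
  /-- the reduced degrees -/
  r : ι → ℕ
  two_le : 2 ≤ m
  odd_iff : ∀ i, v.U i ≠ 0 ↔ ¬ 2 ∣ r i
  heightE : ∀ i e, v.IsE i e → 2 ∣ r i ∧ ¬ 4 ∣ r i
  heightO : ∀ i a, v.IsO i a → 2 ∣ r i ∧ ¬ 4 ∣ r i
  heightX : ∀ i, v.IsX i → 2 ^ m ∣ r i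

/-- The two projections. -/
structure Pair (ι : Type*) [Fintype ι] (m : ℕ) extends Graded ι m where
  /-- the first projection -/
  c : ι → ι → ℤ
  /-- the second projection -/
  c' : ι → ι → ℤ
  hc : CType r (4 * 2 ^ m) c
  hc' : CType r (4 * 2 ^ m) c'
  horth : ∀ i j, ∑ k, c i k * c' k j = 0
  orthU : ∀ i, ∑ k, c i k * v.U k = 0 ∧ ∑ k, c' i k * v.U k = 0
  orthP : ∀ i e, ∑ k, c i k * v.P e k = 0 ∧ ∑ k, c' i k * v.P e k = 0
  orthW : ∀ i a b, ∑ k, c i k * (v.w a k - v.w b k) = 0 ∧ ∑ k, c' i k * (v.w a k - v.w b k) = 0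

namespace Pair

variable {m : ℕ} (p : Pair ι m)

include p in
theorem Q_pos : (0 : ℤ) < 4 * 2 ^ m := by positivity

include p in
theorem half : 2 * 2 ^ (m - 1) = 2 ^ m := by
  rw [← pow_succ', Nat.sub_add_cancel (le_trans one_le_two p.two_le)]

include p in
theorem half_cast : ((2 : ℤ) ^ m) = 2 * ((2 ^ (m - 1) : ℕ) : ℤ) := by exact_mod_cast p.half.symm

/-- The support of `U`. -/
noncomputable def T : Finset ι := by
  classical
  exact Finset.univ.filter fun i => p.v.U i ≠ 0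

theorem mem_T {i : ι} : i ∈ p.T ↔ p.v.U i ≠ 0 := by simp [T]

theorem card_T : p.T.card = 4 := by
  rw [← p.v.card_supp]
  congr 1

theorem extra {x : ι} (hx : p.v.IsX x) :
    p.c x x = 2 * 2 ^ m ∧ p.c' x x = 2 * 2 ^ m ∧ (∀ j, j ≠ x → p.c x j + p.c' x j = 0) ∧
      ∀ y, y ≠ x → p.v.U y = 0 → p.c x y = 0 ∧ p.c' x y = 0 := by
  obtain ⟨h1, h2, h3, h4⟩ := CType.extra p.hc p.hc' (by have := p.two_le; omega) rfl p.horth p.card_T
    (fun j hj => (p.odd_iff j).1 (p.mem_T.1 hj)) (p.heightX x hx)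
  exact ⟨h1, h2, h3, fun y hy hy' => h4 y hy (fun h => p.mem_T.1 h hy')⟩

/-- In the exceptional cases every member meets the vectors. -/
theorem no_extra {V : ι → ℤ} {i₀ : ι} (hU : p.v.U i₀ ≠ 0) (hN : 0 < ∑ i, V i * V i)
    (hb : 8 * ((2 ^ (m - 1) : ℕ) : ℤ) * (∑ i, V i * V i - V i₀ ^ 2) ≤ 2 * ∑ i, V i * V i)
    (horth : ∀ y : ι → ℤ, ∑ i, y i * p.v.U i = 0 → (∀ e, ∑ i, y i * p.v.P e i = 0) →
      (∀ a b, ∑ i, y i * (p.v.w a i - p.v.w b i) = 0) → ∑ i, y i * V i = 0)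
    (x : ι) : ¬ p.v.IsX x := by
  classical
  intro hx
  have h := CType.bessel p.hc p.hc' p.Q_pos p.horth V hN i₀ rfl (fun _ =>
    ⟨horth _ (p.orthU i₀).1 (fun e => (p.orthP i₀ e).1) (fun a b => (p.orthW i₀ a b).1),
      horth _ (p.orthU i₀).2 (fun e => (p.orthP i₀ e).2) (fun a b => (p.orthW i₀ a b).2)⟩)
  have h8 : (8 : ℤ) * ((2 ^ (m - 1) : ℕ) : ℤ) = 4 * 2 ^ m := by
    rw [p.half_cast]; ring
  rw [h8] at hb
  have h0 : ¬ 2 ∣ p.r i₀ := (p.odd_iff i₀).1 hU
  have h1 := p.hc.diag_pos p.Q_pos (i := i₀) h0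
  have h2 := p.hc'.diag_pos p.Q_pos (i := i₀) h0
  have hle : p.c i₀ i₀ + p.c' i₀ i₀ ≤ 2 := by nlinarith [h.1]
  have hc1 : p.c i₀ i₀ = 1 := by omega
  have hrow := p.hc.row i₀
  obtain ⟨t, ht⟩ := p.hc.dvd x i₀ m h0 (p.heightX x hx)
  have ht0 : t ≠ 0 := fun e => p.hc.ne x i₀ h0 (by rw [ht, e, mul_zero])
  have hxT : x ∉ p.T := fun hh => p.mem_T.1 hh hx.1
  have hbig : ((2 : ℤ) ^ m) ^ 2 + 4 ≤ ∑ k, p.c i₀ k ^ 2 := by
    refine le_trans ?_ (Finset.sum_le_sum_of_subset_of_nonneg (Finset.subset_univ (insert x p.T))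
      fun k _ _ => sq_nonneg _)
    rw [Finset.sum_insert hxT]
    refine add_le_add ?_ ?_
    · rw [p.hc.symm, ht, mul_pow]
      exact le_mul_of_one_le_right (sq_nonneg _)
        (Int.add_one_le_iff.2 (lt_of_le_of_ne (sq_nonneg t) (pow_ne_zero 2 ht0).symm))
    · calc (4 : ℤ) = ∑ _j ∈ p.T, 1 := by simp [p.card_T]
        _ ≤ ∑ j ∈ p.T, p.c i₀ j ^ 2 := Finset.sum_le_sum fun j hj =>
          Int.add_one_le_iff.2 (lt_of_le_of_ne (sq_nonneg _)
            (pow_ne_zero 2 (p.hc.ne i₀ j ((p.odd_iff j).1 (p.mem_T.1 hj)))).symm)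
  rw [hrow, hc1] at hbig
  have hm4 : (4 : ℤ) ≤ 2 ^ m := by
    calc (4 : ℤ) = 2 ^ 2 := by norm_num
      _ ≤ 2 ^ m := pow_le_pow_right₀ (by norm_num) p.two_le
  nlinarith

/-- The members outside all the vectors. -/
noncomputable def X : Finset ι := by
  classical
  exact Finset.univ.filter p.v.IsX

theorem mem_X {i : ι} : i ∈ p.X ↔ p.v.IsX i := by simp [X]

/-- The general shape of the block. -/
structure Shape where
  /-- the members of the even classes -/
  Le : Fin (2 ^ (m - 1) - 1) → ι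
  /-- the members of the odd classes -/
  Lo : Fin (2 ^ (m - 1)) → ι
  injE : Function.Injective Le
  injO : Function.Injective Lo
  isE : ∀ e, p.v.IsE (Le e) e
  isO : ∀ a, p.v.IsO (Lo a) a
  cases : ∀ i, p.v.U i ≠ 0 ∨ (∃ e, i = Le e) ∨ (∃ a, i = Lo a) ∨ p.v.IsX i

/-- The members are four, the even and the odd ones, and the others. -/
theorem Shape.card (S : p.Shape) :
    Fintype.card ι = 4 + (2 ^ m - 1) + p.X.card ∧
      (Finset.univ.filter fun i => 2 ∣ p.r i ∧ ¬ 4 ∣ p.r i).card = 2 ^ m - 1 := by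
  classical
  haveI : Nontrivial (Fin (2 ^ (m - 1))) := Fin.nontrivial_iff_two_le.2 (by
    rcases p.v.hh with h | h <;> omega)
  set E := Finset.univ.image S.Le
  set O := Finset.univ.image S.Lo
  have hm4 : 4 ∣ 2 ^ m := pow_dvd_pow 2 p.two_le
  have hEO : Disjoint E O := Finset.disjoint_left.2 fun i hi hi' => by
    obtain ⟨e, -, rfl⟩ := Finset.mem_image.1 hi
    obtain ⟨a, -, ha⟩ := Finset.mem_image.1 hi'
    have h1 := (S.isE e).2.1
    rw [← ha, (S.isO a).2.1 e] at h1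
    omega
  have hθ : ∀ i ∈ E ∪ O, 2 ∣ p.r i ∧ ¬ 4 ∣ p.r i := by
    intro i hi
    rcases Finset.mem_union.1 hi with h | h
    · obtain ⟨e, -, rfl⟩ := Finset.mem_image.1 h
      exact p.heightE _ e (S.isE e)
    · obtain ⟨a, -, rfl⟩ := Finset.mem_image.1 h
      exact p.heightO _ a (S.isO a)
  have hmid : (Finset.univ.filter fun i => 2 ∣ p.r i ∧ ¬ 4 ∣ p.r i) = E ∪ O := by
    ext i
    simp only [Finset.mem_filter, Finset.mem_univ, true_and]
    refine ⟨fun h => ?_, hθ i⟩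
    rcases S.cases i with h' | ⟨e, rfl⟩ | ⟨a, rfl⟩ | h'
    · exact absurd h.1 ((p.odd_iff i).1 h')
    · exact Finset.mem_union_left _ (Finset.mem_image_of_mem _ (Finset.mem_univ e))
    · exact Finset.mem_union_right _ (Finset.mem_image_of_mem _ (Finset.mem_univ a))
    · exact absurd (hm4.trans (p.heightX i h')) h.2
  have hcard : (E ∪ O).card = 2 ^ m - 1 := by
    rw [Finset.card_union_of_disjoint hEO, Finset.card_image_of_injective _ S.injE,
      Finset.card_image_of_injective _ S.injO, Finset.card_univ, Finset.card_univ,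
      Fintype.card_fin, Fintype.card_fin, ← p.half]
    have := Nat.two_pow_pos (m - 1)
    omega
  refine ⟨?_, hmid ▸ hcard⟩
  have hd1 : Disjoint p.T (E ∪ O) := Finset.disjoint_left.2 fun i hi hi' =>
    (p.odd_iff i).1 (p.mem_T.1 hi) (hθ i hi').1
  have hd2 : Disjoint (p.T ∪ (E ∪ O)) p.X := Finset.disjoint_left.2 fun i hi hi' => by
    rcases Finset.mem_union.1 hi with h | h
    · exact p.mem_T.1 h (p.mem_X.1 hi').1
    · exact (hθ i h).2 (hm4.trans (p.heightX i (p.mem_X.1 hi')))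
  have huniv : (Finset.univ : Finset ι) = p.T ∪ (E ∪ O) ∪ p.X := by
    ext i
    simp only [Finset.mem_univ, Finset.mem_union, true_iff]
    rcases S.cases i with h' | ⟨e, rfl⟩ | ⟨a, rfl⟩ | h'
    · exact Or.inl (Or.inl (p.mem_T.2 h'))
    · exact Or.inl (Or.inr (Or.inl (Finset.mem_image_of_mem _ (Finset.mem_univ e))))
    · exact Or.inl (Or.inr (Or.inr (Finset.mem_image_of_mem _ (Finset.mem_univ a))))
    · exact Or.inr (p.mem_X.2 h')
  rw [← Finset.card_univ, huniv, Finset.card_union_of_disjoint hd2,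
    Finset.card_union_of_disjoint hd1, p.card_T, hcard]

/-- Either the general shape, or a small exception. -/
theorem shape_or_small : Nonempty p.Shape ∨
    (Fintype.card ι ≤ 2 * 2 ^ (m - 1) + 1 ∧
      (2 ^ (m - 1) = 2 → ∃ i a b, p.v.U i ≠ 0 ∧ p.v.w a i ≠ p.v.w b i) ∧
      (2 ^ (m - 1) = 4 → ∃ L, p.v.U L = 0 ∧ ∀ i, p.v.U i = 0 → i ≠ L → ∀ e, p.v.P e i = 0) ∧
      (2 ^ (m - 1) = 2 ∨ 2 ^ (m - 1) = 4) ∧ ∀ x, ¬ p.v.IsX x) := by
  classical
  rcases p.v.structure_thm with ⟨Le, Lo, h1, h2, h3, h4, h5⟩ |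
      ⟨hh, hcard, h2, h4, V, i₀, hU, hN, hb, horth⟩
  · exact Or.inl ⟨⟨Le, Lo, h1, h2, h3, h4, h5⟩⟩
  · right
    have hx := p.no_extra hU hN hb horth
    refine ⟨le_trans (le_of_eq ?_) hcard, h2, h4, hh, hx⟩
    rw [← Finset.card_univ]
    congr 1
    exact (Finset.eq_univ_iff_forall.2 fun i => by simp [Vecs.core, hx i]).symm

/-- The members of large height are fewer than the rank at the second projection. -/
theorem Shape.card_X_lt (S : p.Shape) {l : ℕ} (hl : ∑ i, p.c' i i = 4 * 2 ^ m * l) :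
    p.X.card < l := by
  have h := CType.card_le p.hc' (a := 2 * 2 ^ m) (by positivity) (by ring) (X := p.X)
    (fun x hx => (p.extra (p.mem_X.1 hx)).2.1)
    (fun x hx y hy hne => ((p.extra (p.mem_X.1 hx)).2.2.2 y (Ne.symm hne) (p.mem_X.1 hy).1).2) hl
  set o := S.Lo ⟨0, Nat.two_pow_pos _⟩
  have ho := S.isO ⟨0, Nat.two_pow_pos _⟩
  obtain ⟨j, hj⟩ : p.T.Nonempty := Finset.card_pos.1 (by rw [p.card_T]; norm_num)
  exact_mod_cast h.2 o (p.hc'.diag_pos p.Q_pos ((p.odd_iff j).1 (p.mem_T.1 hj))) fun x hx =>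
    ((p.extra (p.mem_X.1 hx)).2.2.2 o (fun e => by
      have h4 := (p.heightO o _ ho).2
      exact h4 ((pow_dvd_pow 2 p.two_le).trans (p.heightX o (e ▸ p.mem_X.1 hx)))) ho.1).2

/-- The diagonal at the member of an odd class. -/
theorem Shape.diag_odd (S : p.Shape) (a : Fin (2 ^ (m - 1))) :
    p.c (S.Lo a) (S.Lo a) = 4 := by
  classical
  obtain ⟨hU, hP, s, hs, hsb⟩ := S.isO a
  have hh2 : 2 ≤ 2 ^ (m - 1) := by rcases p.v.hh with e | e <;> omega
  set O := Finset.univ.erase a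
  set V : ι → ℤ := fun k => ∑ b ∈ O, (p.v.w a k - p.v.w b k) with hV
  have hcard : (O.card : ℤ) = ((2 ^ (m - 1) : ℕ) : ℤ) - 1 := by
    simp only [O, Finset.card_erase_of_mem (Finset.mem_univ a), Finset.card_univ, Fintype.card_fin]
    omega
  have hNN : ∑ k, V k * V k = ((2 ^ (m - 1) : ℕ) : ℤ) * (((2 ^ (m - 1) : ℕ) : ℤ) - 1) := by
    simp only [hV, Finset.sum_mul_sum]
    rw [Finset.sum_comm]
    have e1 : ∀ b ∈ O, ∑ k, ∑ d ∈ O, (p.v.w a k - p.v.w b k) * (p.v.w a k - p.v.w d k) = ((2 ^ (m - 1) : ℕ) : ℤ) := by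
      intro b hb
      have hba : b ≠ a := (Finset.mem_erase.1 hb).1
      rw [Finset.sum_comm, Finset.sum_congr rfl (g := fun d => 1 + (if b = d then (1 : ℤ) else 0))
        (fun d hd => by
          rw [p.v.WW, if_neg hba, if_neg (Finset.mem_erase.1 hd).1.symm, if_pos rfl]; ring),
        Finset.sum_add_distrib, Finset.sum_const, Finset.sum_ite_eq, if_pos hb, nsmul_eq_mul, hcard]
      ring
    rw [Finset.sum_congr rfl e1, Finset.sum_const, nsmul_eq_mul, hcard]
    ring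
  have hVa : V (S.Lo a) = (((2 ^ (m - 1) : ℕ) : ℤ) - 1) * s := by
    simp only [hV]
    rw [Finset.sum_congr rfl (g := fun _ => s) (fun b hb => by
      rw [hsb b (Finset.mem_erase.1 hb).1]; ring), Finset.sum_const, nsmul_eq_mul, hcard]
  have hor : ∀ {y : ι → ℤ}, (∀ a b, ∑ i, y i * (p.v.w a i - p.v.w b i) = 0) →
      ∑ k, y k * V k = 0 := fun {y} hy => by
    simp only [hV, Finset.mul_sum]
    rw [Finset.sum_comm]
    exact Finset.sum_eq_zero fun b _ => hy a b
  have hs1 : s * s = 1 := by rcases hs with e | e <;> rw [e] <;> norm_num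
  have hNpos : (0 : ℤ) < ((2 ^ (m - 1) : ℕ) : ℤ) * (((2 ^ (m - 1) : ℕ) : ℤ) - 1) := mul_pos (by omega) (by omega)
  have hb := (CType.bessel p.hc p.hc' p.Q_pos p.horth V (hNN ▸ hNpos) (S.Lo a) rfl (fun _ =>
    ⟨hor (fun a b => (p.orthW _ a b).1), hor (fun a b => (p.orthW _ a b).2)⟩)).1
  rw [hVa, hNN, p.half_cast] at hb
  obtain ⟨j, hj⟩ : p.T.Nonempty := Finset.card_pos.1 (by rw [p.card_T]; norm_num)
  have hj' := (p.odd_iff j).1 (p.mem_T.1 hj)
  have h2r := (p.heightO _ a (S.isO a)).1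
  have hd := p.hc.dvd_diag (S.Lo a) 1 one_pos (by rwa [pow_one])
  have hd' := p.hc'.dvd_diag (S.Lo a) 1 one_pos (by rwa [pow_one])
  have hp := p.hc.diag_pos p.Q_pos (i := S.Lo a) hj'
  have hp' := p.hc'.diag_pos p.Q_pos (i := S.Lo a) hj'
  norm_num at hd hd'
  have hle : p.c (S.Lo a) (S.Lo a) + p.c' (S.Lo a) (S.Lo a) ≤ 8 := by
    refine le_of_mul_le_mul_left ?_ hNpos
    linear_combination hb - 8 * ((2 ^ (m - 1) : ℕ) : ℤ) * (((2 ^ (m - 1) : ℕ) : ℤ) - 1) ^ 2 * hs1
  omega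

/-- With signs on the members: the rank at the first projection. -/
theorem Shape.rank_eq (S : p.Shape) {s : ι → ℤ} (hs : ∀ i, s i = 1 ∨ s i = -1)
    (hc's : ∀ i j, p.c' i j = s i * s j * p.c i j) (hsU : ∀ i, p.v.U i ≠ 0 → s i = 1)
    (hsP : ∀ i e, p.v.P e i ≠ 0 → s i = 1) (hsW : ∀ i a b, p.v.w a i ≠ p.v.w b i → s i = -1)
    {l : ℕ} (hl : ∑ i, p.c i i = 4 * 2 ^ m * l) : l = 1 + p.X.card := by
  classical
  haveI : Nontrivial (Fin (2 ^ (m - 1))) := Fin.nontrivial_iff_two_le.2 (by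
    rcases p.v.hh with h | h <;> omega)
  have ht := p.hc.sign_trace p.Q_pos hs (fun i j => by simp only [← hc's]; exact p.horth i j)
  obtain ⟨j, hj⟩ : p.T.Nonempty := Finset.card_pos.1 (by rw [p.card_T]; norm_num)
  have hX : ∀ x, p.v.IsX x → s x = -1 := by
    intro x hx
    have hjx : j ≠ x := fun e => p.mem_T.1 hj (e ▸ hx.1)
    have h1 := (p.extra hx).2.2.1 j hjx
    rw [hc's x j, hsU j (p.mem_T.1 hj), mul_one] at h1
    have hne := p.hc.ne x j ((p.odd_iff j).1 (p.mem_T.1 hj))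
    rcases hs x with e | e
    · rw [e, one_mul] at h1; omega
    · exact e
  have hneg : (Finset.univ.filter fun i => s i = -1) = Finset.univ.image S.Lo ∪ p.X := by
    ext i
    simp only [Finset.mem_filter, Finset.mem_univ, true_and, Finset.mem_union]
    constructor
    · intro hi
      rcases S.cases i with h' | ⟨e, rfl⟩ | ⟨a, rfl⟩ | h'
      · have h1 := hsU i h'
        exfalso; omega
      · have h1 := (S.isE e).2.1
        have h2 := hsP (S.Le e) e (by omega)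
        exfalso; omega
      · exact Or.inl (Finset.mem_image_of_mem _ (Finset.mem_univ a))
      · exact Or.inr (p.mem_X.2 h')
    · rintro (h | h)
      · obtain ⟨a, -, rfl⟩ := Finset.mem_image.1 h
        obtain ⟨b, hb⟩ := exists_ne a
        obtain ⟨-, -, t, ht', htb⟩ := S.isO a
        exact hsW _ a b (by rw [htb b hb]; omega)
      · exact hX i (p.mem_X.1 h)
  have hdis : Disjoint (Finset.univ.image S.Lo) p.X := Finset.disjoint_left.2 fun i hi hi' => by
    obtain ⟨a, -, rfl⟩ := Finset.mem_image.1 hi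
    exact (p.heightO _ a (S.isO a)).2
      ((pow_dvd_pow 2 p.two_le).trans (p.heightX _ (p.mem_X.1 hi')))
  rw [hl, hneg, Finset.sum_union hdis, Finset.sum_image (fun a _ b _ e => S.injO e),
    Finset.sum_congr rfl (fun a _ => Shape.diag_odd p S a),
    Finset.sum_congr rfl (fun x hx => (p.extra (p.mem_X.1 hx)).1), Finset.sum_const,
    Finset.sum_const, Finset.card_univ, Fintype.card_fin, nsmul_eq_mul, nsmul_eq_mul,
    p.half_cast] at ht
  have hpos : (0 : ℤ) < ((2 ^ (m - 1) : ℕ) : ℤ) := by exact_mod_cast Nat.two_pow_pos (m - 1)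
  have : ((2 ^ (m - 1) : ℕ) : ℤ) * ((l : ℤ) - 1 - (p.X.card : ℤ)) = 0 := by linarith
  rcases mul_eq_zero.1 this with e | e <;> omega

/-- With signs and in the exceptional case there are few positive members. -/
theorem small_sign {s : ι → ℤ} (hsP : ∀ i e, p.v.P e i ≠ 0 → s i = 1)
    (hsW : ∀ i a b, p.v.w a i ≠ p.v.w b i → s i = -1)
    (hsU : ∀ i, p.v.U i ≠ 0 → s i = 1) (hX : ∀ x, ¬ p.v.IsX x)
    {L : ι} (hL : ∀ i, p.v.U i = 0 → i ≠ L → ∀ e, p.v.P e i = 0) :
    (Finset.univ.filter fun i => s i = 1).card ≤ 5 := by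
  classical
  have hsub : (Finset.univ.filter fun i => s i = 1) ⊆ insert L p.T := by
    intro i hi
    have hi1 := (Finset.mem_filter.1 hi).2
    by_contra hcon
    simp only [Finset.mem_insert, p.mem_T, not_or, not_not] at hcon
    refine hX i ⟨hcon.2, hL i hcon.2 hcon.1, fun a b => ?_⟩
    by_contra hne
    rw [hsW i a b hne] at hi1
    omega
  exact (Finset.card_le_card hsub).trans ((Finset.card_insert_le _ _).trans (by rw [p.card_T]))

end Pair

end CfsgLib.QuatDefect
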