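import Cfsg.Agent.Lib.QuatDefect.Local
import Cfsg.Agent.Lib.QuatDefect.Rows
import Cfsg.Agent.Lib.DihedralBlk.Model

/-!
# The integral vectors of a block from the characters induced from the cyclic subgroup
-/

set_option autoImplicit false
set_option linter.unusedSectionVars false
set_option linter.unusedSimpArgs false

namespace CfsgLib.QuatDefect

open Cfsg CfsgLib.Blocks CfsgLib.Characters CfsgLib.Contribution
open scoped Classical ComplexConjugate

universe u

/-- The inner product of two differences. -/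
theorem classInner_sub_sub {Q : Type*} [Group Q] [Fintype Q] (f g f' g' : Q → ℂ) :
    classInner (fun p => f p - g p) (fun p => f' p - g' p) =
      classInner f f' - classInner f g' - (classInner g f' - classInner g g') := by
  simp only [classInner, map_sub, sub_mul, mul_sub, Finset.sum_sub_distrib]
  ring

namespace QD

variable {G : Type u} [Group G] {D : Subgroup G} {m : ℕ} (S : QD D m)

/-- The action on the exponents. -/
abbrev α : ZMod (2 * 2 ^ m) := (S.a : ZMod (2 * 2 ^ m))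

/-- The exponent `2 ^ m`. -/
def half (m : ℕ) : ZMod (2 * 2 ^ m) := ((2 ^ m : ℕ) : ZMod (2 * 2 ^ m))

/-- The even exponents, up to the action. -/
def ev (m : ℕ) (e : Fin (2 ^ (m - 1) - 1)) : ZMod (2 * 2 ^ m) :=
  ((2 * ((e : ℕ) + 1) : ℕ) : ZMod (2 * 2 ^ m))

/-- The odd exponents, up to the action. -/
def od (m : ℕ) (a : Fin (2 ^ (m - 1))) : ZMod (2 * 2 ^ m) :=
  ((1 + 4 * (a : ℕ) : ℕ) : ZMod (2 * 2 ^ m))

include S in
theorem eq_iff_nat {i j : ℕ} (hi : i < 2 * 2 ^ m) (hj : j < 2 * 2 ^ m) :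
    (i : ZMod (2 * 2 ^ m)) = (j : ZMod (2 * 2 ^ m)) ↔ i = j := by
  rw [ZMod.natCast_eq_natCast_iff', Nat.mod_eq_of_lt hi, Nat.mod_eq_of_lt hj]

include S in
theorem half_ne_zero : half m ≠ 0 := by
  rw [half, Ne, ← Nat.cast_zero, S.eq_iff_nat (by have := Nat.two_pow_pos m; omega) (by positivity)]
  positivity

/-- The parity. -/
def par (m : ℕ) : ZMod (2 * 2 ^ m) →+* ZMod 2 := ZMod.castHom (dvd_mul_right 2 _) _

/-- The residue modulo four. -/
def res4 {m : ℕ} (hm : 1 ≤ m) : ZMod (2 * 2 ^ m) →+* ZMod 4 :=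
  ZMod.castHom (⟨2 ^ (m - 1), by rw [← Nat.sub_add_cancel hm, pow_succ]; simp; ring⟩) _

theorem res4_α : res4 S.one_le S.α = -1 := by
  rw [α, map_intCast]
  rcases S.a_eq with h | ⟨hm, h⟩ <;> rw [h]
  · push_cast; rfl
  · push_cast
    rw [show (2 : ZMod 4) ^ m = 0 by
      rw [show m = (m - 2) + 2 by omega, pow_add]
      exact mul_eq_zero_of_right _ (by decide)]
    decide

theorem par_α : par m S.α = 1 := by
  rw [α, map_intCast]
  rcases S.a_eq with h | ⟨hm, h⟩ <;> rw [h]
  · push_cast; decide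
  · push_cast
    rw [show (2 : ZMod 2) = 0 by decide, zero_pow (by omega)]
    decide

theorem ev_facts (e f : Fin (2 ^ (m - 1) - 1)) :
    (ev m e = ev m f ↔ e = f) ∧ ev m e ≠ 0 ∧ ev m e ≠ half m ∧ ev m e ≠ S.α * ev m f ∧
      par m (ev m e) = 0 := by
  have h2 := S.two_mul_half
  have he := e.2
  have hf := f.2
  refine ⟨?_, ?_, ?_, ?_, ?_⟩
  · rw [ev, ev, S.eq_iff_nat (by omega) (by omega), Fin.ext_iff]
    omega
  · rw [ev, ← Nat.cast_zero, Ne, S.eq_iff_nat (by omega) (by omega)]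
    omega
  · rw [ev, half, Ne, S.eq_iff_nat (by omega) (by omega)]
    omega
  · intro h
    have hneg : S.α * ev m f = -ev m f := by
      rcases S.a_eq with ha | ⟨hm, ha⟩ <;> rw [α, ha]
      · push_cast; ring
      · have h0 := cast_two_pow_eq_zero (m := m)
        simp only [ev] at *
        push_cast at h0 ⊢
        linear_combination (((f : ℕ) : ZMod (2 * 2 ^ m)) + 1) * h0
    rw [hneg, eq_neg_iff_add_eq_zero, ev, ev, ← Nat.cast_add, ← Nat.cast_zero,
      S.eq_iff_nat (by omega) (by omega)] at h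
    omega
  · rw [ev, map_natCast, ZMod.natCast_eq_zero_iff]
    exact dvd_mul_right 2 _

theorem od_facts (a b : Fin (2 ^ (m - 1))) :
    (od m a = od m b ↔ a = b) ∧ od m a ≠ S.α * od m b ∧ par m (od m a) = 1 ∧
      par m (S.α * od m a) = 1 := by
  have h2 := S.two_mul_half
  have he := a.2
  have hf := b.2
  have hp : par m (od m a) = 1 := by
    rw [od, map_natCast, Nat.cast_add, Nat.cast_mul, show ((4 : ℕ) : ZMod 2) = 0 by decide]
    simp
  refine ⟨?_, ?_, hp, by rw [map_mul, S.par_α, hp, one_mul]⟩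
  · rw [od, od, S.eq_iff_nat (by omega) (by omega), Fin.ext_iff]
    omega
  · intro h
    have h4 := congrArg (res4 S.one_le) h
    rw [map_mul, S.res4_α, od, od, map_natCast, map_natCast, Nat.cast_add, Nat.cast_add,
      Nat.cast_mul, Nat.cast_mul, show ((4 : ℕ) : ZMod 4) = 0 by decide] at h4
    simp only [Nat.cast_one, zero_mul, add_zero] at h4
    exact absurd h4 (by decide)

include S in
theorem par_half : par m (half m) = 0 := by
  rw [half, map_natCast, ZMod.natCast_eq_zero_iff]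
  exact dvd_pow_self 2 (by have := S.one_le; omega)

theorem α_mul_eq_iff (x y : ZMod (2 * 2 ^ m)) : S.α * x = y ↔ x = S.α * y :=
  ⟨fun h => by rw [← h, ← mul_assoc, S.a_sq, one_mul],
    fun h => by rw [h, ← mul_assoc, S.a_sq, one_mul]⟩

end QD

variable {G : Type u} [Group G] [Fintype G] [Fact (Nat.Prime 2)] {M : Ideal AlgInt} [M.IsMaximal]
  {hM : IsPModular 2 M} {B : Set (IrrCharacter G)} {D : Subgroup G} {m : ℕ} {S : QD D m}

namespace Loc

open QD

variable (L : Loc hM B S)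

/-- The induced characters on the defect group of the local block. -/
noncomputable def pairP (j : ZMod (2 * 2 ^ m)) : Pd D S → ℂ :=
  fun p => S.pair j ((p : S.H) : G)

theorem isCharacter_pairP (j : ZMod (2 * 2 ^ m)) : IsCharacter (Pd D S) (pairP j) := by
  refine S.isCharacter_pair (S.H.subtype.comp (Pd D S).subtype)
    (S.H.subtype_injective.comp (Pd D S).subtype_injective) ?_ j
  rw [MonoidHom.range_comp, Subgroup.range_subtype]
  exact Subgroup.map_subgroupOf_eq_of_le S.D_le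

theorem isClassFunction_pairP (j : ZMod (2 * 2 ^ m)) : IsClassFunction (Pd D S) (pairP j) :=
  isClassFunction_of_isCharacter (isCharacter_pairP j)

/-- The element of the defect group of the local block at a rotation. -/
def rotP (s : ZMod (2 * 2 ^ m)) : Pd D S := ⟨⟨S.rot s, S.D_le (S.rot_mem s)⟩, S.rot_mem s⟩

theorem pairP_rotP (j s : ZMod (2 * 2 ^ m)) : pairP j (rotP (S := S) s) =
    ZMod.stdAddChar (j * s) + ZMod.stdAddChar (S.α * j * s) := S.pair_rot j s

theorem rotP_cases (p : Pd D S) :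
    (∃ s, p = rotP s) ∨ ((∀ s, p ≠ rotP s) ∧ ∀ j, pairP j p = 0) := by
  obtain ⟨s, h | h⟩ := S.exists_elem (g := ((p : S.H) : G)) p.2
  · exact Or.inl ⟨s, Subtype.ext (Subtype.ext h)⟩
  · refine Or.inr ⟨fun r hr => S.rot_ne_τ r s ?_, fun j => ?_⟩
    · rw [← h, hr]; rfl
    · rw [pairP, h, S.pair_outside]

theorem classInner_pairP (i k : ZMod (2 * 2 ^ m)) :
    classInner (pairP (S := S) i) (pairP k) =
      (if i = k then 1 else 0) + (if i = S.α * k then 1 else 0) := by
  have hN : ((2 * 2 ^ m : ℕ) : ℂ) ≠ 0 := Nat.cast_ne_zero.2 (by positivity)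
  haveI : NeZero (2 * 2 ^ m) := ⟨by positivity⟩
  rw [classInner, ← Fintype.sum_of_injective (rotP (S := S))
    (fun s t h => S.rot_inj (congrArg (fun p : Pd D S => ((p : S.H) : G)) h))
    (fun s => pairP i (rotP (S := S) s) * conj (pairP k (rotP (S := S) s))) _
    (fun p hp => by
      rcases rotP_cases p with ⟨s, rfl⟩ | ⟨-, h⟩
      · exact absurd ⟨s, rfl⟩ hp
      · rw [h, zero_mul]) (fun s => rfl), card_P]
  simp only [pairP_rotP, map_add, DihedralBlk.conj_stdAddChar, add_mul, mul_add,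
    ← AddChar.map_add_eq_mul, Finset.sum_add_distrib]
  have e : ∀ x y : ZMod (2 * 2 ^ m), ∑ s, (ZMod.stdAddChar (x * s + -(y * s)) : ℂ) =
      if x = y then ((2 * 2 ^ m : ℕ) : ℂ) else 0 := fun x y => by
    rw [Finset.sum_congr rfl (fun s _ => show (ZMod.stdAddChar (x * s + -(y * s)) : ℂ) =
      ZMod.stdAddChar ((x - y) * s) by ring_nf), DihedralBlk.sum_stdAddChar]
    exact if_congr sub_eq_zero rfl rfl
  simp only [e]
  have e1 : S.α * i = k ↔ i = S.α * k := S.α_mul_eq_iff i k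
  have e2 : S.α * i = S.α * k ↔ i = k := by
    rw [S.α_mul_eq_iff, ← mul_assoc, S.a_sq, one_mul]
  simp only [e1, e2]
  push_cast at hN ⊢
  split_ifs <;> field_simp <;> ring

theorem isRot_sub {i j : ZMod (2 * 2 ^ m)} (h : par m i = par m j) :
    IsRot (S := S) (fun p => pairP i p - pairP j p) := by
  refine ⟨fun a b => by simp only [isClassFunction_pairP i a b, isClassFunction_pairP j a b],
    fun p hp => ?_⟩
  rcases rotP_cases p with ⟨s, rfl⟩ | ⟨-, h0⟩
  · refine ⟨s, fun hs => hp ?_, rfl⟩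
    have key : (i - j) * s = 0 := by
      rcases two_torsion (s := s) (by rw [← two_mul]; exact hs) with rfl | rfl
      · exact mul_zero _
      · have h1 : par m (i - j) = 0 := by rw [map_sub, h, sub_self]
        haveI : NeZero (2 * 2 ^ m) := ⟨by positivity⟩
        rw [← ZMod.natCast_zmod_val (i - j), map_natCast, ZMod.natCast_eq_zero_iff] at h1
        obtain ⟨k, hk⟩ := h1
        rw [← ZMod.natCast_zmod_val (i - j), hk, ← Nat.cast_mul, ZMod.natCast_eq_zero_iff]
        exact ⟨k, by ring⟩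
    rw [pairP_rotP, pairP_rotP, show i * s = j * s by linear_combination key,
      show S.α * i * s = S.α * j * s by linear_combination S.α * key, sub_self]
  · exact absurd (by rw [h0, h0, sub_self]) hp

/-- The coefficients. -/
noncomputable def mj (j : ZMod (2 * 2 ^ m)) (χ : IrrCharacter G) : ℤ :=
  ((L.exists_T_nat (isCharacter_pairP (S := S) j) χ).choose : ℤ)

theorem mj_spec (j : ZMod (2 * 2 ^ m)) (χ : IrrCharacter G) :
    (L.mj j χ : ℂ) = L.T (pairP j) χ := by
  rw [mj, Int.cast_natCast]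
  exact (L.exists_T_nat (isCharacter_pairP (S := S) j) χ).choose_spec.symm

theorem mj_α (j : ZMod (2 * 2 ^ m)) (χ : IrrCharacter G) : L.mj (S.α * j) χ = L.mj j χ := by
  have h : pairP (S := S) (S.α * j) = pairP j := by
    funext p
    rcases rotP_cases p with ⟨s, rfl⟩ | ⟨-, h0⟩
    · rw [pairP_rotP, pairP_rotP, ← mul_assoc S.α S.α, S.a_sq, one_mul, add_comm]
    · rw [h0, h0]
  rw [← Int.cast_inj (α := ℂ), mj_spec, mj_spec, h]

/-- The differences. -/
noncomputable def dl (i j : ZMod (2 * 2 ^ m)) (χ : IrrCharacter G) : ℤ := L.mj i χ - L.mj j χ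

theorem dl_spec (i j : ZMod (2 * 2 ^ m)) (χ : IrrCharacter G) :
    (L.dl i j χ : ℂ) = L.T (fun p => pairP i p - pairP j p) χ := by
  rw [L.T_sub (isClassFunction_pairP i) (isClassFunction_pairP j), ← mj_spec, ← mj_spec, dl]
  push_cast; rfl

theorem dl_eq_zero {i j : ZMod (2 * 2 ^ m)} (h : par m i = par m j) {χ : IrrCharacter G}
    (hχ : χ ∉ B) : L.dl i j χ = 0 := by
  rw [← Int.cast_inj (α := ℂ), dl_spec, L.T_eq_zero (isRot_sub h) hχ, Int.cast_zero]

/-- The value of the Gram form on the differences. -/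
def gram (i j k l : ZMod (2 * 2 ^ m)) (a : ZMod (2 * 2 ^ m)) : ℤ :=
  (((if i = k then 1 else 0) + (if i = a * k then 1 else 0)) -
      ((if i = l then 1 else 0) + (if i = a * l then 1 else 0))) -
    (((if j = k then 1 else 0) + (if j = a * k then 1 else 0)) -
      ((if j = l then 1 else 0) + (if j = a * l then 1 else 0)))

theorem sum_dl {i j k l : ZMod (2 * 2 ^ m)} (hij : par m i = par m j) (hkl : par m k = par m l) :
    ∑ χ : members B, L.dl i j (χ : IrrCharacter G) * L.dl k l (χ : IrrCharacter G) =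
      gram i j k l S.α := by
  rw [Finset.sum_coe_sort (members B) (fun χ : IrrCharacter G => L.dl i j χ * L.dl k l χ),
    Finset.sum_subset (Finset.subset_univ _) fun χ _ hχ => by
      rw [L.dl_eq_zero hij fun h => hχ (mem_members.2 h), zero_mul]]
  rw [← Int.cast_inj (α := ℂ), Int.cast_sum]
  have h := L.sum_T_mul (isRot_sub (S := S) hij) (isRot_sub (S := S) hkl)
  simp only [← dl_spec, map_intCast, ← Int.cast_mul] at h
  rw [h, classInner_sub_sub, classInner_pairP, classInner_pairP, classInner_pairP,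
    classInner_pairP, gram]
  push_cast
  ring

theorem sum_dl_small {i j : ZMod (2 * 2 ^ m)} (hij : par m i = par m j) {g : G}
    (hg : ∀ u, IsPPart 2 g u → orderOf u ∣ 2) :
    ∑ χ : members B, (L.dl i j (χ : IrrCharacter G) : ℂ) * ((χ : IrrCharacter G) : G → ℂ) g = 0 := by
  rw [Finset.sum_coe_sort (members B) (fun χ : IrrCharacter G => (L.dl i j χ : ℂ) * (χ : G → ℂ) g),
    Finset.sum_subset (Finset.subset_univ _) fun χ _ hχ => by
      rw [L.dl_eq_zero hij fun h => hχ (mem_members.2 h), Int.cast_zero, zero_mul]]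
  simp only [dl_spec]
  exact L.sum_T_small (isRot_sub (S := S) hij) hg

theorem sum_red_dl {i j : ZMod (2 * 2 ^ m)} (hij : par m i = par m j) :
    ∑ χ : members B, (red 2 B (χ : IrrCharacter G) : ℤ) * L.dl i j (χ : IrrCharacter G) = 0 := by
  have h := L.sum_dl_small hij (g := 1) fun u hu => by
    obtain ⟨y, hy, hc, ⟨k, hk⟩, hy2⟩ := hu
    have : u = 1 := by
      have h1 : y = u⁻¹ := eq_inv_of_mul_eq_one_right hy
      rw [h1, orderOf_inv, hk] at hy2
      rcases k with _ | k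
      · rwa [pow_zero, orderOf_eq_one_iff] at hk
      · exact absurd (dvd_pow_self 2 k.succ_ne_zero) hy2
    rw [this, orderOf_one]
    exact one_dvd 2
  rw [Finset.sum_congr rfl (fun (χ : members B) _ => by
    rw [apply_one_red (p := 2) (mem_members.1 χ.2),
      show (L.dl i j (χ : IrrCharacter G) : ℂ) * ((2 : ℕ) ^ minExp 2 B * (red 2 B (χ : IrrCharacter G) : ℂ)) =
        (2 : ℕ) ^ minExp 2 B * ((red 2 B (χ : IrrCharacter G) : ℤ) * L.dl i j (χ : IrrCharacter G) : ℤ) by
        push_cast; ring]), ← Finset.mul_sum, ← Int.cast_sum] at h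
  exact Int.cast_eq_zero.1 ((mul_eq_zero.1 h).resolve_left (pow_ne_zero _ (by norm_num)))

/-- The multiplicity of the regular representation. -/
theorem T_regF_eq (χ : IrrCharacter G) :
    L.T regF χ = ((∑ j : ZMod (2 * 2 ^ m), L.mj j χ : ℤ) : ℂ) := by
  haveI : NeZero (2 * 2 ^ m) := ⟨by positivity⟩
  have h : (regF (S := S)) = fun p => ∑ j : ZMod (2 * 2 ^ m), (1 : ℂ) * pairP j p := by
    funext p
    rcases rotP_cases p with ⟨s, rfl⟩ | ⟨h1, h0⟩
    · simp only [one_mul, pairP_rotP, Finset.sum_add_distrib]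
      rw [Finset.sum_congr rfl (fun j _ => show (ZMod.stdAddChar (j * s) : ℂ) =
        ZMod.stdAddChar (s * j) from congrArg _ (mul_comm j s)), Finset.sum_congr rfl
        (fun j _ => show (ZMod.stdAddChar (S.α * j * s) : ℂ) =
          ZMod.stdAddChar (S.α * s * j) by ring_nf), DihedralBlk.sum_stdAddChar,
        DihedralBlk.sum_stdAddChar, regF]
      have hiff : S.α * s = 0 ↔ s = 0 := by rw [S.α_mul_eq_iff, mul_zero]
      have hone : rotP (S := S) s = 1 ↔ s = 0 := by
        rw [← S.rot_eq_one_iff, Subtype.ext_iff, Subtype.ext_iff]; rfl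
      simp only [hiff, hone]
      split_ifs <;> push_cast <;> ring
    · rw [regF, if_neg fun h => h1 0 (by rw [h]; exact Subtype.ext (Subtype.ext S.rot_zero.symm))]
      simp [h0]
  rw [h, L.T_linear Finset.univ (fun _ => (1 : ℂ)) (fun j => pairP j) isClassFunction_pairP,
    Int.cast_sum]
  exact Finset.sum_congr rfl fun j _ => by rw [one_mul, mj_spec]

/-- The sum of all the coefficients. -/
theorem sum_mj (χ : IrrCharacter G) :
    ∑ j : ZMod (2 * 2 ^ m), L.mj j χ = L.mj 0 χ + L.mj (half m) χ +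
      2 * ∑ e, L.mj (ev m e) χ + 2 * ∑ a, L.mj (od m a) χ := by
  haveI : NeZero (2 * 2 ^ m) := ⟨by positivity⟩
  let f : Bool ⊕ (Fin (2 ^ (m - 1) - 1) × Bool) ⊕ (Fin (2 ^ (m - 1)) × Bool) → ZMod (2 * 2 ^ m) :=
    Sum.elim (fun b => if b then half m else 0)
      (Sum.elim (fun p => if p.2 then S.α * ev m p.1 else ev m p.1)
        (fun p => if p.2 then S.α * od m p.1 else od m p.1))
  have par_ev : ∀ p : Fin (2 ^ (m - 1) - 1) × Bool, par m (f (Sum.inr (Sum.inl p))) = 0 := by
    rintro ⟨e, b⟩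
    cases b <;> simp [f, (S.ev_facts e e).2.2.2.2]
  have par_od : ∀ p : Fin (2 ^ (m - 1)) × Bool, par m (f (Sum.inr (Sum.inr p))) = 1 := by
    rintro ⟨e, b⟩
    cases b
    · simpa [f] using (S.od_facts e e).2.2.1
    · simpa [f] using (S.od_facts e e).2.2.2
  have par_top : ∀ b : Bool, par m (f (Sum.inl b)) = 0 := by
    intro b; cases b <;> simp [f, S.par_half]
  have h01 : (0 : ZMod 2) ≠ 1 := zero_ne_one
  have hne0 : ∀ p b, f (Sum.inr (Sum.inl p)) ≠ f (Sum.inl b) := by
    rintro ⟨e, c⟩ b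
    obtain ⟨-, h0, hh, -, -⟩ := S.ev_facts e e
    cases c <;> cases b <;> simp only [f, Sum.elim_inl, Sum.elim_inr, Bool.false_eq_true, if_false,
      if_true, ne_eq, S.α_mul_eq_iff, mul_zero]
    · exact h0
    · exact hh
    · exact h0
    · rw [show S.α * half m = half m from S.a_half]; exact hh
  have hinj : Function.Injective f := by
    rintro (b | p | p) (b' | p' | p') h
    · cases b <;> cases b' <;> simp [f] at h ⊢
      · exact S.half_ne_zero h.symm
      · exact S.half_ne_zero h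
    · exact absurd h.symm (hne0 p' b)
    · exact absurd ((par_top b).symm.trans ((congrArg (par m) h).trans (par_od p'))) h01
    · exact absurd h (hne0 p b')
    · obtain ⟨e, c⟩ := p
      obtain ⟨e', c'⟩ := p'
      obtain ⟨h1, -, -, h4, -⟩ := S.ev_facts e e'
      obtain ⟨h1', -, -, h4', -⟩ := S.ev_facts e' e
      cases c <;> cases c' <;> simp only [f, Sum.elim_inl, Sum.elim_inr, Bool.false_eq_true,
        if_false, if_true] at h
      · rw [h1.1 h]
      · exact absurd h h4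
      · exact absurd h.symm h4'
      · rw [S.α_mul_eq_iff, ← mul_assoc, S.a_sq, one_mul] at h
        rw [h1.1 h]
    · exact absurd ((par_ev p).symm.trans ((congrArg (par m) h).trans (par_od p'))) h01
    · exact absurd ((par_top b').symm.trans ((congrArg (par m) h.symm).trans (par_od p))) h01
    · exact absurd ((par_ev p').symm.trans ((congrArg (par m) h.symm).trans (par_od p))) h01
    · obtain ⟨e, c⟩ := p
      obtain ⟨e', c'⟩ := p'
      obtain ⟨h1, h4, -, -⟩ := S.od_facts e e'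
      obtain ⟨-, h4', -, -⟩ := S.od_facts e' e
      cases c <;> cases c' <;> simp only [f, Sum.elim_inl, Sum.elim_inr, Bool.false_eq_true,
        if_false, if_true] at h
      · rw [h1.1 h]
      · exact absurd h h4
      · exact absurd h.symm h4'
      · rw [S.α_mul_eq_iff, ← mul_assoc, S.a_sq, one_mul] at h
        rw [h1.1 h]
  have hbij : Function.Bijective f := by
    rw [Fintype.bijective_iff_injective_and_card]
    refine ⟨hinj, ?_⟩
    simp only [Fintype.card_sum, Fintype.card_prod, Fintype.card_bool, Fintype.card_fin, ZMod.card]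
    have := Nat.two_pow_pos (m - 1)
    have := S.two_mul_half
    omega
  rw [← (Equiv.ofBijective f hbij).sum_comp]
  simp only [Equiv.ofBijective_apply, Fintype.sum_sum_type, Fintype.sum_prod_type, Fintype.sum_bool,
    f, Sum.elim_inl, Sum.elim_inr, Bool.false_eq_true, if_false, if_true, mj_α,
    Finset.sum_add_distrib]
  ring

/-- A power of two dividing the multiplicity of the regular representation divides the reduced
degree, and conversely. -/
theorem pow_dvd_iff {χ : IrrCharacter G} (hχ : χ ∈ B) {χ₁ : IrrCharacter G} (hχ₁ : χ₁ ∈ B)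
    (hodd : ¬ (2 : ℤ) ∣ ∑ j : ZMod (2 * 2 ^ m), L.mj j χ₁) (k : ℕ) :
    (2 : ℤ) ^ k ∣ ∑ j : ZMod (2 * 2 ^ m), L.mj j χ ↔ 2 ^ k ∣ red 2 B χ := by
  obtain ⟨W, hW, hWc, hWe⟩ := L.exists_W
  set N : ℕ := Nat.card G / 2 ^ (Nat.card G).factorization 2
  have hN : ¬ 2 ∣ N := cofactor_not_dvd (G := G) hM.1
  have hN' : ¬ (2 : ℤ) ∣ (N : ℤ) := by exact_mod_cast hN
  have heq : ∀ {φ : IrrCharacter G}, φ ∈ B →
      (((∑ j : ZMod (2 * 2 ^ m), L.mj j φ) * N : ℤ) : ℂ) = (red 2 B φ : ℂ) * W φ := fun {φ} hφ => by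
    rw [← hWe φ hφ, T_regF_eq]; push_cast; rfl
  have hW₁ : ¬ MemLocalIdeal M (W χ₁) := fun h => by
    have h2 : MemLocalIdeal M (((∑ j : ZMod (2 * 2 ^ m), L.mj j χ₁) * N : ℤ) : ℂ) :=
      (heq hχ₁).symm ▸ MemLocalIdeal.mul_left hM (natCast_mem (lRing hM) _) h
    rw [memLocalIdeal_intCast_iff hM] at h2
    exact (Int.prime_two.dvd_mul.1 h2).elim hodd hN'
  have hWu : ¬ MemLocalIdeal M (W χ) := fun h => hW₁ (by
    simpa using MemLocalIdeal.add hM (hWc χ₁ hχ₁ χ hχ) h)
  have hinv : MemLocalRing M (W χ)⁻¹ := inv_mem_lRing hM (hW χ hχ) hWu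
  have hW0 : W χ ≠ 0 := fun h => hWu (by rw [h]; exact memLocalIdeal_zero hM)
  constructor
  · rintro ⟨t, ht⟩
    have h : (((red 2 B χ : ℕ) : ℤ) : ℂ) = ((2 : ℕ) : ℂ) ^ k * (((t * N : ℤ) : ℂ) * (W χ)⁻¹) := by
      have h1 := heq hχ
      rw [ht] at h1
      push_cast at h1 ⊢
      field_simp
      linear_combination -h1
    exact_mod_cast int_pow_dvd hM ((lRing hM).mul_mem (intCast_mem (lRing hM) _) hinv) h
  · rintro ⟨t, ht⟩
    have h : (((∑ j : ZMod (2 * 2 ^ m), L.mj j χ) * N : ℤ) : ℂ) =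
        ((2 : ℕ) : ℂ) ^ k * (((t : ℕ) : ℂ) * W χ) := by
      rw [heq hχ, ht]; push_cast; ring
    have hd := int_pow_dvd hM ((lRing hM).mul_mem (natCast_mem (lRing hM) t) (hW χ hχ)) h
    exact (IsCoprime.pow_left ((Int.prime_two.coprime_iff_not_dvd).2 hN')).dvd_of_dvd_mul_right hd

/-- The vector of norm four. -/
noncomputable def U (χ : members B) : ℤ := L.dl 0 (half m) (χ : IrrCharacter G)

/-- The even vectors. -/
noncomputable def P (e : Fin (2 ^ (m - 1) - 1)) (χ : members B) : ℤ :=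
  L.dl (ev m e) 0 (χ : IrrCharacter G)

/-- The odd coefficients. -/
noncomputable def w (a : Fin (2 ^ (m - 1))) (χ : members B) : ℤ :=
  L.mj (od m a) (χ : IrrCharacter G)

/-- The reduced degree. -/
noncomputable def r (χ : members B) : ℕ := red 2 B (χ : IrrCharacter G)

theorem r_pos (χ : members B) : 0 < r χ := red_pos (mem_members.1 χ.2)

include S in
theorem par_zero_half : par m (0 : ZMod (2 * 2 ^ m)) = par m (half m) := by
  rw [map_zero, S.par_half]

include S in
theorem par_ev_zero (e : Fin (2 ^ (m - 1) - 1)) : par m (ev m e) = par m (0 : ZMod (2 * 2 ^ m)) := by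
  rw [map_zero, (S.ev_facts e e).2.2.2.2]

include S in
theorem par_od (a b : Fin (2 ^ (m - 1))) : par m (od m a) = par m (od m b) := by
  rw [(S.od_facts a a).2.2.1, (S.od_facts b b).2.2.1]

theorem UU : ∑ i, L.U i * L.U i = 4 := by
  rw [show ∑ i, L.U i * L.U i = ∑ i : members B, L.dl 0 (half m) (i : IrrCharacter G) *
    L.dl 0 (half m) (i : IrrCharacter G) from rfl, L.sum_dl (par_zero_half (S := S)) (par_zero_half (S := S))]
  have h0 : (0 : ZMod (2 * 2 ^ m)) ≠ half m := S.half_ne_zero.symm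
  have h1 : S.α * half m = half m := S.a_half
  simp [gram, h0, h0.symm, h1]

theorem xU : ∑ i, (r i : ℤ) * L.U i = 0 := L.sum_red_dl (par_zero_half (S := S))

theorem U_pm : (∀ i, L.U i ≠ 0 → L.U i = 1 ∨ L.U i = -1) ∧
    (Finset.univ.filter fun i => L.U i ≠ 0).card = 4 :=
  four_support (x := fun i : members B => (r i : ℤ)) (fun i => by exact_mod_cast r_pos i) L.UU L.xU

theorem exists_odd : ∃ χ₁ ∈ B, ¬ (2 : ℤ) ∣ ∑ j : ZMod (2 * 2 ^ m), L.mj j χ₁ := by
  obtain ⟨h1, h4⟩ := L.U_pm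
  obtain ⟨i, hi⟩ : (Finset.univ.filter fun i => L.U i ≠ 0).Nonempty :=
    Finset.card_pos.1 (by omega)
  refine ⟨(i : IrrCharacter G), mem_members.1 i.2, ?_⟩
  have hu : L.U i = L.mj 0 (i : IrrCharacter G) - L.mj (half m) (i : IrrCharacter G) := rfl
  have := h1 i (Finset.mem_filter.1 hi).2
  rw [sum_mj]
  omega

/-- The parity of the degrees. -/
theorem odd_iff (i : members B) : L.U i ≠ 0 ↔ ¬ 2 ∣ r i := by
  obtain ⟨χ₁, h₁, hodd⟩ := L.exists_odd
  have h := L.pow_dvd_iff (mem_members.1 i.2) h₁ hodd 1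
  simp only [pow_one] at h
  rw [r, ← h, sum_mj]
  have hu : L.U i = L.mj 0 (i : IrrCharacter G) - L.mj (half m) (i : IrrCharacter G) := rfl
  constructor
  · intro hne
    have := L.U_pm.1 i hne
    omega
  · intro hne h0
    omega

theorem two_le_half (hm : 2 ≤ m) : 2 ∣ 2 ^ (m - 1) ∧ 2 ≤ 2 ^ (m - 1) := by
  refine ⟨dvd_pow_self 2 (by omega), ?_⟩
  calc (2 : ℕ) = 2 ^ 1 := rfl
    _ ≤ 2 ^ (m - 1) := Nat.pow_le_pow_right two_pos (by omega)

/-- The vectors of the block. -/
noncomputable def vecs (hm : 2 ≤ m) : Vecs (members B) (2 ^ (m - 1)) where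
  U := L.U
  P := L.P
  w := L.w
  x i := (r i : ℤ)
  pos i := by exact_mod_cast r_pos i
  hh := by
    rcases (show m = 2 ∨ 3 ≤ m by omega) with h | h
    · exact Or.inl (by rw [h]; rfl)
    · exact Or.inr (le_trans (show 4 ≤ 2 ^ 2 by norm_num) (Nat.pow_le_pow_right two_pos (by omega)))
  UU := L.UU
  UP e := by
    rw [show ∑ i, L.U i * L.P e i = ∑ i : members B, L.dl 0 (half m) (i : IrrCharacter G) *
      L.dl (ev m e) 0 (i : IrrCharacter G) from rfl, L.sum_dl (par_zero_half (S := S)) (par_ev_zero (S := S) e)]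
    obtain ⟨-, h0, hh, -, -⟩ := S.ev_facts e e
    have h0' : (0 : ZMod (2 * 2 ^ m)) ≠ half m := S.half_ne_zero.symm
    have h1 : S.α * half m = half m := S.a_half
    have e1 : (0 : ZMod (2 * 2 ^ m)) ≠ S.α * ev m e := fun h => h0 (by
      rw [eq_comm, S.α_mul_eq_iff, mul_zero] at h; exact h)
    have e2 : half m ≠ S.α * ev m e := fun h => hh (by
      rw [eq_comm, S.α_mul_eq_iff, h1] at h; exact h)
    simp [gram, h0.symm, hh.symm, h0'.symm, e1, e2]
  PP e f := by
    rw [show ∑ i, L.P e i * L.P f i = ∑ i : members B, L.dl (ev m e) 0 (i : IrrCharacter G) *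
      L.dl (ev m f) 0 (i : IrrCharacter G) from rfl, L.sum_dl (par_ev_zero (S := S) e) (par_ev_zero (S := S) f)]
    obtain ⟨h1, h0, -, h3, -⟩ := S.ev_facts e f
    obtain ⟨-, h0', -, -, -⟩ := S.ev_facts f e
    have e1 : (0 : ZMod (2 * 2 ^ m)) ≠ S.α * ev m f := fun h => h0' (by
      rw [eq_comm, S.α_mul_eq_iff, mul_zero] at h; exact h)
    simp [gram, h0, h0'.symm, h3, e1, h1]
    split_ifs <;> norm_num
  UW a b := by
    rw [show ∑ i, L.U i * (L.w a i - L.w b i) = ∑ i : members B, L.dl 0 (half m) (i : IrrCharacter G) *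
      L.dl (od m a) (od m b) (i : IrrCharacter G) from rfl, L.sum_dl (par_zero_half (S := S)) (par_od (S := S) a b)]
    have hne : ∀ x y : ZMod (2 * 2 ^ m), par m x = 0 → par m y = 1 → x ≠ y := fun x y h h' e => by
      rw [e, h'] at h; exact one_ne_zero h
    simp [gram, hne _ _ (map_zero _) (S.od_facts a a).2.2.1, hne _ _ (map_zero _) (S.od_facts a a).2.2.2,
      hne _ _ (map_zero _) (S.od_facts b b).2.2.1, hne _ _ (map_zero _) (S.od_facts b b).2.2.2,
      hne _ _ S.par_half (S.od_facts a a).2.2.1, hne _ _ S.par_half (S.od_facts a a).2.2.2,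
      hne _ _ S.par_half (S.od_facts b b).2.2.1, hne _ _ S.par_half (S.od_facts b b).2.2.2]
  PW e a b := by
    rw [show ∑ i, L.P e i * (L.w a i - L.w b i) = ∑ i : members B, L.dl (ev m e) 0 (i : IrrCharacter G) *
      L.dl (od m a) (od m b) (i : IrrCharacter G) from rfl, L.sum_dl (par_ev_zero (S := S) e) (par_od (S := S) a b)]
    have hne : ∀ x y : ZMod (2 * 2 ^ m), par m x = 0 → par m y = 1 → x ≠ y := fun x y h h' e => by
      rw [e, h'] at h; exact one_ne_zero h
    have he := (S.ev_facts e e).2.2.2.2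
    simp [gram, hne _ _ (map_zero _) (S.od_facts a a).2.2.1, hne _ _ (map_zero _) (S.od_facts a a).2.2.2,
      hne _ _ (map_zero _) (S.od_facts b b).2.2.1, hne _ _ (map_zero _) (S.od_facts b b).2.2.2,
      hne _ _ he (S.od_facts a a).2.2.1, hne _ _ he (S.od_facts a a).2.2.2,
      hne _ _ he (S.od_facts b b).2.2.1, hne _ _ he (S.od_facts b b).2.2.2]
  WW a b c d := by
    rw [show ∑ i, (L.w a i - L.w b i) * (L.w c i - L.w d i) = ∑ i : members B,
      L.dl (od m a) (od m b) (i : IrrCharacter G) * L.dl (od m c) (od m d) (i : IrrCharacter G) from rfl,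
      L.sum_dl (par_od (S := S) a b) (par_od (S := S) c d)]
    simp [gram, (S.od_facts a c).1, (S.od_facts a c).2.1, (S.od_facts a d).1, (S.od_facts a d).2.1,
      (S.od_facts b c).1, (S.od_facts b c).2.1, (S.od_facts b d).1, (S.od_facts b d).2.1]
    ring
  xU := L.xU
  xP e := L.sum_red_dl (par_ev_zero (S := S) e)
  xW a b := L.sum_red_dl (par_od (S := S) a b)

theorem sum_mj_eq (i : members B) (hU : L.U i = 0) :
    ∑ j : ZMod (2 * 2 ^ m), L.mj j (i : IrrCharacter G) =
      ((2 ^ m : ℕ) : ℤ) * L.mj 0 (i : IrrCharacter G) + 2 * ∑ e, L.P e i + 2 * ∑ a, L.w a i := by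
  have hu : L.mj (half m) (i : IrrCharacter G) = L.mj 0 (i : IrrCharacter G) := by
    have : L.mj 0 (i : IrrCharacter G) - L.mj (half m) (i : IrrCharacter G) = 0 := hU
    omega
  have hc : ((2 ^ (m - 1) - 1 : ℕ) : ℤ) = ((2 ^ (m - 1) : ℕ) : ℤ) - 1 := by
    have := Nat.two_pow_pos (m - 1); omega
  rw [sum_mj, hu]
  simp only [P, w, dl, Finset.sum_sub_distrib, Finset.sum_const, Finset.card_univ, Fintype.card_fin,
    nsmul_eq_mul]
  have h2 : ((2 ^ m : ℕ) : ℤ) = 2 * ((2 ^ (m - 1) : ℕ) : ℤ) := by exact_mod_cast S.two_mul_half.symm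
  rw [hc, h2]
  ring

theorem r_X (i : members B) (hU : L.U i = 0) (hP : ∀ e, L.P e i = 0)
    (hw : ∀ a b, L.w a i = L.w b i) : 2 ^ m ∣ r i := by
  obtain ⟨χ₁, h₁, hodd⟩ := L.exists_odd
  rw [r, ← L.pow_dvd_iff (mem_members.1 i.2) h₁ hodd m, sum_mj_eq L i hU,
    Finset.sum_eq_zero fun e _ => hP e, mul_zero, add_zero]
  refine dvd_add (Dvd.dvd.mul_right (by push_cast; rfl) _) ?_
  rw [Finset.sum_congr rfl (fun a _ => hw a ⟨0, Nat.two_pow_pos _⟩), Finset.sum_const,
    Finset.card_univ, Fintype.card_fin, nsmul_eq_mul, ← mul_assoc]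
  refine Dvd.dvd.mul_right (dvd_of_eq ?_) _
  exact_mod_cast S.two_mul_half.symm

theorem r_two (i : members B) (hU : L.U i = 0) (hm : 2 ≤ m)
    (h : ¬ (2 : ℤ) ∣ ∑ e, L.P e i + ∑ a, L.w a i) : 2 ∣ r i ∧ ¬ 4 ∣ r i := by
  obtain ⟨χ₁, h₁, hodd⟩ := L.exists_odd
  have h2 := L.pow_dvd_iff (mem_members.1 i.2) h₁ hodd 2
  have h1 := L.pow_dvd_iff (mem_members.1 i.2) h₁ hodd 1
  rw [r, show (4 : ℕ) = 2 ^ 2 from rfl, ← h2, show (2 : ℕ) ∣ red 2 B (i : IrrCharacter G) ↔
    2 ^ 1 ∣ red 2 B (i : IrrCharacter G) by rw [pow_one], ← h1, sum_mj_eq L i hU]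
  obtain ⟨t, ht⟩ : (4 : ℤ) ∣ ((2 ^ m : ℕ) : ℤ) := by
    exact_mod_cast (pow_dvd_pow 2 hm : 2 ^ 2 ∣ 2 ^ m)
  rw [ht, show (4 : ℤ) * t * L.mj 0 (i : IrrCharacter G) = 4 * (t * L.mj 0 (i : IrrCharacter G)) by ring]
  norm_num
  omega

/-- The vectors with the heights. -/
noncomputable def graded (hm : 2 ≤ m) : Graded (members B) m where
  v := L.vecs hm
  r := r
  two_le := hm
  odd_iff := L.odd_iff
  heightX i hi := L.r_X i hi.1 hi.2.1 hi.2.2
  heightE i e hi := by
    obtain ⟨hU, hpe, hpf, hw⟩ := hi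
    change L.U i = 0 at hU
    change L.P e i = 1 ∨ L.P e i = -1 at hpe
    change ∀ f, f ≠ e → L.P f i = 0 at hpf
    change ∀ a b, L.w a i = L.w b i at hw
    refine L.r_two i hU hm ?_
    rw [Finset.sum_eq_single e (fun f _ hf => hpf f hf) (fun h => absurd (Finset.mem_univ e) h),
      Finset.sum_congr rfl (fun a _ => hw a ⟨0, Nat.two_pow_pos _⟩), Finset.sum_const,
      Finset.card_univ, Fintype.card_fin, nsmul_eq_mul]
    obtain ⟨t, ht⟩ := (two_le_half hm).1
    have ht' : ((2 ^ (m - 1) : ℕ) : ℤ) = 2 * (t : ℤ) := by exact_mod_cast ht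
    rw [ht', mul_assoc]
    omega
  heightO i a hi := by
    obtain ⟨hU, hP, s, hs, hw⟩ := hi
    change L.U i = 0 at hU
    change ∀ e, L.P e i = 0 at hP
    change ∀ b, b ≠ a → L.w b i = L.w a i - s at hw
    refine L.r_two i hU hm ?_
    rw [Finset.sum_eq_zero fun e _ => hP e, zero_add,
      ← Finset.add_sum_erase _ _ (Finset.mem_univ a),
      Finset.sum_congr rfl (fun b hb => hw b (Finset.mem_erase.1 hb).1), Finset.sum_const,
      Finset.card_erase_of_mem (Finset.mem_univ a), Finset.card_univ, Fintype.card_fin, nsmul_eq_mul]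
    obtain ⟨t, ht⟩ := (two_le_half hm).1
    have hge := (two_le_half hm).2
    have ht' : ((2 ^ (m - 1) - 1 : ℕ) : ℤ) = 2 * (t : ℤ) - 1 := by omega
    rw [ht']
    rw [show L.w a i + ((2 : ℤ) * t - 1) * (L.w a i - s) = s + 2 * (t * (L.w a i - s)) by ring]
    omega

end Loc

end CfsgLib.QuatDefect
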