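import Cfsg.Agent.Lib.QuatDefect.Count
import Cfsg.Agent.Lib.QuatDefect.Local
import Cfsg.Agent.Lib.KleinDefect.Contrib
import Cfsg.Agent.Lib.BrauerPairs.LocalNilpotent
import Cfsg.Agent.Lib.Blocks.FirstMain

/-!
# The pairs of the defect group seen inside a subgroup, and the fusion of the rotations

The pairs over the central involution live in its centraliser; the rotations of order above two
are fused only as in the defect group.
-/

set_option autoImplicit false
set_option linter.style.haveILetI false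
set_option linter.unusedSectionVars false

namespace CfsgLib.QuatDefect

open Cfsg MonoidAlgebra CfsgLib.BrauerPairs CfsgLib.CyclicDefectBound
open scoped Classical

universe u

section Inclusion

variable {k : Type*} [Field k] {G : Type u} [Group G] {K : Subgroup G} {p : ℕ}

theorem cz_map_subtype {X : Subgroup K} (h : cz (X.map K.subtype) ≤ K) :
    (cz X).map K.subtype = cz (X.map K.subtype) := by
  ext g
  simp only [Subgroup.mem_map, mem_cz, Subgroup.coe_subtype]
  constructor
  · rintro ⟨y, hy, rfl⟩ _ ⟨x, hx, rfl⟩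
    exact congrArg Subtype.val (hy x hx)
  · intro hg
    exact ⟨⟨g, h (mem_cz.2 (by simpa [Subgroup.mem_map] using hg))⟩,
      fun x hx => Subtype.ext (hg _ ⟨x, hx, rfl⟩), rfl⟩

/-- A pair inside a subgroup containing the centralisers is a pair. -/
theorem normalSub_inclA [Finite G] {a b : Subgroup K × MonoidAlgebra k K} (h : NormalSub p a b)
    (hc : cz (a.1.map K.subtype) ≤ K) :
    NormalSub p (a.1.map K.subtype, inclA k K a.2) (b.1.map K.subtype, inclA k K b.2) := by
  have hc' : cz (b.1.map K.subtype) ≤ K := (cz_anti (Subgroup.map_mono h.le)).trans hc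
  refine ⟨h.pgroup_left.map _, h.pgroup_right.map _, cz_map_subtype hc ▸ h.block_left.inclA_map,
    cz_map_subtype hc' ▸ h.block_right.inclA_map, Subgroup.map_mono h.le, ?_,
    inclA_mem_fixAlg h.fixed, ?_⟩
  · rintro _ ⟨g, hg, rfl⟩
    refine Fusion.mem_normalizer_of_forall fun w hw => ?_
    obtain ⟨x, hx, rfl⟩ := hw
    exact ⟨g * x * g⁻¹, (Subgroup.mem_normalizer_iff.1 (h.le_norm hg) x).1 hx, by simp⟩
  · show brMap k (b.1.map K.subtype) (inclA k K a.2) * inclA k K b.2 = inclA k K b.2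
    rw [← inclA_brMap, ← map_mul, h.cover]

theorem pairLE_inclA [Finite G] {a b : Subgroup K × MonoidAlgebra k K} (h : PairLE p a b)
    (hc : cz (a.1.map K.subtype) ≤ K) :
    PairLE p (a.1.map K.subtype, inclA k K a.2) (b.1.map K.subtype, inclA k K b.2) := by
  induction h using Relation.ReflTransGen.head_induction_on with
  | refl => exact Relation.ReflTransGen.refl
  | @head x y hxy _ ih =>
    exact Relation.ReflTransGen.head (normalSub_inclA hxy hc)
      (ih ((cz_anti (Subgroup.map_mono hxy.le)).trans hc))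

end Inclusion

namespace QD

variable {G : Type u} [Group G] {D : Subgroup G} {m : ℕ}

/-- The data inside a subgroup containing the defect group. -/
def sub (S : QD D m) {K : Subgroup G} (h : D ≤ K) : QD (D.subgroupOf K) m where
  σ := ⟨S.σ, h S.σ_mem⟩
  τ := ⟨S.τ, h S.τ_mem⟩
  a := S.a
  one_le := S.one_le
  a_eq := S.a_eq
  σ_mem := S.σ_mem
  τ_mem := S.τ_mem
  ord := by rw [← Subgroup.orderOf_coe]; exact S.ord
  rel := Subtype.ext (by simpa using S.rel)
  τ_sq := by
    rcases S.τ_sq with e | e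
    · exact Or.inl (Subtype.ext (by simpa using e))
    · exact Or.inr (Subtype.ext (by simpa using e))
  notMem := fun hmem => S.notMem (by
    obtain ⟨i, hi⟩ := Subgroup.mem_zpowers_iff.1 hmem
    exact Subgroup.mem_zpowers_iff.2 ⟨i, by simpa using congrArg Subtype.val hi⟩)
  card := by rw [Nat.card_congr (Subgroup.subgroupOfEquivOfLe h).toEquiv, S.card]

theorem sub_rot (S : QD D m) {K : Subgroup G} (h : D ≤ K) (s : ZMod (2 * 2 ^ m)) :
    (((S.sub h).rot s : K) : G) = S.rot s := by
  rw [rot, rot]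
  simp [sub]

theorem sub_z (S : QD D m) {K : Subgroup G} (h : D ≤ K) : (((S.sub h).z : K) : G) = S.z :=
  S.sub_rot h _

theorem rot_conj_rot (S : QD D m) (r s : ZMod (2 * 2 ^ m)) :
    S.rot r * S.rot s * (S.rot r)⁻¹ = S.rot s := by rw [S.rot_comm, mul_inv_cancel_right]

/-- Conjugate rotations under the defect group. -/
theorem eq_or_of_conj (S : QD D m) {d : G} (hd : d ∈ D) {s t : ZMod (2 * 2 ^ m)}
    (h : d * S.rot s * d⁻¹ = S.rot t) : t = s ∨ t = (S.a : ZMod (2 * 2 ^ m)) * s := by
  obtain ⟨r, e | e⟩ := S.exists_elem hd <;> rw [e] at h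
  · left; rw [S.rot_conj_rot] at h; exact (S.rot_inj h).symm
  · right
    rw [show S.rot r * S.τ * S.rot s * (S.rot r * S.τ)⁻¹ =
      S.rot r * (S.τ * S.rot s * S.τ⁻¹) * (S.rot r)⁻¹ by group, τ_conj, S.rot_conj_rot] at h
    exact (S.rot_inj h).symm

/-- An element with the central involution among its powers is centralised only by centralisers
of it. -/
theorem centralizer_le_of_mem_zpowers {w z : G} (h : z ∈ Subgroup.zpowers w) :
    Subgroup.centralizer ({w} : Set G) ≤ Subgroup.centralizer ({z} : Set G) := fun c hc => by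
  obtain ⟨i, rfl⟩ := Subgroup.mem_zpowers_iff.1 h
  exact Subgroup.mem_centralizer_singleton_iff.2
    ((show Commute c w from Subgroup.mem_centralizer_singleton_iff.1 hc).zpow_right i).eq

/-- Two involutions among the powers of one element are equal. -/
theorem eq_of_sq_one_mem_zpowers [Finite G] {w x y : G} (hx : x ∈ Subgroup.zpowers w)
    (hy : y ∈ Subgroup.zpowers w) (hx2 : orderOf x = 2) (hy2 : orderOf y = 2) : x = y := by
  have h1 : ∀ {v : G}, v ∈ Subgroup.zpowers w → orderOf v = 2 →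
      Subgroup.zpowers v ≤ Subgroup.zpowers w ∧ Nat.card (Subgroup.zpowers v) = 2 := fun hv h2 =>
    ⟨Subgroup.zpowers_le.2 hv, by rw [Nat.card_zpowers, h2]⟩
  obtain ⟨hxl, hxc⟩ := h1 hx hx2
  obtain ⟨hyl, hyc⟩ := h1 hy hy2
  have hne : ∀ {v : G}, orderOf v = 2 → v ≠ 1 := fun h e => by
    rw [e, orderOf_one] at h; omega
  by_contra hxy
  let _ : Fintype (Subgroup.zpowers w) := Fintype.ofFinite _
  have hle := IsCyclic.card_pow_eq_one_le (α := Subgroup.zpowers w) two_pos
  have hsub : ({1, ⟨x, hx⟩, ⟨y, hy⟩} : Finset (Subgroup.zpowers w)) ⊆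
      Finset.univ.filter fun v => v ^ 2 = 1 := by
    intro v hv
    simp only [Finset.mem_insert, Finset.mem_singleton] at hv
    refine Finset.mem_filter.2 ⟨Finset.mem_univ _, ?_⟩
    rcases hv with rfl | rfl | rfl
    · exact one_pow 2
    · exact Subtype.ext (by simp [← hx2, pow_orderOf_eq_one])
    · exact Subtype.ext (by simp [← hy2, pow_orderOf_eq_one])
  have h3 : ({1, ⟨x, hx⟩, ⟨y, hy⟩} : Finset (Subgroup.zpowers w)).card = 3 := by
    rw [Finset.card_insert_of_notMem, Finset.card_pair]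
    · exact fun e => hxy (congrArg Subtype.val e)
    · simp only [Finset.mem_insert, Finset.mem_singleton, not_or]
      exact ⟨fun e => hne hx2 (congrArg Subtype.val e).symm,
        fun e => hne hy2 (congrArg Subtype.val e).symm⟩
  have := Finset.card_le_card hsub
  rw [h3] at this
  omega

end QD

namespace Ctx

variable {G : Type u} [Group G] [Fintype G] [Fact (Nat.Prime 2)] {M : Ideal AlgInt} [M.IsMaximal]
  {hM : IsPModular 2 M} {B : Set (IrrCharacter G)} {D : Subgroup G} {m : ℕ} (C : Ctx hM B D)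

/-- The context of a block inside a subgroup with the restricted pair. -/
theorem exists_inside {K : Subgroup G} (hDK : D ≤ K) (hcz : cz D ≤ K)
    {b : Set (IrrCharacter K)} (hb : IsPBlock M b) (hdef : IsDefectGroup 2 M b (D.subgroupOf K))
    (hcov : brMap (ResK M) D (eA hM K b) * C.e0 = C.e0) :
    ∃ Cb : Ctx hM b (D.subgroupOf K), inclA (ResK M) K Cb.e0 = C.e0 := by
  have := charP_res hM
  obtain ⟨e, he, hee⟩ := exists_eA_eq hM C.block
  have hK := mem_cz_subgroupOf (H := K) hDK
  have hincl : inclA (ResK M) K (eA hM _ (CharCorr.twistIrr (inEquiv hcz hK) '' e)) = C.e0 :=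
    (inclA_eA hM hcz hK e).trans hee
  refine ⟨⟨_, isBlockIdem_eA hM (isPBlock_twist _ he), ?_, hb, hdef⟩, hincl⟩
  apply inclA_injective K
  rw [map_mul, inclA_brMap, Subgroup.map_subgroupOf_eq_of_le hDK, hincl, inclA_eG]
  exact hcov

/-- The idempotents inside agree with those outside. -/
theorem inclA_a {K : Subgroup G} (hDK : D ≤ K) {b : Set (IrrCharacter K)}
    {Cb : Ctx hM b (D.subgroupOf K)} (hincl : inclA (ResK M) K Cb.e0 = C.e0) {w : K}
    (hw : w ∈ D.subgroupOf K) (hcw : Subgroup.centralizer ({(w : G)} : Set G) ≤ K) :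
    inclA (ResK M) K (Cb.a w) = C.a (w : G) := by
  have hmap : (Subgroup.zpowers w).map K.subtype = Subgroup.zpowers (w : G) := by
    rw [MonoidHom.map_zpowers]; rfl
  refine C.a_unique hw ?_
  have h := pairLE_inclA (Cb.a_le hw) (by
    rw [hmap, ← centralizer_singleton_eq]; exact hcw)
  rwa [hmap, Subgroup.map_subgroupOf_eq_of_le hDK, hincl] at h

/-- The ranks inside agree with those outside. -/
theorem rk_inside {K : Subgroup G} (hDK : D ≤ K) {b : Set (IrrCharacter K)}
    {Cb : Ctx hM b (D.subgroupOf K)} (hincl : inclA (ResK M) K Cb.e0 = C.e0) {w : K}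
    (hw : w ∈ D.subgroupOf K) (hcw : Subgroup.centralizer ({(w : G)} : Set G) ≤ K) :
    Cb.rk w = C.rk (w : G) := by
  have hK : ∀ x : K, x ∈ Subgroup.centralizer ({w} : Set K) ↔
      (x : G) ∈ Subgroup.centralizer ({(w : G)} : Set G) := fun x => by
    simp [Subgroup.mem_centralizer_singleton_iff, Subtype.ext_iff]
  have hw' : (w : G) ∈ D := hw
  have hf : CharCorr.twistIrr (inEquiv hcw hK) '' C.blk hw' = Cb.blk hw :=
    Cb.blk_unique hw (isPBlock_twist _ (C.isPBlock_blk hw')) (inclA_injective K (by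
      rw [inclA_eA hM hcw hK, C.eA_blk hw', C.inclA_a hDK hincl hw hcw]))
  rw [Cb.rk_eq hw, C.rk_eq hw', ← hf, LocalCount.blockRank_twist]

variable (S : QD D m)

include C in
/-- Rotations of order above two are fused only as in the defect group. -/
theorem rot_fused {s r : ZMod (2 * 2 ^ m)} (hs : 2 * s ≠ 0) (h : C.Rel (S.rot s) (S.rot r)) :
    r = s ∨ r = (S.a : ZMod (2 * 2 ^ m)) * s := by
  have := charP_res hM
  obtain ⟨e, he, hee⟩ := exists_eA_eq hM C.block
  have hDH : D ≤ S.H := S.D_le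
  have hK := mem_cz_subgroupOf (H := S.H) hDH
  set e' : Set (IrrCharacter (cz (D.subgroupOf S.H))) :=
    CharCorr.twistIrr (inEquiv S.cz_D_le hK) '' e
  have he' : IsPBlock M e' := isPBlock_twist _ he
  have hpP : IsPGroup 2 (D.subgroupOf S.H) := C.pgroup.comap_subtype
  obtain ⟨c, hc, -, hcovc⟩ := exists_block_above hM hpP he'
  have hincl : inclA (ResK M) S.H (eA hM _ e') = C.e0 := (inclA_eA hM S.cz_D_le hK e).trans hee
  have hmap : (D.subgroupOf S.H).map S.H.subtype = D := Subgroup.map_subgroupOf_eq_of_le hDH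
  have hind : IsInducedBlock M S.H c B :=
    isInducedBlock_of_pair hM hc C.hB hpP (isBlockIdem_eA hM he')
      (by rw [hmap]; exact S.cz_D_le) hcovc (by rw [hmap, hincl]; exact C.cover)
  obtain ⟨D₀, hD₀, hle⟩ := exists_defectGroup_ge hM hc hpP
    (fun h0 => (isBlockIdem_eA hM he').ne_zero (by rw [← hcovc, h0, zero_mul]))
  obtain ⟨-, hup⟩ := induced_from_centric hM hc hD₀ (fun t ht => S.cz_D_le (mem_cz.2 fun d hd =>
    mem_cz.1 ht d (by rw [← hmap] at hd; exact Subgroup.map_mono hle hd)))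
  obtain ⟨D', hD', hle', -⟩ := hup B hind
  have heq : D.subgroupOf S.H = D₀ := Subgroup.eq_of_le_of_card_ge hle (by
    rw [Nat.card_congr (Subgroup.subgroupOfEquivOfLe hDH).toEquiv,
      ← Subgroup.card_map_of_injective S.H.subtype_injective (K := D₀),
      BlockCover.natCard_defect hM C.hB C.hD, ← BlockCover.natCard_defect hM C.hB hD']
    exact Subgroup.card_le_of_le hle')
  have hdef : IsDefectGroup 2 M c (D.subgroupOf S.H) := heq ▸ hD₀
  have hnil := DihedralDefect.nilpotent_of_commute hM hc hdef fun Q hQ x hx hodd hxQ =>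
    S.comm_of_normalizer hQ hx (Nat.odd_iff.2 (by omega)) hxQ
  have hmax : IsMaximalBrauerPair 2 M c (D.subgroupOf S.H) e' :=
    (isMaximalBrauerPair_iff hM c _ e').2 ⟨(isBrauerPairOf_iff hM c _ e').2
      ⟨he', hc, hpP, bot_le, le_top, isBlockIdem_eA hM he', hcovc⟩,
      (isDefectGroup_iff hM hc _).1 hdef⟩
  have hN := NilBlk.nilCtx_of_nilpotent hM hnil hmax
  let Cc : Ctx hM c (D.subgroupOf S.H) := ⟨_, isBlockIdem_eA hM he', hcovc, hc, hdef⟩
  obtain ⟨hsD, hrD, g, hgs, hga⟩ := h
  have hgH : g ∈ S.H := S.conj_mem_H hs hgs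
  have hr : 2 * r ≠ 0 := fun h0 => hs (by
    rw [← S.rot_eq_one_iff, ← S.rot_pow_two] at h0 ⊢
    rw [← hgs, conj_pow] at h0
    exact conj_eq_one_iff.1 h0)
  set ws : S.H := ⟨S.rot s, hDH hsD⟩
  set wr : S.H := ⟨S.rot r, hDH hrD⟩
  have has : inclA (ResK M) S.H (Cc.a ws) = C.a (S.rot s) :=
    C.inclA_a hDH hincl (w := ws) hsD (S.centralizer_rot_le hs)
  have har : inclA (ResK M) S.H (Cc.a wr) = C.a (S.rot r) :=
    C.inclA_a hDH hincl (w := wr) hrD (S.centralizer_rot_le hr)
  set gH : S.H := ⟨g, hgH⟩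
  have hconj : conjA gH (Cc.a ws) = Cc.a wr := inclA_injective S.H (by
    rw [inclA_conjA, has, har]; exact hga)
  have hwr : gH * ws * gH⁻¹ = wr := Subtype.ext hgs
  obtain ⟨d, hd, hde⟩ := hN.inner ws 1 gH (Cc.a ws)
    (by rw [conjPair_one]; exact Cc.a_le hsD)
    (by rw [BPStar.conjPair_eq_zpowers, hwr, hconj]; exact Cc.a_le hrD)
  rw [hwr] at hde
  have hde' := congrArg Subtype.val hde
  simp only [Subgroup.coe_mul, Subgroup.coe_inv, one_mul, inv_one, mul_one,
    ws, wr] at hde'
  exact S.eq_or_of_conj hd hde'.symm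

include C in
/-- An involution centralised by only four elements of the defect group, not fused to the central
one, has rank one. -/
theorem rk_eq_one {w : G} (hw : w ∈ D) (hw2 : orderOf w = 2)
    (h4 : ∀ R : Subgroup G, R ≤ D → ∀ v ∈ R, orderOf v = 2 → (∀ r ∈ R, v * r = r * v) →
      v ≠ S.z → Nat.card R ≤ 4)
    (hne : ¬ C.Rel w S.z) : C.rk w = 1 := by
  have := charP_res hM
  refine le_antisymm ?_ (C.one_le_rk hw)
  rw [C.rk_eq hw]
  set K := Subgroup.centralizer ({w} : Set G) with hKdef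
  let _ : Fintype K := Fintype.ofFinite _
  set f := C.blk hw
  have hf : IsPBlock M f := C.isPBlock_blk hw
  set wK : K := ⟨w, Subgroup.mem_centralizer_singleton_iff.2 rfl⟩
  have hwc : wK ∈ Subgroup.center K := Subgroup.mem_center_iff.2 fun c => Subtype.ext
    (Subgroup.mem_centralizer_singleton_iff.1 c.2)
  have hwo : orderOf wK = 2 := by rw [← Subgroup.orderOf_coe]; exact hw2
  refine KleinDefect.blockRank_le_one_of_central hM hwc hwo hf ?_
  obtain ⟨P, hP⟩ := exists_defectGroup hM hf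
  obtain ⟨Cf⟩ := exists_ctx hM hf hP
  by_contra hd
  have hP8 : 4 < Nat.card P := by
    rw [BlockCover.natCard_defect hM hf hP]
    calc 4 = 2 ^ 2 := by norm_num
      _ < _ := Nat.pow_lt_pow_right one_lt_two (by omega)
  haveI : (Subgroup.zpowers wK).Normal := ⟨fun x hx g => by
    obtain ⟨i, rfl⟩ := Subgroup.mem_zpowers_iff.1 hx
    rw [Subgroup.mem_center_iff.1 (Subgroup.zpow_mem _ hwc i) g, mul_inv_cancel_right]
    exact Subgroup.zpow_mem_zpowers _ i⟩
  have hwP : wK ∈ P := Blocks.normal_le_defect hM hf (P := Subgroup.zpowers wK)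
    (IsPGroup.of_card (n := 1) (by rw [Nat.card_zpowers, hwo, pow_one])) hP
    (Subgroup.mem_zpowers _)
  set P' := P.map K.subtype with hP'
  have hwP' : w ∈ P' := ⟨wK, hwP, rfl⟩
  have hQP : Subgroup.zpowers w ≤ P' := Subgroup.zpowers_le.2 hwP'
  have hPK : P' ≤ cz (Subgroup.zpowers w) :=
    (centralizer_singleton_eq w).le.trans' (Subgroup.map_subtype_le P)
  have hcz : cz P' ≤ K := (cz_anti hQP).trans (centralizer_singleton_eq w).ge
  have hpP : IsPGroup 2 P' := Cf.pgroup.map _
  have hblk : IsBlockIdem (cz P') (inclA (ResK M) K Cf.e0) :=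
    cz_map_subtype hcz ▸ Cf.block.inclA_map
  have hcov : brMap (ResK M) P' (C.a w) * inclA (ResK M) K Cf.e0 = inclA (ResK M) K Cf.e0 := by
    rw [← C.eA_blk hw, ← inclA_eG, ← inclA_brMap, ← map_mul, Cf.cover]
  have hsub : NormalSub 2 (Subgroup.zpowers w, C.a w) (P', inclA (ResK M) K Cf.e0) :=
    ⟨hpP.to_le hQP, hpP, C.a_block hw, hblk, hQP, hPK.trans (cz_le_normalizer _),
      fixAlg_anti hPK (C.a_block hw).fixed, hcov⟩
  have hE := isBlockIdem_eG hM C.hB
  have hO : OverPair 2 (⊥ : Subgroup G) (eG hM B) ⊤ P' (inclA (ResK M) K Cf.e0) :=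
    ⟨hpP, bot_le, le_top, hblk,
      (brMap_cover_iff (Relation.ReflTransGen.single hsub) hE.fixed hE.idem).1 (C.cover_a hw)⟩
  obtain ⟨g, -, hg⟩ := (brSetup_block hM C.hB).exists_conj_le (hasBlocks hM) hO C.isDefect
    ⟨C.pgroup, bot_le, le_top, C.block, C.cover⟩
  have hle : PairLE 2 (conjPair g (Subgroup.zpowers w, C.a w)) (D, C.e0) :=
    (PairLE.conj (Relation.ReflTransGen.single hsub) g).trans hg
  rw [BPStar.conjPair_eq_zpowers] at hle
  have hvD : g * w * g⁻¹ ∈ D := hle.le (Subgroup.mem_zpowers _)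
  have hvo : orderOf (g * w * g⁻¹) = 2 := by rw [BPStar.orderOf_conj', hw2]
  have hz : g * w * g⁻¹ = S.z := by
    by_contra hz
    refine absurd (h4 (P'.map (MulAut.conj g).toMonoidHom) hg.le _ ⟨w, hwP', rfl⟩ hvo ?_ hz) ?_
    · rintro _ ⟨r, hr, rfl⟩
      show g * w * g⁻¹ * (g * r * g⁻¹) = g * r * g⁻¹ * (g * w * g⁻¹)
      have h1 : r * w = w * r := Subgroup.mem_centralizer_singleton_iff.1
        (Subgroup.map_subtype_le P hr)
      calc g * w * g⁻¹ * (g * r * g⁻¹) = g * (w * r) * g⁻¹ := by group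
        _ = g * (r * w) * g⁻¹ := by rw [h1]
        _ = _ := by group
    · rw [Subgroup.card_map_of_injective (MulAut.conj g).injective,
        Subgroup.card_map_of_injective K.subtype_injective]
      exact hP8.not_ge
  refine hne ⟨hw, S.z_mem, g, hz, ?_⟩
  rw [C.a_unique hvD hle, hz]

end Ctx

end CfsgLib.QuatDefect
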